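import Cfsg.Agent.H27.FK1

/-! S5161: block groups (linear, unitary, symplectic, odd characteristic): the frame and the block stabilizer. -/

set_option autoImplicit false
set_option linter.unusedSectionVars false

namespace H11.FK
open Cfsg Subgroup H25 H27.FK Matrix Function
open scoped commutatorElement MatrixGroups

section SL2
variable {F : Type} [Field F]

theorem ex_ab (F : Type) [Field F] [Finite F] : ∃ x : F × F, x.1 ^ 2 + x.2 ^ 2 = -1 := by
  obtain ⟨p, hp⟩ := CharP.exists F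
  have : NeZero p := ⟨CharP.char_ne_zero_of_finite F p⟩
  obtain ⟨a, b, e⟩ := CharP.sq_add_sq F p (-1)
  exact ⟨(a, b), by simpa using e⟩

variable (F) in
/-- the rotation -/
def J : SL(2, F) := ⟨!![0, -1; 1, 0], by simp [det_fin_two]⟩
variable (F) in
/-- a second element of order four -/
noncomputable def J' [Finite F] : SL(2, F) := ⟨!![(ex_ab F).choose.1, (ex_ab F).choose.2; (ex_ab F).choose.2, -(ex_ab F).choose.1], by
  rw [det_fin_two_of]; linear_combination -(ex_ab F).choose_spec⟩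
theorem Jv : (J F).1 = !![0, -1; 1, 0] := rfl
variable [Finite F]
theorem J'_eq : ∃ a b : F, a ^ 2 + b ^ 2 = -1 ∧ (J' F).1 = !![a, b; b, -a] := ⟨_, _, (ex_ab F).choose_spec, rfl⟩
theorem JJ : J F * J F = -1 := by ext i j; fin_cases i <;> fin_cases j <;> simp [Jv]
theorem JJ' : J' F * J' F = -1 := by
  obtain ⟨a, b, h, e⟩ := J'_eq (F := F)
  ext i j; fin_cases i <;> fin_cases j <;> simp [e] <;> first | ring1 | linear_combination h
theorem J'J : J' F * J F = -(J F * J' F) := by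
  obtain ⟨a, b, h, e⟩ := J'_eq (F := F)
  ext i j; fin_cases i <;> fin_cases j <;> simp [e, Jv]

omit [Finite F] in
theorem cJ {x : Matrix (Fin 2) (Fin 2) F} (h : x * !![0, -1; 1, 0] = !![0, -1; 1, 0] * x) : x = !![x 0 0, -x 1 0; x 1 0, x 0 0] := by
  have h1 := congrFun (congrFun h 0) 0
  have h2 := congrFun (congrFun h 0) 1
  simp [mul_apply, Fin.sum_univ_two] at h1 h2
  ext i j; fin_cases i <;> fin_cases j <;> simp [h1, h2]

theorem sq_one {y : SL(2, F)} (two : (2 : F) ≠ 0) (h : y * y = 1) : y = 1 ∨ y = -1 := by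
  have d := y.det_coe
  have e : y.1 = adjugate y.1 := by rw [← Matrix.SpecialLinearGroup.coe_inv y, inv_eq_of_mul_eq_one_right h]
  rw [det_fin_two] at d
  have e1 := congrFun (congrFun e 0) 1
  have e2 := congrFun (congrFun e 1) 0
  have e3 := congrFun (congrFun e 1) 1
  simp [adjugate_fin_two, eq_neg_iff_add_eq_zero, ← two_mul, two] at e1 e2 e3
  rw [e1, e3, zero_mul, sub_zero] at d
  refine (mul_self_eq_one_iff.1 d).imp (fun k => ?_) fun k => ?_ <;>
  · ext i j; fin_cases i <;> fin_cases j <;> simp [e1, e2, e3, k]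

theorem pow_inv {M : Type*} [Monoid M] {y : M} {n : ℕ} (h : y ^ 2 ^ n = 1) (h1 : y ≠ 1) : ∃ k, y ^ k * y ^ k = 1 ∧ y ^ k ≠ 1 := by
  induction n generalizing y with
  | zero => exact (h1 (by simpa using h)).elim
  | succ n ih =>
    by_cases c : y ^ 2 = 1
    · exact ⟨1, by rwa [pow_one, ← sq], by rwa [pow_one]⟩
    · obtain ⟨k, e⟩ := ih (by rw [← pow_mul, ← pow_succ', h]) c
      exact ⟨2 * k, by rwa [pow_mul]⟩
end SL2

/-- a block group -/
structure BG (H E F n ι : Type) [Group H] [Field E] [Field F] [Fintype n] [DecidableEq n] [Fintype ι] [DecidableEq ι] where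
  ρ : H →* Matrix n n E
  φ : F →+* E
  σ : E →+* E
  P : ι → Matrix n (Fin 2) E
  R : ι → Matrix (Fin 2) n E
  p0 : Matrix n n E
  st : Matrix n n E →+ Matrix n n E
  ε : Prop
  two : (2 : E) ≠ 0
  inj : Injective ρ
  RP : ∀ j k, R j * P k = if j = k then 1 else 0
  sum : ∑ j, P j * R j + p0 = 1
  rk : ∀ a, ∃ c : E, p0 * a * p0 = c • p0
  st_mul : ε → ∀ a b, st (a * b) = st b * st a
  st_one : ε → st 1 = 1
  st_blk : ε → ∀ j k (x : Matrix (Fin 2) (Fin 2) E), st (P j * (x * R k)) = P k * ((x.map σ).adjugate * R j)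
  mem : ∀ M : Matrix n n E, M.det = 1 → (ε → st M * M = 1) → ∃ g, ρ g = M
  un : ε → ∀ g, st (ρ g) * ρ g = 1
  fix : ∀ c, σ c = c ↔ c ∈ φ.range
  sl : ε ∨ ∀ c, σ c = c
  odd : p0 ≠ 0 → ∃ j g g', ρ g * p0 * ρ g⁻¹ + ρ g' * p0 * ρ g'⁻¹ = P j * R j

namespace BG
variable {H E F n ι : Type} [Group H] [Finite H] [Field E] [Field F] [Finite F] [Fintype n] [DecidableEq n] [Fintype ι] [DecidableEq ι]
  (B : BG H E F n ι) {i j k : ι} {x y X Y : Matrix (Fin 2) (Fin 2) E} {a a' : Matrix n n E} {g h : H} {u v : SL(2, F)}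

theorem RP' {m : Type} (j k : ι) (x : Matrix (Fin 2) m E) : B.R j * (B.P k * x) = if j = k then x else 0 := by
  rw [← Matrix.mul_assoc, B.RP]; split_ifs <;> simp
theorem p0_def : B.p0 = 1 - ∑ j, B.P j * B.R j := eq_sub_of_add_eq' B.sum
theorem p0P (j : ι) : B.p0 * B.P j = 0 := by
  have : ∀ i, B.P i * (if i = j then (1 : Matrix (Fin 2) (Fin 2) E) else 0) = if i = j then B.P j else 0 := fun i => by
    split_ifs with e <;> simp [e]
  simp [p0_def, Matrix.sub_mul, Matrix.sum_mul, Matrix.mul_assoc, B.RP, this]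
theorem Rp0 (j : ι) : B.R j * B.p0 = 0 := by simp [p0_def, Matrix.mul_sub, Matrix.mul_sum, B.RP']
theorem p0P' {m : Type} (j : ι) (x : Matrix (Fin 2) m E) : B.p0 * (B.P j * x) = 0 := by rw [← Matrix.mul_assoc, p0P, Matrix.zero_mul]
theorem p00 : B.p0 * B.p0 = B.p0 := by
  nth_rw 2 [p0_def]; simp [Matrix.mul_sub, Matrix.mul_sum, p0P']
theorem ext (h1 : ∀ j, a * B.P j = a' * B.P j) (h0 : a * B.p0 = a' * B.p0) : a = a' := by
  rw [← mul_one a, ← mul_one a', ← B.sum]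
  simp only [mul_add, Matrix.mul_sum, ← Matrix.mul_assoc, h1, h0]
theorem P_inj (h : B.P j * x = B.P j * y) : x = y := by simpa [B.RP'] using congrArg (B.R j * ·) h
include B in
theorem twoF : (2 : F) ≠ 0 := fun e => B.two (by rw [← map_ofNat B.φ, e, map_zero])

/-- a matrix in one block -/
def up (j : ι) (x : Matrix (Fin 2) (Fin 2) E) : Matrix n n E := 1 + B.P j * ((x - 1) * B.R j)
theorem up_P (j k : ι) (x) : B.up j x * B.P k = if j = k then B.P k * x else B.P k := by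
  simp only [up, Matrix.add_mul, Matrix.mul_assoc, B.RP]; split_ifs with e <;> simp [e, Matrix.mul_sub]
theorem up_P' {m : Type} (j k : ι) (x) (y : Matrix (Fin 2) m E) :
    B.up j x * (B.P k * y) = if j = k then B.P k * (x * y) else B.P k * y := by
  rw [← Matrix.mul_assoc, up_P]; split_ifs <;> simp [Matrix.mul_assoc]
theorem up_p0 (j : ι) (x) : B.up j x * B.p0 = B.p0 := by simp [up, Matrix.add_mul, Matrix.mul_assoc, Rp0]
theorem up_mul (j : ι) (x y) : B.up j x * B.up j y = B.up j (x * y) := B.ext (fun k => by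
  by_cases e : j = k <;> simp [Matrix.mul_assoc, up_P, up_P', e]) (by simp [mul_assoc, up_p0])
theorem up_one (j : ι) : B.up j 1 = 1 := by simp [up]
theorem det_up (j : ι) (x) : (B.up j x).det = x.det := by
  rw [up, det_one_add_mul_comm]; simp [Matrix.mul_assoc, B.RP]
theorem st_pr (e : B.ε) (j k : ι) : B.st (B.P j * B.R k) = B.P k * B.R j := by simpa using B.st_blk e j k 1
theorem st_up (e : B.ε) (j : ι) (x) : B.st (B.up j x) = B.up j (x.map B.σ).adjugate := by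
  simp [up, Matrix.sub_mul, Matrix.mul_sub, B.st_one e, B.st_blk e, B.st_pr e]
theorem R_st (e : B.ε) (j k : ι) (a) : B.R j * (B.st a * B.P k) = ((B.R k * (a * B.P j)).map B.σ).adjugate := by
  have := congrArg (fun m => B.R j * (m * B.P k)) (B.st_blk e k j (B.R k * (a * B.P j)))
  rw [show B.P k * (B.R k * (a * B.P j) * B.R j) = B.P k * B.R k * (a * (B.P j * B.R j)) by simp only [Matrix.mul_assoc],
    B.st_mul e, B.st_mul e, B.st_pr e, B.st_pr e] at this
  simpa [Matrix.mul_assoc, B.RP, B.RP'] using this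

/-- change of the field -/
def μ : SL(2, F) →* Matrix (Fin 2) (Fin 2) E where
  toFun y := y.1.map B.φ
  map_one' := by simp
  map_mul' u v := by simp
theorem μ_def (u : SL(2, F)) : B.μ u = u.1.map B.φ := rfl
theorem μ_inj : Injective B.μ := fun _ _ e => Subtype.ext (map_injective B.φ.injective e)
theorem det_μ (u : SL(2, F)) : (B.μ u).det = 1 := by rw [μ_def, ← RingHom.mapMatrix_apply, ← RingHom.map_det]; simp
theorem μ_neg (u : SL(2, F)) : B.μ (-u) = -B.μ u := by ext; simp [μ_def]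
theorem μ_σ (u : SL(2, F)) : (B.μ u).map B.σ = B.μ u := by ext; exact (B.fix _).2 ⟨_, rfl⟩
theorem μJ : B.μ (J F) = !![0, -1; 1, 0] := by ext i j; fin_cases i <;> fin_cases j <;> simp [μ_def, Jv]
theorem adj (e : B.ε) (h : B.ρ g * B.P j = B.P j * X) : (X.map B.σ).adjugate * X = 1 := by
  have := congrArg (fun m => B.R j * (m * B.P j)) (B.un e g)
  simp only [Matrix.mul_assoc, h, Matrix.one_mul, B.RP, if_true] at this
  rw [← Matrix.mul_assoc (B.st _), ← Matrix.mul_assoc, B.R_st e, h, B.RP'] at this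
  simpa using this
theorem ex_μ (h : B.ρ g * B.P j = B.P j * X) (d : X.det = 1) : ∃ u, B.μ u = X := by
  have k : X.map B.σ = X := B.sl.elim (fun e => by
    have := (left_inv_eq_left_inv (B.adj e h) (by rw [adjugate_mul, d, one_smul]))
    simpa [adjugate_adjugate] using congrArg adjugate this) fun e => by ext; exact e _
  choose w hw using fun a b => (B.fix _).1 (congrFun (congrFun k a) b)
  have e : (of w).map B.φ = X := by ext; exact hw ..
  exact ⟨⟨of w, B.φ.injective (by rw [RingHom.map_det, RingHom.mapMatrix_apply, e, d, map_one])⟩, e⟩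

theorem ex_s (j : ι) (u : SL(2, F)) : ∃ g, B.ρ g = B.up j (B.μ u) := B.mem _ (by rw [det_up, det_μ]) fun e => by
  rw [B.st_up e, up_mul, μ_σ, adjugate_mul, det_μ, one_smul, up_one]
/-- the fundamental subgroups -/
noncomputable def s (j : ι) : SL(2, F) →* H := MonoidHom.mk' (fun u => (B.ex_s j u).choose) fun u v => B.inj (by
  rw [map_mul B.ρ, (B.ex_s j u).choose_spec, (B.ex_s j v).choose_spec, (B.ex_s j _).choose_spec, up_mul, map_mul])
theorem ρs (j : ι) (u) : B.ρ (B.s j u) = B.up j (B.μ u) := (B.ex_s j u).choose_spec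
theorem s_comm (e : j ≠ k) (u v) : Commute (B.s j u) (B.s k v) := B.inj (B.ext (fun i => by
  by_cases e1 : j = i <;> by_cases e2 : k = i <;> simp_all [ρs, Matrix.mul_assoc, up_P, up_P']) (by simp [ρs, mul_assoc, up_p0]))
theorem s_inj (j : ι) : Injective (B.s j) := fun u v e => B.μ_inj (B.P_inj (j := j) (by
  simpa [ρs, up_P] using congrArg (B.ρ · * B.P j) e))
theorem ss_one (e : j ≠ k) (h : B.s j u * B.s k v = 1) : u = 1 := B.μ_inj (B.P_inj (j := j) (by
  simpa [ρs, Matrix.mul_assoc, up_P, e.symm] using congrArg (B.ρ · * B.P j) h))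
include B in
theorem n1 : (-1 : SL(2, F)) ≠ 1 := fun e => B.twoF (by
  have := congrFun (congrFun (congrArg Subtype.val e) 0) 0
  simp at this; linear_combination -this)

/-- the classical involutions -/
noncomputable def z (j : ι) : H := B.s j (-1)
theorem ρz (j : ι) : B.ρ (B.z j) = 1 - (2 : E) • (B.P j * B.R j) := by
  simp [z, ρs, up, μ_neg, Matrix.add_mul, Matrix.mul_add, two_smul, sub_eq_add_neg]
theorem zz (j : ι) : B.z j * B.z j = 1 := by rw [z, ← map_mul]; simp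
theorem z_comm (j k : ι) (u) : Commute (B.z j) (B.s k u) := by
  by_cases e : j = k
  · subst e; exact (Commute.neg_one_left u).map _
  · exact B.s_comm e ..
theorem z_inj : Injective B.z := fun j k e => by_contra fun n => B.n1 (B.ss_one n (by rw [← z, e]; exact B.zz k))

/-- the stabilizer of the decomposition -/
noncomputable def N : Subgroup H := normalizer (Set.range B.z)
/-- the block diagonal elements -/
noncomputable def K : Subgroup H := centralizer (Set.range B.z)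
theorem mem_K : g ∈ B.K ↔ ∀ j, g * B.z j * g⁻¹ = B.z j := by
  simp only [K, mem_centralizer_iff, mul_inv_eq_iff_eq_mul, Set.forall_mem_range]; exact forall_congr' fun _ => eq_comm
theorem mem_N : g ∈ B.N ↔ ∀ j, ∃ k, g * B.z j * g⁻¹ = B.z k :=
  ⟨fun h j => ((h _).1 ⟨j, rfl⟩).imp fun _ => Eq.symm,
    fun h => mem_normalizer_fintype (by rintro _ ⟨j, rfl⟩; exact (h j).imp fun _ => Eq.symm)⟩
theorem KN : B.K ≤ B.N := centralizer_le_normalizer _
theorem sK (j : ι) (u) : B.s j u ∈ B.K := B.mem_K.2 fun k => by rw [← (B.z_comm k j u).eq, mul_inv_cancel_right]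
/-- the action on the blocks -/
@[reducible] noncomputable def act : MulAction B.N ι where
  smul g j := (B.mem_N.1 g.2 j).choose
  one_smul j := B.z_inj ((B.mem_N.1 (1 : B.N).2 j).choose_spec.symm.trans (by simp))
  mul_smul g h j := B.z_inj ((B.mem_N.1 (g * h).2 j).choose_spec.symm.trans (Eq.trans (by
    rw [← (B.mem_N.1 h.2 j).choose_spec]; simp [mul_assoc]) (B.mem_N.1 g.2 (B.mem_N.1 h.2 j).choose).choose_spec))
/-- the permutation of the blocks -/
noncomputable def π : B.N →* Equiv.Perm ι := @MulAction.toPermHom _ _ _ B.act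
theorem π_spec (g : B.N) (j : ι) : g.1 * B.z j * g.1⁻¹ = B.z (B.π g j) := (B.mem_N.1 g.2 j).choose_spec
theorem π_one {g : B.N} : B.π g = 1 ↔ g.1 ∈ B.K := by
  simp only [mem_K, π_spec, B.z_inj.eq_iff, Equiv.ext_iff, Equiv.Perm.one_apply]
theorem NK : B.N ≤ nz B.K := fun g hg => mem_nz_of_conj_mem fun x hx => by
  exact (B.π_one (g := ⟨g, hg⟩ * ⟨x, B.KN hx⟩ * ⟨g, hg⟩⁻¹)).1 (by rw [map_mul, map_mul, (B.π_one (g := ⟨x, B.KN hx⟩)).2 hx]; simp)

include B in
theorem two_inj (h : (2 : E) • a = (2 : E) • a') : a = a' := smul_right_injective _ B.two h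
theorem ρ_inv (g : H) : B.ρ g * B.ρ g⁻¹ = 1 := by rw [← map_mul]; simp
theorem inv_ρ (g : H) : B.ρ g⁻¹ * B.ρ g = 1 := by rw [← map_mul]; simp
theorem ρ_inv' {m : Type} (g : H) (x : Matrix n m E) : B.ρ g * (B.ρ g⁻¹ * x) = x := by rw [← Matrix.mul_assoc, ρ_inv, Matrix.one_mul]
theorem inv_ρ' {m : Type} (g : H) (x : Matrix n m E) : B.ρ g⁻¹ * (B.ρ g * x) = x := by rw [← Matrix.mul_assoc, inv_ρ, Matrix.one_mul]
theorem cz_iff : g * B.z j * g⁻¹ = B.z k ↔ B.ρ g * (B.P j * B.R j) = B.P k * B.R k * B.ρ g := by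
  rw [mul_inv_eq_iff_eq_mul, ← B.inj.eq_iff, map_mul, map_mul, ρz, ρz, mul_sub, sub_mul, mul_one, one_mul, sub_right_inj,
    mul_smul_comm, smul_mul_assoc]
  exact ⟨B.two_inj, congrArg _⟩
theorem cz_P (h : g * B.z j * g⁻¹ = B.z k) : B.ρ g * B.P j = B.P k * (B.R k * (B.ρ g * B.P j)) := by
  simpa [Matrix.mul_assoc, B.RP] using congrArg (· * B.P j) (B.cz_iff.1 h)
theorem N_p0 (h : g ∈ B.N) : B.ρ g * B.p0 = B.p0 * B.ρ g := by
  rw [p0_def, mul_sub, sub_mul, mul_one, one_mul, Finset.mul_sum, Finset.sum_mul, ← Equiv.sum_comp (B.π ⟨g, h⟩) fun j => B.P j * B.R j * B.ρ g]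
  exact congrArg _ (Finset.sum_congr rfl fun j _ => B.cz_iff.1 (B.π_spec ⟨g, h⟩ j))

/-- the blocks -/
def b (j : ι) (g : H) : Matrix (Fin 2) (Fin 2) E := B.R j * (B.ρ g * B.P j)
theorem bP (h : g ∈ B.K) (j : ι) : B.ρ g * B.P j = B.P j * B.b j g := B.cz_P (B.mem_K.1 h j)
theorem bP' {m : Type} (h : g ∈ B.K) (j : ι) (x : Matrix (Fin 2) m E) : B.ρ g * (B.P j * x) = B.P j * (B.b j g * x) := by
  rw [← Matrix.mul_assoc, B.bP h, Matrix.mul_assoc]
theorem b_of (h : B.ρ g * B.P j = B.P j * X) : B.b j g = X := by simp [b, h, RP']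
theorem b_mul (hg : g ∈ B.K) (hh : h ∈ B.K) (j : ι) : B.b j (g * h) = B.b j g * B.b j h :=
  B.b_of (by rw [map_mul, Matrix.mul_assoc, B.bP hh, B.bP' hg])
theorem b_one (j : ι) : B.b j 1 = 1 := B.b_of (by simp)
theorem b_s (j k : ι) (u) : B.b j (B.s k u) = if k = j then B.μ u else 1 := B.b_of (by rw [ρs, up_P]; split_ifs <;> simp)
/-- the block homomorphisms -/
noncomputable def bu (j : ι) : B.K →* GL (Fin 2) E :=
  MonoidHom.toHomUnits ⟨⟨fun g => B.b j g.1, B.b_one j⟩, fun g h => B.b_mul g.2 h.2 j⟩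
theorem bu_val (j : ι) (g : B.K) : (B.bu j g).1 = B.b j g.1 := rfl
theorem ex_c (h : g ∈ B.N) : ∃ c : E, B.ρ g * B.p0 = c • B.p0 := (B.rk (B.ρ g)).imp fun c e => by
  rw [← e, ← B.N_p0 h, mul_assoc, p00]
theorem K_of (h : ∀ j, ∃ X : Matrix (Fin 2) (Fin 2) E, B.ρ g * B.P j = B.P j * X) (h0 : B.p0 * (B.ρ g * B.p0) = B.ρ g * B.p0) : g ∈ B.K :=
  B.mem_K.2 fun j => B.cz_iff.2 (B.ext (fun k => by
    obtain ⟨X, e⟩ := h k
    by_cases e1 : j = k <;> simp [Matrix.mul_assoc, e, B.RP, B.RP', e1]) (by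
    rw [mul_assoc, mul_assoc, ← h0, Matrix.mul_assoc, Matrix.mul_assoc, ← Matrix.mul_assoc (B.R j), Rp0]; simp))
theorem K_ext (hg : g ∈ B.K) (hh : h ∈ B.K) (e : ∀ j, B.b j g = B.b j h) (e0 : B.ρ g * B.p0 = B.ρ h * B.p0) : g = h :=
  B.inj (B.ext (fun j => by rw [B.bP hg, B.bP hh, e]) e0)
theorem K_comm (hg : g ∈ B.K) (hh : h ∈ B.K) (e : ∀ j, Commute (B.b j g) (B.b j h)) : Commute g h := by
  obtain ⟨c, e1⟩ := B.ex_c (B.KN hg)
  obtain ⟨d, e2⟩ := B.ex_c (B.KN hh)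
  exact B.K_ext (mul_mem hg hh) (mul_mem hh hg) (fun j => by rw [B.b_mul hg hh, B.b_mul hh hg, e j])
    (by simp [mul_assoc, e1, e2, smul_smul, mul_comm])
theorem eq_s (hg : g ∈ B.K) (e : B.b j g = B.μ u) (e1 : ∀ k, k ≠ j → B.b k g = 1) (e0 : B.ρ g * B.p0 = B.p0) : g = B.s j u :=
  B.K_ext hg (B.sK _ _) (fun k => by rw [b_s]; split_ifs with h; exacts [h ▸ e, e1 k (Ne.symm h)]) (by rw [e0, ρs, up_p0])

theorem cj_s (hg : g ∈ B.N) (j : ι) (u) : ∃ v, g * B.s j u * g⁻¹ = B.s (B.π ⟨g, hg⟩ j) v := by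
  have m : g * B.s j u * g⁻¹ ∈ B.K := conj_mem_of_mem_nz (B.NK hg) (B.sK _ _)
  have k : ∀ i, B.ρ g⁻¹ * B.P (B.π ⟨g, hg⟩ i) = B.P i * (B.R i * (B.ρ g⁻¹ * B.P (B.π ⟨g, hg⟩ i))) := fun i =>
    B.cz_P (by rw [← B.π_spec]; simp [mul_assoc])
  have k1 := B.cz_P (B.π_spec ⟨g, hg⟩ j)
  generalize B.R _ * (B.ρ g * B.P j) = X at k1
  have e : ∀ Y, B.ρ g * (B.up j Y * (B.ρ g⁻¹ * B.P (B.π ⟨g, hg⟩ j))) =
      B.P (B.π ⟨g, hg⟩ j) * (X * (Y * (B.R j * (B.ρ g⁻¹ * B.P (B.π ⟨g, hg⟩ j))))) := fun Y => by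
    rw [k, up_P', if_pos rfl, ← k, ← Matrix.mul_assoc, k1, Matrix.mul_assoc]
  have e1 := e 1
  rw [up_one, Matrix.one_mul, Matrix.one_mul, ρ_inv'] at e1
  have e2 := congrArg det (B.P_inj ((Matrix.mul_one _).trans e1))
  have e3 := e (B.μ u)
  rw [← ρs, ← Matrix.mul_assoc, ← Matrix.mul_assoc, ← map_mul, ← map_mul] at e3
  obtain ⟨v, hv⟩ := B.ex_μ e3 (by simpa [det_μ] using e2.symm)
  refine ⟨v, B.eq_s m ((B.b_of e3).trans hv.symm) (fun i n => B.b_of ?_) ?_⟩
  · obtain ⟨i, rfl⟩ := (B.π ⟨g, hg⟩).surjective i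
    rw [map_mul, map_mul, ρs, Matrix.mul_assoc, Matrix.mul_assoc, k, up_P', if_neg fun e => n (by rw [e]), ← k, ρ_inv', Matrix.mul_one]
  · rw [map_mul, map_mul, ρs, mul_assoc, mul_assoc, B.N_p0 (inv_mem hg), ← mul_assoc (B.up _ _), up_p0, ← B.N_p0 (inv_mem hg), ρ_inv']

theorem pi (p : H → Prop) (h1 : p 1) (hm : ∀ x y, Commute x y → p x → p y → p (x * y)) (hg : g ∈ B.K) (y : ι → SL(2, F))
    (hy : ∀ j, B.b j g = B.μ (y j)) (h0 : B.ρ g * B.p0 = B.p0) (h : ∀ j, p (B.s j (y j))) : p g := by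
  suffices k : ∀ U : Finset ι, ∃ c ∈ B.K, p c ∧ (∀ j, B.b j c = if j ∈ U then B.μ (y j) else 1) ∧ B.ρ c * B.p0 = B.p0 by
    obtain ⟨c, m, a, e, e0⟩ := k Finset.univ
    rwa [B.K_ext hg m (fun j => by simp [e, hy]) (h0.trans e0.symm)]
  intro U
  induction U using Finset.induction_on with
  | empty => exact ⟨1, one_mem _, h1, by simp [b_one], by simp⟩
  | insert a U n ih =>
    obtain ⟨c, m, pc, e, e0⟩ := ih
    refine ⟨_, mul_mem (B.sK a (y a)) m, hm _ _ (B.K_comm (B.sK _ _) m fun j => ?_) (h a) pc, fun j => ?_, by simp [mul_assoc, e0, ρs, up_p0]⟩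
    · rw [b_s, e]; by_cases k : a = j
      · simp [← k, n]
      · simp [k]
    · rw [B.b_mul (B.sK _ _) m, b_s, e]; by_cases k : a = j
      · simp [← k, n]
      · simp [k, Ne.symm k]

theorem scal (h : X * B.μ (J F) = B.μ (J F) * X) (h' : X * B.μ (J' F) = B.μ (J' F) * X) : X = X 0 0 • 1 := by
  obtain ⟨a, c, h0, e⟩ := J'_eq (F := F)
  rw [μJ] at h
  rw [cJ h, μ_def, e] at h'
  have h1 := congrFun (congrFun h' 0) 0
  have h2 := congrFun (congrFun h' 0) 1
  have h3 := congrArg B.φ h0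
  simp [mul_apply, Fin.sum_univ_two] at h1 h2 h3
  have : X 1 0 = 0 := mul_left_cancel₀ B.two (by linear_combination B.φ c * h1 - B.φ a * h2 + 2 * X 1 0 * h3)
  rw [cJ h]; ext i j; fin_cases i <;> fin_cases j <;> simp [this]

/-- the swap of two blocks -/
def tm (j k : ι) : Matrix n n E := 1 - B.P j * B.R j - B.P k * B.R k + B.P j * B.R k + B.P k * B.R j
theorem tm_P (e : j ≠ k) (i : ι) : B.tm j k * B.P i = B.P (Equiv.swap j k i) := by
  by_cases e1 : j = i
  · subst e1; simp [tm, Matrix.add_mul, Matrix.sub_mul, Matrix.mul_assoc, B.RP, e.symm]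
  by_cases e2 : k = i
  · subst e2; simp [tm, Matrix.add_mul, Matrix.sub_mul, Matrix.mul_assoc, B.RP, e]
  simp [tm, Matrix.add_mul, Matrix.sub_mul, Matrix.mul_assoc, B.RP, e1, e2, Equiv.swap_apply_of_ne_of_ne (Ne.symm e1) (Ne.symm e2)]
theorem tm_p0 : B.tm j k * B.p0 = B.p0 := by simp [tm, Matrix.add_mul, Matrix.sub_mul, Matrix.mul_assoc, Rp0]

theorem ex_τ (e : j ≠ k) : ∃ g t : H, g * B.z k * g⁻¹ = t ∧ B.ρ t = B.tm j k ∧ (∀ i u, t * B.s i u * t⁻¹ = B.s (Equiv.swap j k i) u) ∧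
    ∀ x ∈ B.K, ∀ c : E, B.b j x = c • 1 → B.b k x = c • 1 → Commute x g := by
  let A : Matrix (Fin 2) (Fin 2) E := !![2⁻¹, 0; 0, 1]
  let M := (1 + B.P k * B.R j) * ((1 + B.P j * ((-2⁻¹ : E) • B.R k)) * (B.up j A * B.up k ((2 : E) • A)))
  have two := B.two
  have Mj : M * B.P j = B.P j * A + B.P k * A := by
    simp [M, Matrix.mul_assoc, Matrix.add_mul, Matrix.mul_add, up_P, up_P', RP', e, e.symm]
  have Mk : M * B.P k = B.P k * A - B.P j * A := by
    simp [M, Matrix.mul_assoc, Matrix.add_mul, Matrix.mul_add, up_P, up_P', RP', e, e.symm, smul_smul, two]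
    rw [two_smul]; abel
  have Mi : ∀ i, j ≠ i → k ≠ i → M * B.P i = B.P i := fun i a c => by
    simp [M, Matrix.mul_assoc, Matrix.add_mul, up_P, up_P', RP, a, c]
  have M0 : M * B.p0 = B.p0 := by simp [M, Matrix.mul_assoc, Matrix.add_mul, up_p0, Rp0]
  have Md : M = 1 - B.P j * B.R j - B.P k * B.R k + B.P j * (A * B.R j) + B.P k * (A * B.R j) + B.P k * (A * B.R k) -
      B.P j * (A * B.R k) := B.ext (fun i => by
    by_cases e1 : j = i
    · subst e1; simp [Mj, Matrix.add_mul, Matrix.sub_mul, Matrix.mul_assoc, B.RP, e.symm]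
    by_cases e2 : k = i
    · subst e2; simp [Mk, Matrix.add_mul, Matrix.sub_mul, Matrix.mul_assoc, B.RP, e]
    simp [Mi i e1 e2, Matrix.add_mul, Matrix.sub_mul, Matrix.mul_assoc, B.RP, e1, e2]) (by
    simp [M0, Matrix.add_mul, Matrix.sub_mul, Matrix.mul_assoc, Rp0])
  obtain ⟨g, hg⟩ := B.mem M (by
    simp only [M, det_mul, det_up]
    rw [det_one_add_mul_comm, det_one_add_mul_comm (B.P j), B.RP, Matrix.smul_mul, B.RP, if_neg e, if_neg e.symm, det_smul]
    simp only [A, det_fin_two_of, smul_zero, add_zero, det_one, Fintype.card_fin]; field_simp; ring) fun h => by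
    have a : (A.map B.σ).adjugate * A = (2⁻¹ : E) • 1 := by
      ext a c; fin_cases a <;> fin_cases c <;> simp [A, adjugate_fin_two, mul_apply, Fin.sum_univ_two, map_ofNat]
    have a' : ∀ x : Matrix n (Fin 2) E, (2⁻¹ : E) • x + (2⁻¹ : E) • x = x := fun x => by rw [← two_smul E, smul_smul]; simp [two]
    nth_rw 1 [Md]
    simp only [map_add, map_sub, B.st_one h, B.st_pr h, B.st_blk h]
    refine B.ext (fun i => ?_) (by simp [M0, Matrix.add_mul, Matrix.sub_mul, Matrix.mul_assoc, Rp0])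
    by_cases e1 : j = i
    · subst e1; simp [Mj, Matrix.add_mul, Matrix.sub_mul, Matrix.mul_assoc, Matrix.mul_add, B.RP', e.symm, e, a, a']
    by_cases e2 : k = i
    · subst e2; simp [Mk, Matrix.add_mul, Matrix.sub_mul, Matrix.mul_assoc, Matrix.mul_sub, B.RP', e.symm, e, a, a']
    simp [Mi i e1 e2, Matrix.add_mul, Matrix.sub_mul, Matrix.mul_assoc, B.RP, e1, e2]
  have tP : ∀ i (x : Matrix (Fin 2) (Fin 2) E), B.tm j k * (B.P i * x) = B.P (Equiv.swap j k i) * x := fun i x => by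
    rw [← Matrix.mul_assoc, B.tm_P e]
  have t : B.ρ (g * B.z k * g⁻¹) = B.tm j k := by
    rw [map_mul, map_mul, ← mul_one (B.tm j k), ← B.ρ_inv g, ← mul_assoc, hg, z, ρs]
    refine congrArg (· * _) (B.ext (fun i => ?_) (by simp [mul_assoc, up_p0, M0, tm_p0]))
    by_cases e1 : j = i
    · subst e1; simp [Matrix.mul_assoc, up_P, e.symm, Mj, Matrix.mul_add, tP, add_comm]
    by_cases e2 : k = i
    · subst e2; simp [Matrix.mul_assoc, up_P, μ_neg, Mk, Matrix.mul_sub, tP]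
    simp [Matrix.mul_assoc, up_P, e2, Mi i e1 e2, B.tm_P e, Equiv.swap_apply_of_ne_of_ne (Ne.symm e1) (Ne.symm e2)]
  generalize e' : g * B.z k * g⁻¹ = τ at t
  refine ⟨g, τ, e', t, fun i u => mul_inv_eq_iff_eq_mul.2 (B.inj (B.ext (fun l => ?_) (by
    simp only [map_mul, t, ρs, mul_assoc, up_p0, tm_p0]))), fun x hx c h1 h2 => B.inj (B.ext (fun i => ?_) ?_)⟩
  · simp only [map_mul, t, ρs, Matrix.mul_assoc, up_P, B.tm_P e, (Equiv.injective _).eq_iff]
    split_ifs <;> simp [tP, B.tm_P e]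
  · rw [map_mul, map_mul, hg, Matrix.mul_assoc, Matrix.mul_assoc (M : Matrix n n E), B.bP hx i, ← Matrix.mul_assoc M]
    by_cases e1 : j = i
    · subst e1; simp [Mj, Matrix.mul_add, B.bP' hx, h1, h2]
    by_cases e2 : k = i
    · subst e2; simp [Mk, Matrix.mul_sub, B.bP' hx, h1, h2, smul_sub]
    rw [Mi i e1 e2, B.bP hx]
  · obtain ⟨d, e0⟩ := B.ex_c (B.KN hx)
    simp [hg, mul_assoc, M0, e0]

theorem tr_z (j : ι) (g : H) : (B.ρ (g * B.z j * g⁻¹)).trace = (1 : Matrix n n E).trace - 4 := by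
  rw [map_mul, map_mul, trace_mul_cycle, inv_ρ, one_mul, ρz, trace_sub, trace_smul, trace_mul_comm, B.RP]; simp; norm_num
theorem tr_zz (e : j ≠ k) : (B.ρ (B.z j * B.z k)).trace = (1 : Matrix n n E).trace - 8 := by
  simp [ρz, mul_sub, sub_mul, Matrix.mul_assoc, RP', e, trace_mul_comm (B.P _), B.RP]; ring

theorem nb1 {w : H} (hw : w ∈ B.N) (e : g * w * g⁻¹ = B.z i) (hu : u * u = -1) (h : g * B.s j u * g⁻¹ ∈ B.N) : Commute (B.s j u) w := by
  obtain ⟨l, hl⟩ := B.mem_N.1 h i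
  obtain ⟨v, hv⟩ := B.cj_s hw j u⁻¹
  generalize B.π ⟨w, hw⟩ j = k at hv
  have e1 : g * (B.s j u * B.s k v) * g⁻¹ = B.z l * B.z i := by
    rw [← hv, ← hl, ← mul_inv_eq_iff_eq_mul, inv_eq_of_mul_eq_one_right (B.zz i), ← e, map_inv]
    have : w * w = 1 := by rw [← conj_eq_one_iff (a := g), ← conj_mul, e, zz]
    simp [mul_assoc, inv_eq_of_mul_eq_one_right this, ← mul_assoc w w, this]
  by_cases c : l = i
  · rw [c, zz, conj_eq_one_iff, ← hv, map_inv] at e1
    exact commutatorElement_eq_one_iff_commute.1 (e1.symm ▸ by simp [commutatorElement_def, mul_assoc])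
  exfalso
  have e2 : B.s j u * B.s k v * (B.s j u * B.s k v) = 1 := by
    rw [← conj_eq_one_iff (a := g), ← conj_mul, e1, (show Commute (B.z i) (B.z l) from B.z_comm i l (-1)).mul_mul_mul_comm, zz, zz, one_mul]
  by_cases c' : j = k
  · subst c'
    rw [← map_mul] at e1 e2
    rw [← map_mul, ← map_one (B.s j), (B.s_inj j).eq_iff] at e2
    rcases sq_one B.twoF e2 with e3 | e3 <;> rw [e3] at e1
    · exact c (B.z_inj (by rw [← inv_eq_of_mul_eq_one_right (B.zz i), eq_inv_iff_mul_eq_one, ← e1]; simp))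
    · have := (B.tr_z j g).symm.trans ((congrArg (fun x => (B.ρ x).trace) e1).trans (B.tr_zz c))
      exact B.two (pow_eq_zero_iff two_ne_zero |>.1 (by linear_combination this))
  · rw [(B.s_comm c' u v).symm.mul_mul_mul_comm, ← map_mul, ← map_mul, hu] at e2
    exact B.n1 (B.ss_one c' e2)

theorem zJ (j : ι) : B.z j = B.s j (J F) * B.s j (J F) := by rw [← map_mul, JJ, z]
theorem nb {X : Subgroup H} (h1 : ∀ j, B.s j (J F) ∈ X ∧ B.s j (J' F) ∈ X) (h2 : X ≤ B.N) : nz X ≤ B.N := by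
  have zX : ∀ j, B.z j ∈ X := fun j => B.zJ j ▸ mul_mem (h1 j).1 (h1 j).1
  have key : ∀ g ∈ nz X, ∀ i j a, B.ρ g⁻¹ * (B.P i * (B.R i * B.ρ g)) = a →
      (a * B.P j = 0 ∨ a * B.P j = B.P j) ∧ a * (B.P j * B.R j) = B.P j * B.R j * a := fun g hg i j a ha => by
    have c : ∀ k u, u * u = -1 → B.s k u ∈ X → Commute (B.s k u) (g⁻¹ * B.z i * g) := fun k u hu m =>
      B.nb1 (h2 (conj_mem_of_mem_nz' hg (zX i))) (g := g) (i := i) (by group) hu (h2 (conj_mem_of_mem_nz hg m))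
    have m : g⁻¹ * B.z i * g ∈ B.K := B.mem_K.2 fun k => by
      rw [B.zJ k, ← ((c k _ JJ (h1 k).1).mul_left (c k _ JJ (h1 k).1)).eq, mul_inv_cancel_right]
    have c' : ∀ u, u * u = -1 → B.s j u ∈ X → B.b j (g⁻¹ * B.z i * g) * B.μ u = B.μ u * B.b j (g⁻¹ * B.z i * g) := fun u hu k => by
      simpa [B.b_mul m (B.sK _ _), B.b_mul (B.sK _ _) m, b_s] using congrArg (B.b j) (c j u hu k).eq.symm
    have e := B.scal (c' _ JJ (h1 j).1) (c' _ JJ' (h1 j).2)
    have e2 := B.b_mul m m j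
    have e3 := B.bP m j
    have e4 := B.cz_iff.1 (B.mem_K.1 m j)
    have r : B.ρ (g⁻¹ * B.z i * g) = 1 - (2 : E) • a := by simp [ρz, mul_sub, sub_mul, inv_ρ, ← ha, Matrix.mul_assoc]
    rw [show g⁻¹ * B.z i * g * (g⁻¹ * B.z i * g) = 1 by simp [mul_assoc, ← mul_assoc (B.z i), zz], b_one] at e2
    generalize B.b j (g⁻¹ * B.z i * g) 0 0 = c at e
    rw [e] at e2 e3
    rw [r] at e3 e4
    refine ⟨(mul_self_eq_one_iff.1 (by simpa using (congrFun (congrFun e2 0) 0).symm : c * c = 1)).imp (fun k => ?_) fun k => ?_,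
      B.two_inj (by simpa [mul_sub, sub_mul] using e4)⟩
    · simpa [k, B.two, Matrix.sub_mul] using e3
    · refine smul_right_injective _ B.two ?_
      rw [k, Matrix.sub_mul, sub_eq_iff_eq_add, ← sub_eq_iff_eq_add', Matrix.smul_mul] at e3
      simp [← e3, two_smul]
  refine fun g hg => (B.N.inv_mem_iff).1 (B.mem_N.2 fun i => ?_)
  obtain ⟨a, ha⟩ : ∃ a, B.ρ g⁻¹ * (B.P i * (B.R i * B.ρ g)) = a := ⟨_, rfl⟩
  by_cases c : ∃ j, a * B.P j = B.P j
  · obtain ⟨j, e⟩ := c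
    have e1 := (key _ (inv_mem hg) j i _ rfl).1.resolve_left fun k => by
      have := congrArg (fun m => B.R j * (B.ρ g⁻¹ * (m * (B.R i * (B.ρ g * B.P j))))) k
      simp only [← ha, Matrix.mul_assoc] at e
      simp [Matrix.mul_assoc, inv_ρ', e, B.RP] at this
    have e2 : B.P j * B.R j * a = a := by
      simpa [Matrix.mul_assoc, inv_ρ', ← ha] using congrArg (fun m => B.ρ g⁻¹ * (m * (B.R i * B.ρ g))) e1
    rw [← (key g hg i j a ha).2, ← Matrix.mul_assoc, e] at e2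
    exact ⟨j, B.cz_iff.2 (by simp [e2, ← ha, Matrix.mul_assoc, ρ_inv])⟩
  exfalso
  have c0 : ∀ j, a * B.P j = 0 := fun j => (key g hg i j a ha).1.resolve_right fun e => c ⟨j, e⟩
  have c1 : a * B.p0 = a := by rw [p0_def, mul_sub, Finset.mul_sum]; simp [← Matrix.mul_assoc, c0]
  have c2 : B.p0 * a = a := by rw [p0_def, sub_mul, Finset.sum_mul]; simp [← (key g hg i _ a ha).2, ← Matrix.mul_assoc, c0]
  have e : ∀ x : Matrix (Fin 2) (Fin 2) E, ∃ c : E, x = c • (B.R i * (B.ρ g * (B.p0 * (B.ρ g⁻¹ * B.P i)))) := fun x => by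
    obtain ⟨c, e⟩ := B.rk (a * (B.ρ g⁻¹ * (B.P i * (x * (B.R i * B.ρ g))) * a))
    rw [← mul_assoc, c2, mul_assoc, mul_assoc, c1] at e
    exact ⟨c, by simpa [← ha, Matrix.mul_assoc, ρ_inv', RP', B.RP] using congrArg (fun m => B.R i * (B.ρ g * (m * (B.ρ g⁻¹ * B.P i)))) e⟩
  obtain ⟨c1, e1⟩ := e 1
  obtain ⟨c2, e2⟩ := e !![0, 1; 0, 0]
  have := congrFun (congrFun (show c1 • !![0, 1; 0, 0] = c2 • (1 : Matrix (Fin 2) (Fin 2) E) by rw [e2, smul_comm, ← e1]) 0) 1
  simp at this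
  simp [this] at e1

end BG
end H11.FK
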