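import Cfsg.Agent.H11.FK1
import Cfsg.Agent.H12.OmegaFin

/-! S5161: block groups, strongly closed subgroups. -/

set_option autoImplicit false
set_option linter.unusedSectionVars false

namespace H11.FK
open Cfsg Subgroup H25 H27.FK Matrix Function
open scoped commutatorElement MatrixGroups

section SL2
variable {F : Type} [Field F] [Finite F] {k h : SL(2, F)}

theorem bin (two : (2 : F) ≠ 0) {a b c : F} (h : b ^ 2 - 4 * a * c ≠ 0) (d : F) : ∃ x y, a * x ^ 2 + b * x * y + c * y ^ 2 = d := by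
  by_cases a0 : a = 0
  · have : b ≠ 0 := by rintro rfl; simp [a0] at h
    exact ⟨(d - c) / b, 1, by rw [a0]; field_simp; ring⟩
  obtain ⟨u, y, e⟩ := H12.exists_sq_add_sq two one_ne_zero (neg_ne_zero.2 h) (4 * a * d)
  exact ⟨(u - b * y) / (2 * a), y, by field_simp; linear_combination e⟩

theorem tr0 (h : k.1 0 0 + k.1 1 1 = 0) : k * k = -1 := by
  have d := k.det_coe
  rw [det_fin_two] at d
  ext i j; fin_cases i <;> fin_cases j <;> simp [mul_apply, Fin.sum_univ_two]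
  exacts [by linear_combination k.1 0 0 * h - d, by linear_combination k.1 0 1 * h, by linear_combination k.1 1 0 * h,
    by linear_combination k.1 1 1 * h - d]
theorem tr0' (h : k * k = -1) : k.1 1 1 = -k.1 0 0 := by
  have e : k⁻¹ = -k := inv_eq_of_mul_eq_one_right (by rw [mul_neg, h, neg_neg])
  simpa [Matrix.SpecialLinearGroup.coe_inv, adjugate_fin_two] using congrFun (congrFun (congrArg Subtype.val e) 0) 0

theorem c4 (two : (2 : F) ≠ 0) (h : k * k = -1) : IsConj (J F) k := by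
  have d := k.det_coe
  have t := tr0' h
  rw [det_fin_two, t] at d
  obtain ⟨x, y, e⟩ := bin two (a := k.1 1 0) (b := -2 * k.1 0 0) (c := -k.1 0 1) (fun e => two (pow_eq_zero_iff two_ne_zero |>.1 (by
    linear_combination -e - 4 * d))) 1
  let g : SL(2, F) := ⟨!![x, k.1 0 0 * x + k.1 0 1 * y; y, k.1 1 0 * x - k.1 0 0 * y], by rw [det_fin_two_of]; linear_combination e⟩
  have gv : g.1 = !![x, k.1 0 0 * x + k.1 0 1 * y; y, k.1 1 0 * x - k.1 0 0 * y] := rfl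
  refine isConj_iff.2 ⟨g, mul_inv_eq_iff_eq_mul.2 ?_⟩
  ext i j; fin_cases i <;> fin_cases j <;> simp [gv, Jv, mul_apply, Fin.sum_univ_two, t]
  exacts [by linear_combination x * d, by ring, by linear_combination y * d]

theorem nil (two : (2 : F) ≠ 0) {A : Type} [Ring A] [Algebra F A] {ν : A} (h : ν * ν = 0) {n : ℕ} (e : (1 + ν) ^ 2 ^ n = 1) : ν = 0 := by
  induction n generalizing ν with
  | zero => simpa using e
  | succ n ih =>
    have := ih (ν := (2 : F) • ν) (by simp [h]) (by rw [pow_succ', pow_mul, sq] at e; simpa [two_smul, mul_add, add_mul, h, add_assoc] using e)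
    simpa [two] using this

theorem inv4 (two : (2 : F) ≠ 0) {n : ℕ} (e : h ^ 2 ^ n = 1) (h1 : h * h ≠ 1) : ∃ k, k * k = -1 ∧ h * k * (h * k) = -1 := by
  have d := h.det_coe
  rw [det_fin_two] at d
  have t : (h.1 0 0 - h.1 1 1) ^ 2 + 4 * h.1 0 1 * h.1 1 0 ≠ 0 := fun t => h1 (Subtype.ext (sub_eq_zero.1 (nil two (n := n) (ν := (h * h).1 - 1) (by
    ext i j; fin_cases i <;> fin_cases j <;> simp [mul_apply, Fin.sum_univ_two] <;> grind) (by
    rw [add_sub_cancel, ← Matrix.SpecialLinearGroup.coe_pow, ← sq, ← pow_mul, mul_comm, pow_mul, e]; simp))))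
  obtain ⟨a, b, c, e1, e2⟩ : ∃ a b c : F, a ^ 2 + b * c = -1 ∧ (h.1 0 0 - h.1 1 1) * a + h.1 0 1 * c + h.1 1 0 * b = 0 := by
    by_cases z : h.1 0 1 = 0
    · have : h.1 0 0 - h.1 1 1 ≠ 0 := fun k => t (by simp [k, z])
      exact ⟨-h.1 1 0 / (h.1 0 0 - h.1 1 1), 1, -1 - (h.1 1 0 / (h.1 0 0 - h.1 1 1)) ^ 2, by ring, by rw [z]; field_simp; ring⟩
    obtain ⟨x, y, e⟩ := bin two (a := h.1 0 1) (b := -(h.1 0 0 - h.1 1 1)) (c := -h.1 1 0) (fun e => t (by linear_combination e)) (-h.1 0 1)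
    exact ⟨x, y, -((h.1 0 0 - h.1 1 1) * x + h.1 1 0 * y) / h.1 0 1, by field_simp; linear_combination e, by field_simp; ring⟩
  let k : SL(2, F) := ⟨!![a, b; c, -a], by rw [det_fin_two_of]; linear_combination -e1⟩
  have kv : k.1 = !![a, b; c, -a] := rfl
  exact ⟨k, tr0 (by simp [kv]), tr0 (by simp [kv, mul_apply, Fin.sum_univ_two]; linear_combination e2)⟩

theorem nJJ' (two : (2 : F) ≠ 0) : ¬ Commute (J F) (J' F) := fun c => by
  have := J'J (F := F)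
  rw [← c.eq, ← neg_one_mul, eq_comm, mul_eq_right] at this
  have := congrFun (congrFun (congrArg Subtype.val this) 0) 0
  simp at this
  exact two (by linear_combination -this)
end SL2

theorem nz_cl {G : Type*} [Group G] [Finite G] {s : Set G} {g : G} (h : ∀ x ∈ s, g * x * g⁻¹ ∈ closure s) : g ∈ nz (closure s) :=
  mem_nz_of_le (cj_le_iff.2 ((closure_le _).2 fun x hx => mem_cj.2 (by simpa using h x hx)))
theorem pow_neg1 {E : Type} [Field E] {c d : E} {n : ℕ} (hc : c ^ 2 ^ n = 1) (hd : d ^ 2 ^ n = 1) (h : c ≠ d) : ∃ k, c ^ k = -d ^ k := by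
  have d0 : d ≠ 0 := by rintro rfl; simp at hd
  obtain ⟨k, e, e1⟩ := pow_inv (y := c / d) (n := n) (by rw [div_pow, hc, hd, div_one]) (mt (div_eq_one_iff_eq d0).1 h)
  exact ⟨k, by rw [← neg_one_mul, ← (mul_self_eq_one_iff.1 e).resolve_left e1, div_pow]; field_simp⟩

namespace BG
variable {H E F n ι : Type} [Group H] [Finite H] [Field E] [Field F] [Finite F] [Fintype n] [DecidableEq n] [Fintype ι] [DecidableEq ι]
  (B : BG H E F n ι) {i j k : ι} {g h : H} {u v w : SL(2, F)} {S : Sylow 2 H} {T : Subgroup H}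

theorem b_pow (hg : g ∈ B.K) (j : ι) (m : ℕ) : B.b j (g ^ m) = B.b j g ^ m := by
  rw [← B.bu_val j ⟨g, hg⟩, ← Units.val_pow_eq_pow_val, ← map_pow, bu_val, SubgroupClass.coe_pow]
theorem p0_pow {c : E} (e : B.ρ g * B.p0 = c • B.p0) (m : ℕ) : B.ρ (g ^ m) * B.p0 = c ^ m • B.p0 := by
  induction m with
  | zero => simp
  | succ m ih => rw [pow_succ, map_mul, mul_assoc, e, mul_smul_comm, ih, smul_smul, pow_succ']
theorem J4 (j : ι) (hu : u * u = -1) : B.s j u ^ 2 ^ 2 = 1 := by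
  rw [← map_pow, sq 2, pow_mul, sq u, hu]; simp

theorem pw (hT : SCl S T) (h : B.s j u ∈ Cl T) (h1 : u ≠ 1) : B.z j ∈ Cl T := by
  obtain ⟨m, e⟩ := cl_pel hT h
  obtain ⟨k, e1, e2⟩ := pow_inv (B.s_inj j (by rw [map_pow, e, map_one]) : u ^ 2 ^ m = 1) h1
  rw [z, ← (sq_one B.twoF e1).resolve_left e2, map_pow]
  exact cl_pow h k
theorem pw2 (hT : SCl S T) (e : k ≠ j) (h : B.s k v * B.s j u ∈ Cl T) (h1 : B.s k v * B.s j u ∈ S) (h2 : B.s j w ∈ S)
    (c : ¬ Commute u w) : B.z j ∈ Cl T := by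
  have := cl_comm hT S.isPGroup' h1 h2 h
  rw [show ⁅B.s k v * B.s j u, B.s j w⁆ = B.s k v * B.s j ⁅u, w⁆ * (B.s j w * (B.s k v)⁻¹ * (B.s j w)⁻¹) by
    simp [commutatorElement_def, mul_assoc], ← (B.s_comm e v w).inv_left.eq, mul_inv_cancel_right, (B.s_comm e v _).eq,
    mul_inv_cancel_right] at this
  exact B.pw hT this (mt commutatorElement_eq_one_iff_commute.1 c)
theorem swp (hT : SCl S T) (e : k ≠ j) (hg : g ∈ Cl T) (h1 : g * B.s j (J F) * g⁻¹ = B.s k (J F)) (h2 : g * B.s k (J F) * g⁻¹ = B.s j (J F)) :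
    B.s k (J F) * B.s j (J F)⁻¹ ∈ Cl T := by
  have := (cl_nz hT (pg_comm (B.s_comm e _ _) (B.J4 k JJ) (B.J4 j JJ)) (nz_cl (by
    rintro _ (rfl | rfl); exacts [h2 ▸ subset_closure (.inr rfl), h1 ▸ subset_closure (.inl rfl)])) (subset_closure (.inr rfl)) hg).1
  rwa [commutatorElement_def, h1, ← map_inv] at this

theorem z_cl [Nonempty ι] (hT : SCl S T) (hQ : ∀ j, B.s j (J F) ∈ S ∧ B.s j (J' F) ∈ S) (hN : S.1 ≤ B.N) (h0 : ¬ T ≤ center H) :
    ∃ j, B.z j ∈ Cl T := by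
  obtain ⟨s, hs, s0⟩ := SetLike.not_le_iff_exists.1 h0
  have key : ∀ j u w, B.s j u ∈ S → B.s j w ∈ S → ¬ Commute u w → ¬ Commute s (B.s j u) → B.z j ∈ Cl T := fun j u w a b c d => by
    have m := cl_comm hT S.isPGroup' (hT.1 hs) a (cl_of hs)
    have m' : ⁅s, B.s j u⁆ ∈ S := mul_mem (mul_mem (mul_mem (hT.1 hs) a) (inv_mem (hT.1 hs))) (inv_mem a)
    have d := mt commutatorElement_eq_one_iff_commute.1 d
    obtain ⟨v, hv⟩ := B.cj_s (hN (hT.1 hs)) j u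
    rw [commutatorElement_def, hv, ← map_inv] at m m' d
    by_cases e : B.π ⟨s, hN (hT.1 hs)⟩ j = j
    · rw [e, ← map_mul] at m d
      exact B.pw hT m fun e => d (by rw [e, map_one])
    · exact B.pw2 hT e m m' b (mt Commute.inv_left_iff.1 c)
  by_contra! n
  have c1 : ∀ j, Commute s (B.s j (J F)) := fun j => by_contra fun c => n j (key j _ _ (hQ j).1 (hQ j).2 (nJJ' B.twoF) c)
  have c2 : ∀ j, Commute s (B.s j (J' F)) := fun j => by_contra fun c => n j (key j _ _ (hQ j).2 (hQ j).1 (mt .symm (nJJ' B.twoF)) c)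
  have sK : s ∈ B.K := B.mem_K.2 fun j => by rw [zJ, ((c1 j).mul_right (c1 j)).eq, mul_inv_cancel_right]
  have c3 : ∀ j u, Commute s (B.s j u) → B.b j s * B.μ u = B.μ u * B.b j s := fun j u c => by
    simpa [B.b_mul sK (B.sK _ _), B.b_mul (B.sK _ _) sK, b_s] using congrArg (B.b j) c.eq
  obtain ⟨c, hc⟩ : ∃ c : ι → E, ∀ j, B.b j s = c j • 1 := ⟨_, fun j => B.scal (c3 j _ (c1 j)) (c3 j _ (c2 j))⟩
  obtain ⟨m, e⟩ := cl_pel hT (cl_of hs)
  have cp : ∀ j m, B.b j (s ^ m) = c j ^ m • 1 := fun j m => by rw [B.b_pow sK, hc, smul_pow, one_pow]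
  have cm : ∀ j, c j ^ 2 ^ m = 1 := fun j => by simpa [e, b_one] using congrFun (congrFun (cp j (2 ^ m)).symm 0) 0
  by_cases a : ∃ j k, c j ≠ c k
  · obtain ⟨j, k, a⟩ := a
    have jk : j ≠ k := fun e => a (by rw [e])
    obtain ⟨r, hr⟩ := pow_neg1 (cm j) (cm k) a
    obtain ⟨g, t, e1, -, e2, e3⟩ := B.ex_τ jk
    have m1 : s ^ r * B.z k ∈ B.K := mul_mem (pow_mem sK r) (B.sK k (-1))
    have bx : ∀ i, B.b i (s ^ r * B.z k) = (if k = i then -c i ^ r else c i ^ r) • 1 := fun i => by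
      rw [z, B.b_mul (pow_mem sK r) (B.sK _ _), cp, b_s]; split_ifs <;> simp [μ_neg]
    have e4 : g * s ^ r * g⁻¹ = s ^ r * B.z k * t := by
      rw [← e1, ← mul_assoc, ← mul_assoc, (e3 _ m1 (c j ^ r) (by simp [bx, jk.symm]) (by simp [bx, hr])).eq, mul_assoc g, mul_assoc g,
        mul_assoc (s ^ r), zz, mul_one, mul_assoc]
    have e5 : ∀ i, g * s ^ r * g⁻¹ * B.s i (J F) * (g * s ^ r * g⁻¹)⁻¹ = B.s (Equiv.swap j k i) (J F) := fun i => by
      rw [e4, show ∀ x y t : H, x * t * y * (x * t)⁻¹ = x * (t * y * t⁻¹) * x⁻¹ from fun _ _ _ => by group, e2,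
        (B.K_comm m1 (B.sK _ _) fun l => by rw [bx]; simp [Commute, SemiconjBy]).eq, mul_inv_cancel_right]
    exact n j (B.pw2 hT jk.symm (B.swp hT jk.symm (cl_conj (cl_of (pow_mem hs r)) g) (by rw [e5]; simp) (by rw [e5]; simp))
      (mul_mem (hQ k).1 (map_inv (B.s j) _ ▸ inv_mem (hQ j).1)) (hQ j).2 (mt Commute.inv_left_iff.1 (nJJ' B.twoF)))
  push Not at a
  obtain ⟨i⟩ := ‹Nonempty ι›
  obtain ⟨d, hd⟩ := B.ex_c (B.KN sK)
  have p : B.p0 ≠ 0 ∧ d ≠ c i := by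
    by_contra! k
    have : B.ρ s = c i • 1 := B.ext (fun j => by simp [B.bP sK, hc, a j i]) (by
      by_cases z : B.p0 = 0 <;> simp [hd, z, k])
    exact s0 (mem_center_iff.2 fun x => B.inj (by simp [this]))
  obtain ⟨r, hr⟩ := pow_neg1 (smul_left_injective E p.1 (by simp only [← B.p0_pow hd, e]; simp)) (cm i) p.2
  have e1 : B.ρ (s ^ r) = c i ^ r • (1 - (2 : E) • B.p0) := B.ext (fun j => by
    simp [-map_pow, B.bP (pow_mem sK r), cp, a j i, Matrix.sub_mul, p0P]) (by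
    rw [B.p0_pow hd, hr]; simp [sub_mul, add_mul, p00, two_smul])
  obtain ⟨j, g, g', e2⟩ := B.odd p.1
  have e3 : ∀ g, B.ρ (g * s ^ r * g⁻¹) = c i ^ r • (1 - (2 : E) • (B.ρ g * B.p0 * B.ρ g⁻¹)) := fun g => by
    rw [map_mul, map_mul, e1]; simp [mul_sub, sub_mul, ρ_inv]
  have e4 : ∀ g, B.ρ g * B.p0 * B.ρ g⁻¹ * (B.ρ g * B.p0 * B.ρ g⁻¹) = B.ρ g * B.p0 * B.ρ g⁻¹ := fun g => by
    simp [mul_assoc, inv_ρ', ← mul_assoc B.p0 B.p0, p00]
  have e5 := e4 g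
  have e6 := e4 g'
  have e7 := e3 g
  have e8 := e3 g'
  generalize B.ρ g * B.p0 * B.ρ g⁻¹ = x at *
  generalize B.ρ g' * B.p0 * B.ρ g'⁻¹ = y at *
  have e9 : x * y + y * x = 0 := by
    have : (x + y) * (x + y) = x + y := by simp [e2, Matrix.mul_assoc, RP']
    rw [mul_add, add_mul, add_mul, e5, e6] at this
    linear_combination (norm := abel1) this
  have f1 : x * y = y * x := by
    have a1 := congrArg (x * ·) e9
    have a2 := congrArg (· * x) e9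
    simp only [mul_add, add_mul, ← mul_assoc, e5, mul_zero, zero_mul, mul_assoc y x x] at a1 a2
    linear_combination (norm := abel1) a1 - a2
  have f2 : x * y = 0 := B.two_inj (by rw [two_smul, smul_zero, ← e9, f1])
  have f3 : g * s ^ r * g⁻¹ = B.z j * (g' * s ^ r * g'⁻¹) := B.inj (by
    rw [map_mul _ (B.z j), e7, e8, ρz, ← e2]; simp [mul_sub, sub_mul, add_mul, mul_add, f2, e6, two_smul]; congr 1; abel)
  refine n j (eq_mul_inv_of_mul_eq f3.symm ▸ cl_mul_comm hT (Commute.inv_right (B.inj ?_)) (cl_conj (cl_of (pow_mem hs r)) g)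
    (cl_inv (cl_conj (cl_of (pow_mem hs r)) g')))
  rw [map_mul _ (g * _ * _), map_mul _ (g' * _ * _), e7, e8]; simp [mul_sub, sub_mul, f1, smul_sub]; module

theorem τ_π {t : H} (h : ∀ i u, t * B.s i u * t⁻¹ = B.s (Equiv.swap j k i) u) : ∃ m : t ∈ B.N, B.π ⟨t, m⟩ = Equiv.swap j k :=
  ⟨B.mem_N.2 fun i => ⟨_, h i _⟩, Equiv.ext fun i => B.z_inj ((B.π_spec _ i).symm.trans (h i _))⟩

theorem all_cl [Nontrivial ι] (hT : SCl S T) (hQ : ∀ j, B.s j (J F) ∈ S ∧ B.s j (J' F) ∈ S) (hN : S.1 ≤ B.N) (h0 : ¬ T ≤ center H) :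
    (∀ i j, i ≠ j → ∃ y : B.N, y.1 ∈ Cl T ∧ B.π y = Equiv.swap i j) ∧
      ∀ g ∈ S, g ∈ B.K → (∀ j, (B.b j g).det = 1) → B.ρ g * B.p0 = B.p0 → g ∈ T := by
  obtain ⟨a, ha⟩ := B.z_cl hT hQ hN h0
  have h1 : ∀ j, B.z j ∈ Cl T := fun j => by
    by_cases e : a = j
    · exact e ▸ ha
    obtain ⟨-, t, -, -, e2, -⟩ := B.ex_τ e
    simpa [z, e2] using cl_conj ha t
  have h2 : ∀ j u, u * u = -1 → B.s j u ∈ Cl T := fun j u hu => by
    obtain ⟨k, e⟩ := exists_ne j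
    obtain ⟨g, t, e1, -, e2, -⟩ := B.ex_τ e
    have m := B.swp hT e.symm (e1 ▸ cl_conj (h1 j) g) (by simp [e2]) (by simp [e2])
    obtain ⟨w, hw⟩ := isConj_iff.1 (c4 B.twoF (JJ' (F := F)))
    have m' := cl_conj m (B.s j w)
    rw [← conj_mul, (B.s_comm e.symm w _).eq, mul_inv_cancel_right, ← map_inv, ← map_mul, ← map_mul, hw] at m'
    have i := map_inv (B.s k) (J F) ▸ inv_mem (hQ k).1
    have := mul_mem (cl_mem hT m' (mul_mem (hQ j).2 i)) (inv_mem (cl_mem hT m (mul_mem (hQ j).1 i)))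
    rw [_root_.mul_inv_rev, mul_assoc, mul_inv_cancel_left, ← map_inv, ← map_mul] at this
    refine cl_isConj (cl_of this) ((B.s j).map_isConj ((c4 B.twoF ?_).symm.trans (c4 B.twoF hu)))
    rw [show (J F)⁻¹ = -J F from inv_eq_of_mul_eq_one_right (by rw [mul_neg, JJ, neg_neg]), mul_neg, neg_mul_neg]
    nth_rw 2 [J'J]
    rw [mul_neg, mul_assoc, ← mul_assoc (J F), JJ]; simp [JJ']
  have h3 : ∀ j u m, u ^ 2 ^ m = 1 → B.s j u ∈ Cl T := fun j u m e => by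
    by_cases c : u * u = 1
    · rcases sq_one B.twoF c with rfl | rfl
      exacts [map_one (B.s j) ▸ cl_one, h1 j]
    obtain ⟨k, k1, k2⟩ := inv4 B.twoF e c
    have k3 : k * u * k⁻¹ = u⁻¹ := by
      rw [show k⁻¹ = -k from inv_eq_of_mul_eq_one_right (by rw [mul_neg, k1, neg_neg]), eq_comm, inv_eq_iff_mul_eq_one]
      simpa [mul_assoc] using congrArg Neg.neg k2
    have p := pg_nz (pg_zp (n := m) (x := B.s j u) (by rw [← map_pow, e, map_one])) (y := B.s j k) (mem_nz_of_le (by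
      rw [cj_zpowers, ← map_inv, ← map_mul, ← map_mul, k3, map_inv]; exact zpowers_le.2 (inv_mem (mem_zpowers _)))) (B.J4 j k1)
    have y := mem_sup_right (S := zpowers (B.s j u)) (mem_zpowers (B.s j k))
    simpa using cl_mul hT p (mul_mem (mem_sup_left (mem_zpowers _)) y) (inv_mem y) (map_mul (B.s j) _ _ ▸ h2 j _ k2) (cl_inv (h2 j _ k1))
  refine ⟨fun i j e => ?_, fun g hg m d e => ?_⟩
  · obtain ⟨g, t, e1, -, e2, -⟩ := B.ex_τ e
    obtain ⟨m, e3⟩ := B.τ_π e2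
    exact ⟨⟨t, m⟩, e1 ▸ cl_conj (h1 j) g, e3⟩
  choose y hy using fun j => B.ex_μ (B.bP m j) (d j)
  obtain ⟨r, hr⟩ := S.isPGroup' ⟨g, hg⟩
  exact cl_mem hT (B.pi (· ∈ Cl T) cl_one (fun _ _ => cl_mul_comm hT) m y (fun j => (hy j).symm) e fun j => h3 j _ r (B.μ_inj (by
    rw [map_pow, hy, ← B.b_pow m, show g ^ 2 ^ r = 1 from congrArg Subtype.val hr, b_one, map_one]))) hg

theorem odd2 {G : Type*} [Group G] {x w : G} {m r : ℕ} (c : Commute x w) (o : Odd m) (hx : x ^ m = 1) (hw : w ^ m = 1)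
    (e : (x * w) ^ 2 ^ r = 1) : x * w = 1 :=
  (pow_eq_one_iff_of_coprime ((Nat.coprime_two_right.2 o).pow_right r)).1 ⟨by rw [c.mul_pow, hx, hw, one_mul], e⟩

/-- the embedding of `SL₂(F)` -/
noncomputable def μu : SL(2, F) →* GL (Fin 2) E := B.μ.toHomUnits
theorem μu_val (u : SL(2, F)) : (B.μu u).1 = B.μ u := rfl
include B in
theorem cen {x : GL (Fin 2) E} : x ∈ center (GL (Fin 2) E) ↔ ∃ c : E, x.1 = c • 1 :=
  ⟨fun h => ⟨_, B.scal (congrArg Units.val (mem_center_iff.1 h (B.μu _))).symm (congrArg Units.val (mem_center_iff.1 h (B.μu _))).symm⟩,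
    fun ⟨c, e⟩ => mem_center_iff.2 fun y => Units.ext (by simp [e])⟩

theorem gl2 [Finite E] {X : Subgroup (GL (Fin 2) E)} (hX : IsPGroup 2 X) (h1 : B.μu (J F) ∈ X) (h2 : B.μu (J' F) ∈ X) {e x : GL (Fin 2) E}
    (h3 : e ∈ X) {c : E} (h4 : (e * e).1 = c • B.μ (J F)) (hx : x ∈ nz X) {m : ℕ} (o : Odd m) (hm : x ^ m = 1) : ∃ c : E, x.1 = c • 1 := by
  let f := QuotientGroup.mk' (center (GL (Fin 2) E))
  have f1 : ∀ {x}, f x = 1 ↔ ∃ c : E, x.1 = c • 1 := (QuotientGroup.eq_one_iff _).trans B.cen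
  have c0 : c ≠ 0 := by rintro rfl; simpa [h4] using (e * e).det_ne_zero
  have cm : ∀ {u w}, f u * f w = f w * f u → ∃ c : E, u.1 * w.1 = c • (w.1 * u.1) := fun {u w} h => by
    obtain ⟨c, e⟩ := f1.1 (show f (u * w * (w * u)⁻¹) = 1 by rw [map_mul, map_inv, map_mul, map_mul, h, mul_inv_cancel])
    exact ⟨c, by rw [← Units.val_mul w, ← one_mul (w * u).1, ← smul_mul_assoc, ← e, ← Units.val_mul, ← Units.val_mul, inv_mul_cancel_right]⟩
  have key : ∀ u, f u ∈ cz (X.map f) → f u ≠ 1 → ∃ c : E, u.1 = c • B.μ (J F) := fun u hu n => by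
    obtain ⟨l, e1⟩ := cm (hu _ (mem_map_of_mem f h3)).symm
    obtain ⟨l', e2⟩ := cm (hu _ (mem_map_of_mem f h2)).symm
    have l2 : l * l = 1 := mul_right_cancel₀ (mul_ne_zero e.det_ne_zero u.det_ne_zero) (by
      simpa [mul_comm, sq] using (congrArg det e1).symm)
    have e3 : u.1 * B.μ (J F) = B.μ (J F) * u.1 := smul_right_injective _ c0 (by
      beta_reduce
      rw [← mul_smul_comm, ← smul_mul_assoc c, ← h4, Units.val_mul, ← mul_assoc, e1, smul_mul_assoc, mul_assoc, e1, mul_smul_comm, smul_smul, l2, one_smul, mul_assoc])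
    have l1 : l' - 1 ≠ 0 := fun k => n (f1.2 ⟨_, B.scal e3 (by simpa [sub_eq_zero.1 k, μu_val] using e2)⟩)
    obtain ⟨a, b, h0, e4⟩ := J'_eq (F := F)
    rw [μJ] at e3 ⊢
    rw [cJ e3, μu_val, μ_def, e4] at e2
    have a1 := congrFun (congrFun e2 0) 0
    have a2 := congrFun (congrFun e2 0) 1
    have a3 := congrArg B.φ h0
    simp [mul_apply, Fin.sum_univ_two] at a1 a2 a3
    have : u.1 0 0 = 0 := mul_left_cancel₀ l1 (by linear_combination B.φ a * a1 + B.φ b * a2 + (l' - 1) * u.1 0 0 * a3)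
    exact ⟨u.1 1 0, by rw [cJ e3]; simp [this]⟩
  have jj : B.μ (J F) * B.μ (J F) = -1 := by rw [← map_mul, JJ, μ_neg, map_one]
  obtain ⟨⟨_, ⟨u, hu, rfl⟩, k⟩, n⟩ := ne_bot_iff_exists_ne_one.1 (inf_cz_ne_bot (hX.map f) le_rfl (le_nz_self _) fun k => by
    obtain ⟨c, e⟩ := f1.1 (k.le (mem_map_of_mem f h1))
    simpa [μu_val, μJ] using congrFun (congrFun e 1) 0)
  replace n : f u ≠ 1 := fun e => n (Subtype.ext e)
  obtain ⟨a, e1⟩ := key u k n
  obtain ⟨b, e2⟩ := key (x * u * x⁻¹) (by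
    rintro _ ⟨w, hw, rfl⟩
    simpa [mul_assoc] using congrArg (fun y => f x * y * (f x)⁻¹) (k _ (mem_map_of_mem f (conj_mem_of_mem_nz' hx hw)))) (by simpa using n)
  have a0 : a ≠ 0 := by rintro rfl; simpa [e1] using u.det_ne_zero
  have e3 : x.1 * B.μ (J F) = (b / a) • (B.μ (J F) * x.1) := smul_right_injective _ a0 (by
    simpa [e1, smul_smul, mul_div_cancel₀ _ a0] using congrArg (· * x.1) e2)
  have e4 : b / a * (b / a) = 1 := mul_right_cancel₀ x.det_ne_zero (by simpa [det_μ, sq] using (congrArg det e3).symm)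
  have e5 : Commute x (B.μu (J F)) := by
    obtain ⟨r, rfl⟩ := o
    rw [pow_succ, pow_mul, mul_eq_one_iff_eq_inv'] at hm
    rw [hm]
    refine (Commute.pow_left (Units.ext ?_) r).inv_left
    simp only [sq, Units.val_mul, μu_val]
    rw [mul_assoc, e3, mul_smul_comm, ← mul_assoc, e3, smul_mul_assoc, smul_smul, e4, one_smul, mul_assoc]
  have e6 : Commute (B.μu (J' F) * x * (B.μu (J' F))⁻¹) (B.μu (J F)) := by
    have : B.μu (J' F) * B.μu (J F) * (B.μu (J' F))⁻¹ = (B.μu (J F))⁻¹ := by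
      rw [mul_inv_eq_iff_eq_mul, eq_inv_mul_iff_mul_eq, ← map_mul, ← map_mul, J'J, mul_neg, ← mul_assoc, JJ]; simp
    rw [← Commute.inv_right_iff, ← this]
    exact e5.map (MulAut.conj (B.μu (J' F)))
  have e7 : Commute x (B.μu (J' F) * x * (B.μu (J' F))⁻¹) := by
    generalize B.μu (J' F) * x * (B.μu (J' F))⁻¹ = y at e6
    refine Units.ext ?_
    rw [Units.val_mul, Units.val_mul, cJ (x := x.1) (by rw [← B.μJ]; exact congrArg Units.val e5.eq),
      cJ (x := y.1) (by rw [← B.μJ]; exact congrArg Units.val e6.eq)]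
    ext i j; fin_cases i <;> fin_cases j <;> simp <;> ring
  obtain ⟨r, hr⟩ := hX ⟨_, mul_mem (conj_mem_of_mem_nz hx h2) (inv_mem h2)⟩
  have e8 := odd2 e7.inv_right o hm (by rw [inv_pow, conj_pow, hm]; simp) (r := r) (by simpa [mul_assoc] using congrArg Subtype.val hr)
  rw [mul_inv_eq_one, eq_mul_inv_iff_mul_eq] at e8
  exact ⟨_, B.scal (congrArg Units.val e5.eq) (congrArg Units.val e8)⟩

/-- the block diagonal elements with blocks in `Y` -/
noncomputable def Rg (Y : Subgroup (GL (Fin 2) E)) : Subgroup H where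
  carrier := {g | ∃ m : g ∈ B.K, (∀ j, B.bu j ⟨g, m⟩ ∈ Y) ∧ B.ρ g * B.p0 = B.p0}
  mul_mem' := fun ⟨m, a, b⟩ ⟨m', a', b'⟩ => ⟨mul_mem m m', fun j => map_mul (B.bu j) ⟨_, m⟩ ⟨_, m'⟩ ▸ mul_mem (a j) (a' j),
    by rw [map_mul, mul_assoc, b', b]⟩
  one_mem' := ⟨one_mem _, fun j => map_one (B.bu j) ▸ one_mem _, by simp⟩
  inv_mem' := fun ⟨m, a, b⟩ => ⟨inv_mem m, fun j => map_inv (B.bu j) ⟨_, m⟩ ▸ inv_mem (a j), by nth_rw 1 [← b]; exact B.inv_ρ' ..⟩
theorem Rg_pg [Finite E] {Y : Subgroup (GL (Fin 2) E)} (h : IsPGroup 2 Y) : IsPGroup 2 (B.Rg Y) := fun ⟨g, m, a, b⟩ => by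
  obtain ⟨r, e⟩ := IsPGroup.iff_card.1 h
  refine ⟨r, Subtype.ext (B.K_ext (pow_mem m _) (one_mem _) (fun j => ?_) (by simpa using B.p0_pow (c := 1) (by simpa using b) _))⟩
  have := congrArg (·.1.1) (pow_card_eq_one' (x := (⟨_, a j⟩ : Y)))
  simpa [e, b_one, B.b_pow m, bu_val] using this
theorem s_Rg {Y : Subgroup (GL (Fin 2) E)} (h : B.μu u ∈ Y) (j : ι) : B.s j u ∈ B.Rg Y := ⟨B.sK _ _, fun k => by
  by_cases e : j = k
  · rwa [show B.bu k ⟨_, B.sK j u⟩ = B.μu u from Units.ext (by simp [bu_val, b_s, e, μu_val])]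
  · rw [show B.bu k ⟨_, B.sK j u⟩ = 1 from Units.ext (by simp [bu_val, b_s, e])]; exact one_mem _, by rw [ρs, up_p0]⟩
/-- the quaternion group -/
noncomputable def Q8 : Subgroup (GL (Fin 2) E) := zpowers (B.μu (J F)) ⊔ zpowers (B.μu (J' F))
theorem Q8_pg [Finite E] : IsPGroup 2 B.Q8 := pg_nz (pg_zp (n := 2) (by rw [← map_pow, sq 2, pow_mul, sq (J F), JJ]; simp)) (mem_nz_of_le (by
  rw [cj_zpowers, show B.μu (J' F) * B.μu (J F) * (B.μu (J' F))⁻¹ = (B.μu (J F))⁻¹ by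
    rw [mul_inv_eq_iff_eq_mul, eq_inv_mul_iff_mul_eq, ← map_mul, ← map_mul, J'J, mul_neg, ← mul_assoc, JJ]; simp]
  exact zpowers_le.2 (inv_mem (mem_zpowers _)))) (n := 2) (by rw [← map_pow, sq 2, pow_mul, sq (J' F), JJ']; simp)
theorem JQ : B.μu (J F) ∈ B.Q8 := mem_sup_left (mem_zpowers _)
theorem JQ' : B.μu (J' F) ∈ B.Q8 := mem_sup_right (mem_zpowers _)

theorem sf1 [Finite E] [Nontrivial ι] (hp : commutator H = ⊤) (hc : ∃ c : E, c ≠ 0 ∧ (B.ε → 2 * (c * B.σ c) = 1)) :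
    SF (H ⧸ center H) := by
  obtain ⟨c, c0, hc⟩ := hc
  have two := B.two
  have jj : B.μ (J F) * B.μ (J F) = -1 := by rw [← map_mul, JJ, μ_neg, map_one]
  have ab : (c • (1 + B.μ (J F))) * ((2 * c)⁻¹ • (1 - B.μ (J F))) = 1 := by
    rw [smul_mul_smul_comm, mul_sub, add_mul, add_mul, jj, show c * (2 * c)⁻¹ = 2⁻¹ by field_simp]
    rw [show ∀ a : Matrix (Fin 2) (Fin 2) E, 1 * 1 + a * 1 - (1 * a + -1) = (2 : E) • 1 from fun a => by simp [two_smul]; abel,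
      smul_smul]; simp [two]
  let e : GL (Fin 2) E := ⟨_, _, ab, mul_eq_one_comm.1 ab⟩
  have ev : e.1 = c • (1 + B.μ (J F)) := rfl
  have eQ : e ∈ nz B.Q8 := mem_nz_of_le (by
    rw [Q8, cj_sup, cj_zpowers, cj_zpowers, show e * B.μu (J F) * e⁻¹ = B.μu (J F) from mul_inv_eq_iff_eq_mul.2 (Units.ext (by
      simp [ev, μu_val, mul_add, add_mul])), show e * B.μu (J' F) * e⁻¹ = B.μu (J F) * B.μu (J' F) from mul_inv_eq_iff_eq_mul.2 (Units.ext (by
      simp only [ev, μu_val, mul_add, add_mul, Units.val_mul, mul_smul_comm, smul_mul_assoc, mul_assoc]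
      rw [← map_mul _ (J' F), J'J, μ_neg, map_mul, mul_neg, ← mul_assoc _ _ (B.μ (J' F)), jj]; simp [add_comm]))]
    exact sup_le le_sup_left (zpowers_le.2 (mul_mem B.JQ B.JQ')))
  obtain ⟨r, o, ho, er⟩ := Nat.exists_eq_two_pow_mul_odd (orderOf_pos e).ne'
  have pY := pg_nz B.Q8_pg (pow_mem eQ o) (n := r) (by rw [← pow_mul, mul_comm, ← er, pow_orderOf_eq_one])
  have mY := mem_sup_right (S := B.Q8) (mem_zpowers (e ^ o))
  generalize hY : B.Q8 ⊔ zpowers (e ^ o) = Y at pY mY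
  have q1 := B.s_Rg (hY.le (mem_sup_left B.JQ))
  have q2 := B.s_Rg (hY.le (mem_sup_left B.JQ'))
  have RK : B.Rg Y ≤ B.K := fun _ h => h.1
  have ee : ∃ d : E, (e ^ o * e ^ o).1 = d • B.μ (J F) := by
    obtain ⟨t, rfl⟩ := ho
    refine ⟨(2 * c * c) ^ (2 * t + 1) * (-1) ^ t, ?_⟩
    rw [← (Commute.refl e).mul_pow, Units.val_pow_eq_pow_val, show (e * e).1 = (2 * c * c) • B.μ (J F) by
      simp [ev, mul_add, add_mul, jj, smul_smul]; module, smul_pow, pow_succ (B.μ _), pow_mul (B.μ _), sq (B.μ _), jj, mul_smul,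
      ← neg_one_smul E (1 : Matrix (Fin 2) (Fin 2) E), smul_pow]; simp
  have ey : ∀ j, ∃ y : B.K, y.1 ∈ B.Rg Y ∧ B.bu j y = e ^ o := fun j => by
    obtain ⟨k, n⟩ := exists_ne j
    obtain ⟨y, hy⟩ := B.mem (B.up j e.1 * B.up k (e⁻¹).1) (by rw [det_mul, det_up, det_up, ← det_mul, Units.mul_inv, det_one]) fun h => by
      have a1 : (e.1.map B.σ).adjugate * e.1 = 1 := by
        ext a b; fin_cases a <;> fin_cases b <;> simp [ev, μJ, adjugate_fin_two, mul_apply, Fin.sum_univ_two] <;>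
          first | ring1 | linear_combination hc h
      have a2 : ((e⁻¹).1.map B.σ).adjugate * (e⁻¹).1 = 1 := by
        nth_rw 2 [Units.inv_eq_of_mul_eq_one_left a1]
        rw [← adjugate_mul_distrib, ← Matrix.map_mul]; simp
      rw [B.st_mul h, B.st_up h, B.st_up h, mul_assoc, ← mul_assoc (B.up j _), up_mul, a1, up_one, one_mul, up_mul, a2, up_one]
    have yP : ∀ i, B.ρ y * B.P i = B.P i * (if j = i then e else if k = i then e⁻¹ else 1).1 := fun i => by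
      rw [hy, Matrix.mul_assoc, up_P]
      by_cases a : j = i
      · subst a; simp [n, up_P]
      · by_cases b : k = i <;> simp [a, b, up_P, up_P']
    have y0 : B.ρ y * B.p0 = B.p0 := by rw [hy, mul_assoc, up_p0, up_p0]
    have m := B.K_of (fun i => ⟨_, yP i⟩) (by rw [y0, p00])
    have yb : ∀ i, B.bu i (⟨y, m⟩ ^ o) = (if j = i then e else if k = i then e⁻¹ else 1) ^ o := fun i => by
      rw [map_pow, show B.bu i ⟨y, m⟩ = _ from Units.ext (B.b_of (yP i))]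
    refine ⟨⟨y, m⟩ ^ o, ⟨pow_mem m o, fun i => ?_, by simpa using B.p0_pow (c := 1) (by simpa using y0) o⟩, by rw [yb]; simp⟩
    refine (yb i).symm ▸ ?_
    split_ifs
    exacts [mY, inv_pow e o ▸ inv_mem mY, by simp]
  refine mb H _ ι (QuotientGroup.mk' _) B.N B.K (B.Rg Y) (B.Rg Y ⊓ closure (Set.range (B.s · (J F)) ∪ Set.range (B.s · (J' F)))) B.π
    (QuotientGroup.mk'_surjective _) (QuotientGroup.ker_mk' _) hp (B.Rg_pg pY) inf_le_left (RK.trans B.KN) (fun k => ?_)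
    (fun X _ k => B.nb fun j => ⟨k ⟨q1 j, subset_closure (.inl ⟨j, rfl⟩)⟩, k ⟨q2 j, subset_closure (.inr ⟨j, rfl⟩)⟩⟩) B.NK
    (fun a b u v => ?_) (fun S T u v hT n => ?_) fun S x u v w o k => ?_
  · obtain ⟨j⟩ : Nonempty ι := inferInstance
    exact nJJ' B.twoF (B.s_inj j (by rw [map_mul, map_mul, mem_center_iff.1 (k (q2 j))]))
  · exact mul_mem (mul_mem (mul_mem (B.π_one.1 u) (B.π_one.1 v)) (inv_mem (B.π_one.1 u))) (inv_mem (B.π_one.1 v))
  · obtain ⟨k1, k2⟩ := B.all_cl hT (fun j => ⟨u (q1 j), u (q2 j)⟩) v n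
    have k3 : ∀ j w, B.s j w ∈ S → B.s j w ∈ T := fun j w m => k2 _ m (B.sK _ _) (fun i => by rw [b_s]; split_ifs <;> simp [det_μ])
      (by rw [ρs, up_p0])
    refine ⟨inf_le_right.trans ((closure_le _).2 ?_), k1, commutator_le.2 fun a ha b hb => k2 _ ?_ ?_ (fun j => ?_) ?_⟩
    · rintro _ (⟨j, rfl⟩ | ⟨j, rfl⟩); exacts [k3 _ _ (u (q1 j)), k3 _ _ (u (q2 j))]
    · exact S.1.mul_mem (S.1.mul_mem (S.1.mul_mem ha.1 hb.1) (S.1.inv_mem ha.1)) (S.1.inv_mem hb.1)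
    · exact B.K.mul_mem (B.K.mul_mem (B.K.mul_mem ha.2 hb.2) (B.K.inv_mem ha.2)) (B.K.inv_mem hb.2)
    · have := congrArg Units.val (map_commutatorElement (GeneralLinearGroup.det.comp (B.bu j)) ⟨a, ha.2⟩ ⟨b, hb.2⟩)
      rwa [commutatorElement_eq_one_iff_mul_comm (G := Eˣ) |>.2 (mul_comm _ _)] at this
    · obtain ⟨c1, e1⟩ := B.ex_c (B.KN ha.2)
      obtain ⟨c2, e2⟩ := B.ex_c (B.KN hb.2)
      have : B.ρ (a * b) * B.p0 = B.ρ (b * a) * B.p0 := by simp [mul_assoc, e1, e2, smul_smul, mul_comm]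
      rw [show ⁅a, b⁆ = a * b * (b * a)⁻¹ by simp [commutatorElement_def, mul_assoc], map_mul, mul_assoc,
        B.N_p0 (inv_mem (B.KN (mul_mem hb.2 ha.2))), ← mul_assoc, this, mul_assoc, ← B.N_p0 (inv_mem (B.KN (mul_mem hb.2 ha.2))), ρ_inv']
  have xK := B.π_one.1 k
  have sc : ∀ j, ∃ c : E, B.b j x = c • 1 := fun j => by
    obtain ⟨y, hy, e1⟩ := ey j
    obtain ⟨d, hd⟩ := ee
    have m : ∀ w, B.s j w ∈ S → B.μu w ∈ (S.1.subgroupOf B.K).map (B.bu j) := fun w h =>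
      ⟨⟨_, B.sK j w⟩, h, Units.ext (by simp [bu_val, b_s, μu_val])⟩
    exact B.gl2 ((S.isPGroup'.comap_subtype).map (B.bu j)) (m _ (u (q1 j))) (m _ (u (q2 j))) ⟨y, u hy, e1⟩ hd (x := B.bu j ⟨x, xK⟩)
      (mem_nz_of_conj_mem (by rintro _ ⟨s, hs, rfl⟩; exact ⟨⟨x, xK⟩ * s * ⟨x, xK⟩⁻¹, conj_mem_of_mem_nz (x := s.1) w hs, by simp⟩)) o
      (by rw [← map_pow, show (⟨x.1, xK⟩ : B.K) ^ orderOf x.1 = 1 from Subtype.ext (pow_orderOf_eq_one _), map_one])
  refine fun s hs => ?_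
  obtain ⟨r, hr⟩ := S.isPGroup' ⟨_, mul_mem (conj_mem_of_mem_nz w hs) (inv_mem hs)⟩
  have := odd2 (B.K_comm xK (conj_mem_of_mem_nz (B.NK (v hs)) (inv_mem xK)) fun j => by
    obtain ⟨c, e⟩ := sc j; simp [e, Commute, SemiconjBy]) o (pow_orderOf_eq_one _) (by rw [conj_pow, inv_pow, pow_orderOf_eq_one]; simp) (r := r)
    (by simpa [mul_assoc] using congrArg Subtype.val hr)
  rw [← mul_assoc, ← mul_assoc, mul_inv_eq_one, mul_inv_eq_iff_eq_mul] at this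
  exact this.symm

end BG
end H11.FK
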