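import Cfsg.Agent.H11.FK2

/-! S5161: block groups, the symplectic groups over fields in which `2` is not a square. -/

set_option autoImplicit false
set_option linter.unusedSectionVars false
set_option linter.unusedSimpArgs false

namespace H11.FK
open Cfsg Subgroup H25 H27.FK Matrix Function
open scoped commutatorElement MatrixGroups

section SL2
variable {F : Type} [Field F] [Finite F] {y w : SL(2, F)} {W Γ : Subgroup SL(2, F)}

/-- equal up to sign -/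
def PM (x y : SL(2, F)) : Prop := x = y ∨ x = -y

theorem ex_ω (two : (2 : F) ≠ 0) : ∃ ω : SL(2, F), ω.1 = (2⁻¹ : F) • ((1 + (J F).1) * (1 + (J' F).1)) ∧
    ω * J F * ω⁻¹ = J' F ∧ ω * J' F * ω⁻¹ = J F * J' F := by
  obtain ⟨a, b, h, e⟩ := J'_eq (F := F)
  let ω : SL(2, F) := ⟨(2⁻¹ : F) • ((1 + (J F).1) * (1 + (J' F).1)), by
    simp [e, Jv, det_fin_two]; field_simp; linear_combination -2 * h⟩
  have v : ω.1 = (2⁻¹ : F) • ((1 + (J F).1) * (1 + (J' F).1)) := rfl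
  refine ⟨ω, rfl, mul_inv_eq_iff_eq_mul.2 ?_, mul_inv_eq_iff_eq_mul.2 ?_⟩ <;>
  · ext i j; fin_cases i <;> fin_cases j <;> simp [v, e, Jv, mul_apply, Fin.sum_univ_two, one_apply] <;> grind

theorem no8 (h2 : ∀ x : F, x * x ≠ 2) (y : SL(2, F)) : y * y * (y * y) ≠ -1 := fun e => by
  have t := tr0' e
  have d := y.det_coe
  rw [det_fin_two] at d
  simp [mul_apply, Fin.sum_univ_two] at t
  exact h2 (y.1 0 0 + y.1 1 1) (by linear_combination t + 2 * d)

theorem q8 (two : (2 : F) ≠ 0) (h2 : ∀ x : F, x * x ≠ 2) (hW : IsPGroup 2 W) (h : J F ∈ W) (h' : J' F ∈ W) (hw : w ∈ W) :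
    PM w 1 ∨ PM w (J F) ∨ PM w (J' F) ∨ PM w (J F * J' F) := by
  have k : ∀ y ∈ W, PM y 1 ∨ y.1 1 1 = -y.1 0 0 := fun y hy => by
    by_cases c : y * y = 1
    · exact .inl (sq_one two c)
    obtain ⟨n, e⟩ := hW ⟨y, hy⟩
    replace e : y ^ 2 ^ n = 1 := congrArg Subtype.val e
    refine .inr (tr0' ?_)
    clear hy
    induction n generalizing y with
    | zero => simp_all
    | succ n ih =>
      by_cases c' : y * y * (y * y) = 1
      · exact (sq_one two c').resolve_left c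
      · exact (no8 h2 y (ih _ c' (by rw [← sq, ← pow_mul, ← pow_succ', e]))).elim
  have pm : ∀ {u}, u * u = -1 → PM (w * u) 1 → PM w u := fun {u} hu e => by
    have : u⁻¹ = -u := inv_eq_of_mul_eq_one_right (by rw [mul_neg, hu, neg_neg])
    exact e.symm.imp (fun e => by simpa [this] using eq_mul_inv_of_mul_eq e) fun e => by simpa [this] using eq_mul_inv_of_mul_eq e
  by_contra! n
  obtain ⟨a, b, h0, e⟩ := J'_eq (F := F)
  have e0 := (k w hw).resolve_left n.1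
  have e1 := (k _ (mul_mem hw h)).resolve_left (mt (pm JJ) n.2.1)
  have e2 := (k _ (mul_mem hw h')).resolve_left (mt (pm JJ') n.2.2.1)
  have e3 := (k _ (mul_mem hw (mul_mem h h'))).resolve_left (mt (pm (tr0 (by simp [e, Jv, mul_apply, Fin.sum_univ_two]))) n.2.2.2)
  have d := w.det_coe
  simp [e, Jv, mul_apply, Fin.sum_univ_two, e0] at e1 e2 e3
  simp only [← e1] at e2 e3
  have a1 : w.1 0 0 = 0 := mul_left_cancel₀ two (by linear_combination b * e3 - a * e2 + 2 * w.1 0 0 * h0)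
  have a2 : w.1 1 0 = 0 := mul_left_cancel₀ two (by linear_combination -a * e3 - b * e2 + 2 * w.1 1 0 * h0)
  rw [det_fin_two, a1, a2] at d
  simp at d

theorem sl23 (two : (2 : F) ≠ 0) (h2 : ∀ x : F, x * x ≠ 2) (sc : ∀ y : SL(2, F), Commute y (J F) → Commute y (J' F) → PM y 1)
    (hW : IsPGroup 2 W) (h : J F ∈ W) (h' : J' F ∈ W) (g : J F ∈ Γ) (g' : J' F ∈ Γ) {ω : SL(2, F)} (e1 : ω * J F * ω⁻¹ = J' F)
    (e2 : ω * J' F * ω⁻¹ = J F * J' F) (g2 : ω * ω ∈ Γ) (hy : y ∈ nz W) : y ∈ Γ := by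
  have n := nJJ' two
  have i1 : (J F)⁻¹ = -J F := inv_eq_of_mul_eq_one_right (by rw [mul_neg, JJ, neg_neg])
  have i2 : (J' F)⁻¹ = -J' F := inv_eq_of_mul_eq_one_right (by rw [mul_neg, JJ', neg_neg])
  have r1 : ∀ x, J F * (J F * x) = -x := fun x => by rw [← mul_assoc, JJ, neg_one_mul]
  have r2 : ∀ x, J' F * (J' F * x) = -x := fun x => by rw [← mul_assoc, JJ', neg_one_mul]
  have r3 : ∀ x, J' F * (J F * x) = -(J F * (J' F * x)) := fun x => by rw [← mul_assoc, J'J, neg_mul, mul_assoc]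
  have cc : ∀ a y x : SL(2, F), a * y * x * (a * y)⁻¹ = a * (y * x * y⁻¹) * a⁻¹ := fun _ _ _ => by group
  have A0 : ∀ y, y * J F * y⁻¹ = J F → y * J' F * y⁻¹ = J' F → y ∈ Γ := fun y a b => by
    rcases sc y (mul_inv_eq_iff_eq_mul.1 a) (mul_inv_eq_iff_eq_mul.1 b) with rfl | rfl
    exacts [one_mem _, JJ (F := F) ▸ mul_mem g g]
  have A1 : ∀ y, y * J F * y⁻¹ = J F → y ∈ nz W → y ∈ Γ := fun y a m => by
    rcases q8 two h2 hW h h' (conj_mem_of_mem_nz m h') with (b | b) | (b | b) | (b | b) | b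
    · exact (n (by rw [conj_eq_one_iff.1 b]; simp)).elim
    · exact (n (by rw [show J' F = -1 by simpa [mul_assoc] using congrArg (y⁻¹ * · * y) b]; simp)).elim
    · exact (n (by rw [show J' F = J F by simpa using b.trans a.symm])).elim
    · rw [← a] at b
      exact (n (by rw [show J' F = -J F by simpa [mul_assoc] using congrArg (y⁻¹ * · * y) b]; simp)).elim
    · exact A0 y a b
    · exact (mul_mem_cancel_left g).1 (A0 _ (by simp only [cc, a]; simp) (by simp only [cc, b, i1]; simp [mul_assoc, r1, J'J]))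
    refine (no8 h2 y ?_).elim
    have : y * (y * J' F * y⁻¹) * y⁻¹ = -J' F := by
      rcases b with b | b <;> rw [b] <;> simp only [mul_neg, neg_mul, ← conj_mul, a, b, r1, neg_neg]
    rcases sc (J F * (y * y)) (mul_inv_eq_iff_eq_mul.1 (by simp only [cc, a]; simp))
      (mul_inv_eq_iff_eq_mul.1 (by simp only [cc, this, i1]; simp [mul_assoc, r1, J'J])) with b | b <;>
      simp [eq_inv_mul_iff_mul_eq.2 b, i1, JJ]
  have A2 : ∀ y, PM (y * J F * y⁻¹) (J F) → y ∈ nz W → y ∈ Γ := fun y a m => a.elim (A1 y · m) fun a =>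
    (mul_mem_cancel_left g').1 (A1 _ (by simp only [cc, a, i2]; simp [mul_assoc, r3, JJ']) (mul_mem (le_nz_self _ h') m))
  have e3 : ω * (J F * J' F) * ω⁻¹ = J F := by rw [← conj_mul, e1, e2, r3, JJ']; simp
  have gω : ω ∈ Γ := (mul_mem_cancel_right g2).1 (A0 _ (by simp only [cc, e1, e2, e3]) (by simp only [cc, e1, e2, e3]))
  have nω : ω ∈ nz W := mem_nz_of_conj_mem fun x hx => by
    have m1 : -1 ∈ W := JJ (F := F) ▸ mul_mem h h
    have ng : ∀ x ∈ W, -x ∈ W := fun x hx => neg_one_mul x ▸ mul_mem m1 hx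
    rcases q8 two h2 hW h h' hx with (rfl | rfl) | (rfl | rfl) | (rfl | rfl) | rfl | rfl <;>
      simp [e1, e2, e3, h, h', ng, mul_mem, m1, one_mem]
  rcases q8 two h2 hW h h' (conj_mem_of_mem_nz hy h) with (b | b) | b | b | b
  · exact (n (by rw [conj_eq_one_iff.1 b]; simp)).elim
  · exact (n (by rw [show J F = -1 by simpa [mul_assoc] using congrArg (y⁻¹ * · * y) b]; simp)).elim
  · exact A2 y b hy
  · exact (mul_mem_cancel_left g2).1 (A2 _ (b.imp (fun b => by simp only [cc, b, e2, e3]) fun b => by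
      simp only [cc, b, e2, e3, mul_neg, neg_mul]) (mul_mem (mul_mem nω nω) hy))
  · exact (mul_mem_cancel_left gω).1 (A2 _ (b.imp (fun b => by simp only [cc, b, e3]) fun b => by
      simp only [cc, b, e3, mul_neg, neg_mul]) (mul_mem nω hy))
end SL2

namespace BG
variable {H E F n ι : Type} [Group H] [Finite H] [Field E] [Field F] [Finite F] [Fintype n] [DecidableEq n] [Fintype ι] [DecidableEq ι]
  (B : BG H E F n ι) {i j k : ι} {g h a b c ζ : H} {u v w : SL(2, F)} {f : Matrix n n E}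

include B in
theorem sc (y : SL(2, F)) (h : Commute y (J F)) (h' : Commute y (J' F)) : PM y 1 := by
  have e := B.scal (h.map B.μ).eq (h'.map B.μ).eq
  have d := B.det_μ y
  refine sq_one B.twoF (B.μ_inj ?_)
  rw [e] at d
  rw [map_mul, e, map_one]
  simpa [smul_smul, sq] using congrArg (· • (1 : Matrix (Fin 2) (Fin 2) E)) d

/-- the symplectic case -/
structure Sp : Prop where
  ε : B.ε
  σ : ∀ c, B.σ c = c
  p0 : B.p0 = 0
  mem : ∀ M, B.st M * M = 1 → ∃ g, B.ρ g = M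

variable {B}
theorem Sp.blk (p : B.Sp) (hg : g ∈ B.K) (j : ι) : ∃ u, B.μ u = B.b j g := B.ex_μ (B.bP hg j) (by
  have := B.adj p.ε (B.bP hg j)
  rw [show (B.b j g).map B.σ = B.b j g by ext; exact p.σ _, adjugate_mul] at this
  simpa using congrFun (congrFun this 0) 0)
theorem Sp.zp (p : B.Sp) (hg : g ∈ B.K) (h : ∀ j, Commute (B.b j g) (B.μ (J F)) ∧ Commute (B.b j g) (B.μ (J' F))) {Y : Subgroup H}
    (hY : ∀ j, B.z j ∈ Y) : g ∈ Y := by
  choose y hy using p.blk hg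
  refine B.pi (· ∈ Y) (one_mem _) (fun _ _ _ => mul_mem) hg y (fun j => (hy j).symm) (by simp [p.p0]) fun j => ?_
  rcases B.sc (y j) (B.μ_inj (by simp [hy, (h j).1.eq])) (B.μ_inj (by simp [hy, (h j).2.eq])) with e | e <;> rw [e]
  exacts [map_one (B.s j) ▸ one_mem _, hY j]
theorem b_comm (hg : g ∈ B.K) (hh : h ∈ B.K) (c : Commute g h) (j : ι) : Commute (B.b j g) (B.b j h) := by
  rw [Commute, SemiconjBy, ← B.b_mul hg hh, ← B.b_mul hh hg, c.eq]

theorem Sp.star (p : B.Sp) (h1 : ∀ i, B.ρ a * B.P i = B.P i ∨ B.ρ a * (B.ρ a * B.P i) = -B.P i) (h2 : B.ρ a * B.P i = B.P i)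
    (h : ⁅c, a⁆ ∈ center H) : Commute c a := by
  generalize e : ⁅c, a⁆ = ζ at h
  have m : ζ ∈ B.K := fun y _ => mem_center_iff.1 h y
  obtain ⟨y, hy⟩ := p.blk m i
  have cy : ∀ u, Commute y u := fun u => B.μ_inj (by
    simpa [hy, b_s] using (b_comm m (B.sK i u) (mem_center_iff.1 h _).symm i).eq)
  have e1 : B.ρ ζ = B.μ y 0 0 • 1 := B.ext (fun j => by
    have e2 : B.ρ ζ * B.P i = B.μ y 0 0 • B.P i := by
      rw [B.bP m, ← hy, B.scal ((cy _).map B.μ).eq ((cy _).map B.μ).eq]; simp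
    by_cases k : i = j
    · simp [← k, e2]
    obtain ⟨-, t, -, e3, -⟩ := B.ex_τ k
    simpa [e3, Matrix.mul_assoc, e2, B.tm_P k] using congrArg (B.ρ · * B.P i) (mem_center_iff.1 h t).symm) (by simp [p.p0])
  rcases B.sc y (cy _) (cy _) with rfl | rfl
  · exact commutatorElement_eq_one_iff_commute.1 (e ▸ B.inj (by simpa using e1))
  exfalso
  have e2 : B.ρ a * B.ρ c = -(B.ρ c * B.ρ a) := by
    have : c * a = ζ * (a * c) := by rw [← e, commutatorElement_def]; group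
    rw [← map_mul _ c, this, map_mul, e1, μ_neg]; simp
  have e3 : (1 + B.ρ a * B.ρ a) * (B.ρ a - 1) = 0 := B.ext (fun j => by
    rcases h1 j with k | k <;> simp [Matrix.add_mul, Matrix.sub_mul, Matrix.mul_sub, Matrix.mul_assoc, k]) (by simp [p.p0])
  have e4 : B.ρ a * (B.ρ c * B.P i) = -(B.ρ c * B.P i) := by rw [← Matrix.mul_assoc, e2, Matrix.neg_mul, Matrix.mul_assoc, h2]
  have e5 := congrArg (fun m => B.R i * (B.ρ c⁻¹ * (m * (B.ρ c * B.P i)))) e3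
  simp [Matrix.add_mul, Matrix.sub_mul, Matrix.mul_sub, Matrix.mul_add, Matrix.mul_assoc, e4, inv_ρ', B.RP] at e5
  have := congrFun (congrFun e5 0) 0
  simp at this
  exact B.two (pow_eq_zero_iff two_ne_zero |>.1 (by linear_combination -this))

theorem Sp.mkT (p : B.Sp) (hf : B.ρ ζ = (2 : E) • f - 1) (ff : f * f = f) (sf : B.st f = f) (b1 : B.ρ b * f = f) (b2 : f * B.ρ b = f)
    (c1 : B.ρ c * f = f) (c2 : f * B.ρ c = f) (bb : b * b = ζ) (cc : c * c = ζ) (bc : Commute b c) :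
    ∃ t, B.ρ t = (2⁻¹ : E) • ((1 + B.ρ b) * (1 + B.ρ c)) - f ∧ t ^ 2 ^ 2 = 1 ∧ ∀ (Y : Subgroup H), b ∈ Y → c ∈ Y → ∀ a ∈ Y, Commute a ζ →
      (a * b = b * a ∨ a * b = ζ * (b * a)) → (a * c = c * a ∨ a * c = ζ * (c * a)) → t * a * t⁻¹ ∈ Y := by
  have two := B.two
  have sq : ∀ {b}, b * b = ζ → B.ρ b * B.ρ b = (2 : E) • f - 1 := fun e => by rw [← map_mul, e, hf]
  have st : ∀ {b}, b * b = ζ → f * B.ρ b = f → B.st (B.ρ b) = (2 : E) • f - B.ρ b := fun e k =>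
    left_inv_eq_left_inv (B.un p.ε _) (by simp [sub_mul, k, sq e])
  have s2 : ∀ x, B.st ((2⁻¹ : E) • x) = (2⁻¹ : E) • B.st x := fun x => B.two_inj (by
    rw [two_smul, ← map_add, ← two_smul E, smul_smul, smul_smul]; simp [two])
  have r : ∀ {x y z : Matrix n n E}, x * y = z → ∀ w : Matrix n n E, x * (y * w) = z * w := fun e w => by rw [← e, mul_assoc]
  have cb : B.ρ c * B.ρ b = B.ρ b * B.ρ c := (bc.map B.ρ).eq.symm
  obtain ⟨t, ht⟩ := p.mem ((2⁻¹ : E) • ((1 + B.ρ b) * (1 + B.ρ c)) - f) (by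
    simp only [map_sub, s2, B.st_mul p.ε, map_add, B.st_one p.ε, st bb b2, st cc c2, sf]
    simp only [mul_add, add_mul, mul_sub, sub_mul, mul_assoc, smul_mul_assoc, mul_smul_comm, mul_one, one_mul, ff, b1, b2, c1, c2, sq bb, sq cc,
      cb, r ff, r b1, r b2, r c1, r c2, r (sq bb), r (sq cc), r cb]
    match_scalars <;> field_simp <;> ring)
  have L : ∀ {a b}, b * b = ζ → B.ρ b * f = f → f * B.ρ b = f → a * b = ζ * (b * a) →
      (1 + B.ρ b) * B.ρ a = B.ρ (b * a) * (1 + B.ρ b) := fun {a b} e k1 k2 h => by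
    rw [mul_add, ← map_mul, mul_assoc b, h]
    simp [hf, add_mul, mul_sub, sub_mul, r k1, r k2, r (sq e), add_comm]
  refine ⟨t, ht, ?_, fun Y hb hc a ha z h1 h2 => ?_⟩
  · rw [show (2 : ℕ) ^ 2 = 2 * 2 from rfl, pow_mul, show t ^ 2 = b * c from B.inj (by
      simp only [pow_two, map_mul, ht]
      simp only [mul_add, add_mul, mul_sub, sub_mul, mul_assoc, smul_mul_assoc, mul_smul_comm, mul_one, one_mul, ff, b1, b2, c1, c2, sq bb,
        sq cc, cb, r ff, r b1, r b2, r c1, r c2, r (sq bb), r (sq cc), r cb]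
      match_scalars <;> field_simp <;> ring), bc.mul_pow, pow_two, pow_two, bb, cc]
    exact B.inj (by simp [hf, mul_sub, sub_mul, ff, smul_sub]; module)
  have zf : f * B.ρ a = B.ρ a * f := B.two_inj (by simpa [hf, mul_sub, sub_mul] using (z.map B.ρ).eq.symm)
  have fin : ∀ a' a'', (1 + B.ρ c) * B.ρ a = B.ρ a' * (1 + B.ρ c) → (1 + B.ρ b) * B.ρ a' = B.ρ a'' * (1 + B.ρ b) →
      B.ρ a'' * f = B.ρ a * f → a'' ∈ Y → t * a * t⁻¹ ∈ Y := fun a' a'' e1 e2 e3 m => by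
    rwa [mul_inv_eq_iff_eq_mul.2 (B.inj (by
      rw [map_mul, map_mul, ht, sub_mul, mul_sub, smul_mul_assoc, mul_smul_comm, mul_assoc, e1, ← mul_assoc, e2, mul_assoc, zf, e3]) :
        t * a = a'' * t)]
  have C : ∀ {a b}, a * b = b * a → (1 + B.ρ b) * B.ρ a = B.ρ a * (1 + B.ρ b) := fun e => by
    rw [mul_add, add_mul, ← map_mul, ← map_mul, e]; simp
  have zc : c * ζ = ζ * c := by rw [← cc, mul_assoc]
  rcases h2 with h2 | h2 <;> rcases h1 with h1 | h1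
  · exact fin _ _ (C h2) (C h1) rfl ha
  · exact fin _ _ (C h2) (L bb b1 b2 h1) (by rw [map_mul, mul_assoc, ← zf, r b1]) (mul_mem hb ha)
  · exact fin _ _ (L cc c1 c2 h2) (C (by rw [mul_assoc, h1, ← mul_assoc, ← bc.eq, mul_assoc])) (by rw [map_mul, mul_assoc, ← zf, r c1])
      (mul_mem hc ha)
  · exact fin _ _ (L cc c1 c2 h2) (L bb b1 b2 (by rw [mul_assoc, h1, ← mul_assoc, zc, mul_assoc, ← mul_assoc c, ← bc.eq, mul_assoc]))
      (by rw [map_mul, map_mul, mul_assoc, mul_assoc, ← zf, r c1, r b1]) (mul_mem hb (mul_mem hc ha))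

variable (B) in
/-- the product of the quaternion groups -/
noncomputable def Q : Subgroup H := closure (Set.range (B.s · (J F)) ∪ Set.range (B.s · (J' F)))
theorem JQ1 (j : ι) : B.s j (J F) ∈ B.Q := subset_closure (.inl ⟨j, rfl⟩)
theorem JQ2 (j : ι) : B.s j (J' F) ∈ B.Q := subset_closure (.inr ⟨j, rfl⟩)
theorem zQ (j : ι) : B.z j ∈ B.Q := B.zJ j ▸ mul_mem (JQ1 j) (JQ1 j)
theorem Q_pg [Finite E] : IsPGroup 2 B.Q := (B.Rg_pg B.Q8_pg).to_le ((closure_le _).2 (by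
  rintro _ (⟨j, rfl⟩ | ⟨j, rfl⟩); exacts [B.s_Rg B.JQ j, B.s_Rg B.JQ' j]))
theorem QK : B.Q ≤ B.K := (closure_le _).2 (by rintro _ (⟨j, rfl⟩ | ⟨j, rfl⟩) <;> exact B.sK _ _)
theorem τQ {t : H} (h : ∀ i u, t * B.s i u * t⁻¹ = B.s (Equiv.swap j k i) u) : t ∈ nz B.Q := nz_cl (by
  rintro _ (⟨j, rfl⟩ | ⟨j, rfl⟩) <;> simp only [h]; exacts [JQ1 _, JQ2 _])
theorem sQ (h1 : B.s j (u * J F * u⁻¹) ∈ B.Q) (h2 : B.s j (u * J' F * u⁻¹) ∈ B.Q) : B.s j u ∈ nz B.Q := nz_cl (by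
  have : ∀ i w, B.s j (u * w * u⁻¹) ∈ B.Q → B.s i w ∈ B.Q → B.s j u * B.s i w * (B.s j u)⁻¹ ∈ B.Q := fun i w a b => by
    by_cases e : j = i
    · simpa [← e] using a
    · rwa [(B.s_comm e u w).eq, mul_inv_cancel_right]
  rintro _ (⟨j, rfl⟩ | ⟨j, rfl⟩); exacts [this _ _ h1 (JQ1 _), this _ _ h2 (JQ2 _)])
theorem Sp.st_s (p : B.Sp) (e : k ≠ j) (hu : u * u = -1) (h : ⁅c, B.s j u⁆ ∈ center H) : Commute c (B.s j u) :=
  p.star (i := k) (fun i => by by_cases e : j = i <;> simp [ρs, up_P, up_P', e, ← map_mul, hu, μ_neg]) (by simp [ρs, up_P, e.symm]) h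

theorem Sp.sf [Finite E] (p : B.Sp) (h2 : ∀ x : F, x * x ≠ 2) (h3 : 2 < Fintype.card ι) : SF (H ⧸ center H) := by
  obtain ⟨i, j, l, ij, il, jl⟩ := Fintype.two_lt_card_iff.1 h3
  have : Nontrivial ι := ⟨i, j, ij⟩
  obtain ⟨g, t, e0, e1, e2, -⟩ := B.ex_τ ij
  have tt : t * t = 1 := by rw [← e0, conj_mul, zz]; simp
  have pR := pg_nz (Q_pg (B := B)) (τQ e2) (n := 1) (by simpa [sq] using tt)
  have tR := mem_sup_right (S := B.Q) (mem_zpowers t)
  obtain ⟨S, k1, k2, k3⟩ := syl' pR (sup_le (QK.trans B.KN) (zpowers_le.2 (B.τ_π e2).1)) fun X _ a =>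
    B.nb fun j => ⟨a (mem_sup_left (JQ1 j)), a (mem_sup_left (JQ2 j))⟩
  have QS : B.Q ≤ S := le_sup_left.trans k1
  have hs := QuotientGroup.mk'_surjective (center H)
  have hk := QuotientGroup.ker_mk' (center H)
  generalize QuotientGroup.mk' (center H) = φ at hs hk
  refine core' φ S hs hk (fun k => nJJ' B.twoF (B.s_inj i (by rw [map_mul, map_mul, mem_center_iff.1 (k (QS (JQ2 i)))])))
    (fun T hT n s m => ?_) fun x m o => ?_
  · obtain ⟨a1, a2⟩ := B.all_cl hT (fun j => ⟨QS (JQ1 j), QS (JQ2 j)⟩) k2 n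
    obtain ⟨y, a3, a4⟩ := wey' k2 hT a1 ⟨s, k2 m⟩ m
    have a5 := (B.π_one (g := y⁻¹ * ⟨s, k2 m⟩)).1 (by rw [map_mul, map_inv, a4, inv_mul_cancel])
    exact (mul_mem_cancel_left (inv_mem a3)).1 (a2 _ (S.1.mul_mem (S.1.inv_mem (hT.1 a3)) m) a5 (fun j => by
      obtain ⟨u, e⟩ := p.blk a5 j; rw [← B.det_μ u, e]; rfl) (by simp [p.p0]))
  have xK : x ∈ B.K := (B.π_one (g := ⟨x, k3 m⟩)).1 (sn' k2 (surj_of_swap fun a b e => by
    obtain ⟨-, t, -, -, e, -⟩ := B.ex_τ e; exact ⟨⟨t, _⟩, (B.τ_π e).2⟩) _ m o)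
  have bc : ∀ {c u} j, c ∈ B.K → Commute c (B.s j u) → Commute (B.b j c) (B.μ u) := fun j m h => by
    simpa [b_s] using b_comm m (B.sK _ _) h j
  let Γ : Subgroup H :=
    { carrier := {g | g ∈ nz B.Q ∧ Gd φ S B.Q g}
      mul_mem' := fun a b => ⟨mul_mem a.1 b.1, b.2.mul a.2 (mem_nz.1 b.1).le⟩
      one_mem' := ⟨one_mem _, gd_mem QS (one_mem _)⟩
      inv_mem' := fun a => ⟨inv_mem a.1, a.2.inv (mem_nz.1 a.1).ge⟩ }
  have := Finite.of_surjective φ hs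
  have QΓ : B.Q ≤ Γ := fun g a => ⟨le_nz_self _ a, gd_mem QS (QS a)⟩
  suffices h : x ∈ Γ from h.2.ext hs QS le_rfl (mem_nz.1 m).le fun c hc => by
    have c1 : ∀ j u, u * u = -1 → B.s j u ∈ B.Q → Commute c (B.s j u) := fun j u a b =>
      let ⟨_, e⟩ := exists_ne j; p.st_s e a (hk ▸ hc _ b)
    have cK : c ∈ B.K := B.mem_K.2 fun j => by rw [zJ, ((c1 j _ JJ (JQ1 j)).mul_right (c1 j _ JJ (JQ1 j))).eq, mul_inv_cancel_right]
    exact mem_sup_left (p.zp cK (fun j => ⟨bc j cK (c1 j _ JJ (JQ1 j)), bc j cK (c1 j _ JJ' (JQ2 j))⟩) zQ)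
  obtain ⟨ω, w0, w1, w2⟩ := ex_ω B.twoF
  have ωQ : ∀ j, B.s j ω ∈ nz B.Q := fun j => sQ (w1 ▸ JQ2 j) (by rw [w2, map_mul]; exact mul_mem (JQ1 j) (JQ2 j))
  have d : ∀ a b, a ≠ b → B.s a ω * (B.s b ω)⁻¹ ∈ Γ := fun a b e => by
    obtain ⟨g, t, e0, -, e2, -⟩ := B.ex_τ e
    have tt : t ^ 2 ^ 1 = 1 := by rw [← e0, conj_pow, pow_one, sq, zz]; simp
    have m := mul_mem (mul_mem (ωQ a) (τQ e2)) (inv_mem (ωQ a))
    have := Γ.mul_mem ⟨m, gd_two QS m (n := 1) (by rw [conj_pow, tt]; simp)⟩ (Γ.inv_mem ⟨τQ e2, gd_two QS (τQ e2) tt⟩)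
    rwa [show ∀ x t : H, x * t * x⁻¹ * t⁻¹ = x * (t * x * t⁻¹)⁻¹ from fun _ _ => by group, e2, Equiv.swap_apply_left] at this
  -- the extraspecial subgroup
  let D : SL(2, F) × SL(2, F) →* H := (B.s i).noncommCoprod (B.s j) (B.s_comm ij)
  have Dd : ∀ u v, D (u, v) = B.s i u * B.s j v := fun _ _ => rfl
  have tD : ∀ u v, t * D (u, v) = D (v, u) * t := fun u v => mul_inv_eq_iff_eq_mul.1 (by
    rw [Dd, Dd, ← conj_mul, e2, e2, Equiv.swap_apply_left, Equiv.swap_apply_right, (B.s_comm ij v u).eq])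
  have tD' : ∀ u v x, t * (D (u, v) * x) = D (v, u) * (t * x) := fun u v x => by rw [← mul_assoc, tD, mul_assoc]
  have DD : ∀ u v u' v', D (u, v) * D (u', v') = D (u * u', v * v') := fun _ _ _ _ => (map_mul D _ _).symm
  have DD' : ∀ u v u' v' x, D (u, v) * (D (u', v') * x) = D (u * u', v * v') * x := fun _ _ _ _ _ => by rw [← mul_assoc, DD]
  have D1 : D (1, 1) = 1 := map_one D
  have DK : ∀ u v, D (u, v) ∈ B.K := fun u v => mul_mem (B.sK _ _) (B.sK _ _)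
  have DP : ∀ u v a, B.ρ (D (u, v)) * B.P a = B.P a * if i = a then B.μ u else if j = a then B.μ v else 1 := fun u v a => by
    rw [B.bP (DK u v), Dd, B.b_mul (B.sK _ _) (B.sK _ _), b_s, b_s]
    by_cases e : i = a
    · simp [← e, ij.symm]
    · simp [e]
  have sD : ∀ a, a ≠ i → a ≠ j → ∀ w u v, Commute (B.s a w) (D (u, v)) := fun a a1 a2 w u v =>
    (B.s_comm a1 w u).mul_right (B.s_comm a2 w v)
  have st : ∀ a, a ≠ i → a ≠ j → ∀ w, Commute (B.s a w) t := fun a a1 a2 w =>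
    (mul_inv_eq_iff_eq_mul.1 ((e2 a w).trans (by rw [Equiv.swap_apply_of_ne_of_ne a1 a2]))).symm
  obtain ⟨f, hf⟩ : ∃ f, f = 1 - B.P i * B.R i - B.P j * B.R j := ⟨_, rfl⟩
  have fP : ∀ a, f * B.P a = if i = a ∨ j = a then 0 else B.P a := fun a => by
    by_cases a1 : i = a
    · simp [hf, ← a1, Matrix.sub_mul, Matrix.mul_assoc, B.RP, ij.symm]
    · by_cases a2 : j = a <;> simp [hf, a1, a2, Matrix.sub_mul, Matrix.mul_assoc, B.RP]
  have fP' : ∀ a (x : Matrix (Fin 2) (Fin 2) E), f * (B.P a * x) = if i = a ∨ j = a then 0 else B.P a * x := fun a x => by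
    rw [← Matrix.mul_assoc, fP]; split_ifs <;> simp
  have X : ∀ {x y : Matrix n n E}, (i ≠ j → j ≠ i → x * B.P i = y * B.P i) → (i ≠ j → j ≠ i → x * B.P j = y * B.P j) →
      (∀ a, i ≠ a → j ≠ a → x * B.P a = y * B.P a) → x = y :=
    fun a1 a2 a3 => B.ext (fun a => by
      by_cases b1 : i = a
      · exact b1 ▸ a1 ij ij.symm
      · by_cases b2 : j = a
        exacts [b2 ▸ a2 ij ij.symm, a3 a b1 b2]) (by simp [p.p0])
  have sw : ∀ a, i ≠ a → j ≠ a → Equiv.swap i j a = a := fun a a1 a2 => Equiv.swap_apply_of_ne_of_ne a1.symm a2.symm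
  have Df : ∀ u v, B.ρ (D (u, v)) * f = f ∧ f * B.ρ (D (u, v)) = f := fun u v => by
    constructor <;> refine X (fun a1 a2 => ?_) (fun a1 a2 => ?_) fun a a1 a2 => ?_ <;>
      simp [Matrix.mul_assoc, fP, fP', DP, a1, a2]
  have tf : B.ρ t * f = f ∧ f * B.ρ t = f := by
    constructor <;> refine X (fun a1 a2 => ?_) (fun a1 a2 => ?_) fun a a1 a2 => ?_ <;>
      simp [Matrix.mul_assoc, fP, e1, B.tm_P ij, sw, a1, a2]
  have uf : ∀ u v, B.ρ (D (u, v) * t) * f = f ∧ f * B.ρ (D (u, v) * t) = f := fun u v => by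
    simp [mul_assoc, tf, Df, ← mul_assoc f]
  have ζf : B.ρ (D (-1, -1)) = (2 : E) • f - 1 := by
    refine X (fun a1 a2 => ?_) (fun a1 a2 => ?_) fun a a1 a2 => ?_ <;> simp [Matrix.sub_mul, Matrix.add_mul, fP, DP, μ_neg, two_smul, a1, a2]
  have ff : f * f = f := by
    refine X (fun a1 a2 => ?_) (fun a1 a2 => ?_) fun a a1 a2 => ?_ <;> simp [Matrix.mul_assoc, fP, a1, a2]
  have sf : B.st f = f := by simp [hf, B.st_one p.ε, B.st_pr p.ε]
  obtain ⟨t1, r1, q1, n1⟩ := p.mkT ζf ff sf (Df (J F) (J F)).1 (Df _ _).2 (uf (-1) 1).1 (uf _ _).2 (by simp [DD, JJ])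
    (by simp [mul_assoc, tD', DD', DD, tt]) (by simp [Commute, SemiconjBy, mul_assoc, tD, DD'])
  obtain ⟨t2, r2, q2, n2⟩ := p.mkT ζf ff sf (uf 1 (-1)).1 (uf _ _).2 (Df (J' F) (J' F)).1 (Df _ _).2
    (by simp [mul_assoc, tD', DD', DD, tt]) (by simp [DD, JJ']) (by simp [Commute, SemiconjBy, mul_assoc, tD, DD'])
  let G0 : Set H := {D (J F, J F), D (J' F, J' F), D (-1, 1) * t, D (-J F, J F)} ∪
    {x | ∃ a, a ≠ i ∧ a ≠ j ∧ (x = B.s a (J F) ∨ x = B.s a (J' F))}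
  have g1 : D (J F, J F) ∈ closure G0 := subset_closure (by simp [G0])
  have g2 : D (J' F, J' F) ∈ closure G0 := subset_closure (by simp [G0])
  have g3 : D (-1, 1) * t ∈ closure G0 := subset_closure (by simp [G0])
  have g4 : D (-J F, J F) ∈ closure G0 := subset_closure (by simp [G0])
  have g5 : ∀ a, a ≠ i → a ≠ j → B.s a (J F) ∈ closure G0 ∧ B.s a (J' F) ∈ closure G0 := fun a a1 a2 =>
    ⟨subset_closure (.inr ⟨a, a1, a2, .inl rfl⟩), subset_closure (.inr ⟨a, a1, a2, .inr rfl⟩)⟩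
  have g6 : D (1, -1) * t ∈ closure G0 := by simpa [DD, DD', mul_assoc, JJ] using mul_mem (mul_mem g1 g1) g3
  have nn : ∀ {r b c : H}, (∀ (Y : Subgroup H), b ∈ Y → c ∈ Y → ∀ a ∈ Y, Commute a (D (-1, -1)) → (a * b = b * a ∨ a * b = D (-1, -1) * (b * a)) →
      (a * c = c * a ∨ a * c = D (-1, -1) * (c * a)) → r * a * r⁻¹ ∈ Y) → b ∈ closure G0 → c ∈ closure G0 →
      (∀ a ∈ G0, (a * b = b * a ∨ a * b = D (-1, -1) * (b * a)) ∧ (a * c = c * a ∨ a * c = D (-1, -1) * (c * a))) → r ∈ nz (closure G0) :=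
    fun h hb hc k => nz_cl fun a ha => h _ hb hc a (subset_closure ha) (by
      rcases ha with (rfl | rfl | rfl | rfl) | ⟨a, a1, a2, rfl | rfl⟩
      iterate 4 simp [Commute, SemiconjBy, mul_assoc, tD, DD', DD]
      all_goals exact sD a a1 a2 _ _ _) (k a ha).1 (k a ha).2
  have m1 := nn n1 g1 g3 (by
    rintro _ ((rfl | rfl | rfl | rfl) | ⟨a, a1, a2, rfl | rfl⟩)
    iterate 4 simp [mul_assoc, tD, tD', DD', DD, J'J]
    all_goals exact ⟨.inl (sD a a1 a2 _ _ _), .inl ((sD a a1 a2 _ _ _).mul_right (st a a1 a2 _))⟩)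
  have m2 := nn n2 g6 g2 (by
    rintro _ ((rfl | rfl | rfl | rfl) | ⟨a, a1, a2, rfl | rfl⟩)
    iterate 4 simp [mul_assoc, tD, tD', DD', DD, J'J]
    all_goals exact ⟨.inl ((sD a a1 a2 _ _ _).mul_right (st a a1 a2 _)), .inl (sD a a1 a2 _ _ _)⟩)
  have nJ : B.s i (-J F) ∈ B.Q := by rw [← neg_one_mul, map_mul]; exact mul_mem (zQ i) (JQ1 i)
  have GR : closure G0 ≤ B.Q ⊔ zpowers t := (closure_le _).2 (by
    rintro _ ((rfl | rfl | rfl | rfl) | ⟨a, a1, a2, rfl | rfl⟩)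
    exacts [mem_sup_left (mul_mem (JQ1 i) (JQ1 j)), mem_sup_left (mul_mem (JQ2 i) (JQ2 j)),
      mul_mem (mem_sup_left (mul_mem (zQ i) (map_one (B.s j) ▸ one_mem _))) tR, mem_sup_left (mul_mem nJ (JQ1 j)),
      mem_sup_left (JQ1 a), mem_sup_left (JQ2 a)])
  have e12 : t1 * t2 = D (ω, ω) := B.inj (by
    have w : B.μ ω = (2⁻¹ : E) • ((1 + B.μ (J F)) * (1 + B.μ (J' F))) := by
      rw [μ_def, w0, μ_def, μ_def]; ext; simp [mul_apply, one_apply, map_ofNat, apply_ite B.φ]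
    have tP : ∀ a (x : Matrix (Fin 2) (Fin 2) E), B.tm i j * (B.P a * x) = B.P (Equiv.swap i j a) * x := fun a x => by
      rw [← Matrix.mul_assoc, B.tm_P ij]
    have DP' : ∀ u v a (x : Matrix (Fin 2) (Fin 2) E), B.ρ (D (u, v)) * (B.P a * x) =
        B.P a * ((if i = a then B.μ u else if j = a then B.μ v else 1) * x) := fun u v a x => by
      rw [← Matrix.mul_assoc, DP, Matrix.mul_assoc]
    have two := B.two
    rw [map_mul, r1, r2]
    refine X (fun a1 a2 => ?_) (fun a1 a2 => ?_) fun a a1 a2 => ?_ <;>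
    · simp [Matrix.sub_mul, Matrix.add_mul, Matrix.mul_sub, Matrix.mul_add, Matrix.mul_assoc, fP, fP', DP, DP', tP, w, μ_neg, e1,
        B.tm_P ij, sw, a1, a2]
      match_scalars <;> field_simp <;> ring)
  have ωR : D (ω, ω) ∈ nz (B.Q ⊔ zpowers t) := mem_nz_sup (mul_mem (ωQ i) (ωQ j))
    (cz_le_nz _ (mem_cz_zpowers.2 (by rw [← tD, mul_inv_cancel_right])))
  have key : D (ω, ω) ∈ Γ := ⟨mul_mem (ωQ i) (ωQ j), (e12 ▸ ((gd_two (GR.trans k1) m2 q2).mul (gd_two (GR.trans k1) m1 q1)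
    (mem_nz.1 m2).le).ext hs GR k1 (e12 ▸ (mem_nz.1 ωR).le.trans k1) fun c hc => by
      have c1 : ∀ u v, u * u = -1 → v * v = -1 → D (u, v) ∈ closure G0 → Commute c (D (u, v)) := fun u v a b m =>
        p.star (i := l) (fun k => by
          by_cases b1 : i = k
          · simp [DP, b1, ← Matrix.mul_assoc (B.ρ _), Matrix.mul_assoc (B.P _), ← map_mul, a, μ_neg]
          · by_cases b2 : j = k <;> simp [DP, b1, b2, ← Matrix.mul_assoc (B.ρ _), Matrix.mul_assoc (B.P _), ← map_mul, b, μ_neg])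
          (by simp [DP, il, jl]) (hk ▸ hc _ m)
      have c2 := c1 _ _ JJ JJ g1
      have c3 := c1 _ _ JJ' JJ' g2
      have c4 := c1 _ _ (by simp [JJ]) JJ g4
      have c5 : ∀ a, a ≠ i → a ≠ j → Commute c (B.s a (J F)) ∧ Commute c (B.s a (J' F)) := fun a a1 a2 =>
        ⟨p.st_s a1.symm JJ (hk ▸ hc _ (g5 a a1 a2).1), p.st_s a1.symm JJ' (hk ▸ hc _ (g5 a a1 a2).2)⟩
      have z1 : B.z j = D (-J F, J F) * D (J F, J F) := by rw [DD]; simp [Dd, JJ, z]
      have z2 : B.z i = D (J F, J F) * D (J F, J F) * B.z j := by rw [DD]; simp [Dd, JJ, ← z.eq_1, mul_assoc, zz]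
      have ca : ∀ P : ι → Prop, P i → P j → (∀ a, a ≠ i → a ≠ j → P a) → ∀ a, P a := fun P a1 a2 a3 a => by
        by_cases b1 : a = i
        · exact b1 ▸ a1
        · by_cases b2 : a = j
          exacts [b2 ▸ a2, a3 a b1 b2]
      have cK : c ∈ B.K := B.mem_K.2 fun a => mul_inv_eq_iff_eq_mul.2 (ca (fun a => Commute c (B.z a))
        (z2 ▸ (c2.mul_right c2).mul_right (z1 ▸ c4.mul_right c2)) (z1 ▸ c4.mul_right c2)
        (fun a a1 a2 => B.zJ a ▸ (c5 a a1 a2).1.mul_right (c5 a a1 a2).1) a)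
      have bD : ∀ a u, Commute c (D (u, u)) → i = a ∨ j = a → Commute (B.b a c) (B.μ u) := fun a u h e => by
        have := b_comm cK (DK u u) h a
        rw [B.b_of (DP ..)] at this
        rcases e with rfl | rfl <;> simpa using this
      exact mem_sup_left (p.zp cK (ca _ ⟨bD _ _ c2 (.inl rfl), bD _ _ c3 (.inl rfl)⟩ ⟨bD _ _ c2 (.inr rfl), bD _ _ c3 (.inr rfl)⟩
        fun a a1 a2 => ⟨bc a cK (c5 a a1 a2).1, bc a cK (c5 a a1 a2).2⟩) (ca _ (z2 ▸ mul_mem (mul_mem g1 g1) (z1 ▸ mul_mem g4 g1))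
        (z1 ▸ mul_mem g4 g1) fun a a1 a2 => B.zJ a ▸ mul_mem (g5 a a1 a2).1 (g5 a a1 a2).1))).mono le_sup_left⟩
  have ω1 : B.s i (ω * ω) ∈ Γ := by
    simpa [mul_assoc] using mul_mem (d i j ij) (show B.s j ω * B.s i ω ∈ Γ from (B.s_comm ij ω ω).eq ▸ key)
  have ω2 : ∀ a, B.s a (ω * ω) ∈ Γ := fun a => by
    by_cases e : a = i
    · exact e ▸ ω1
    have := mul_mem (mul_mem (d a i e) (d a i e)) ω1
    rwa [(B.s_comm e ω ω).inv_right.symm.mul_mul_mul_comm, map_mul, mul_assoc, ← _root_.mul_inv_rev, inv_mul_cancel, mul_one, ← map_mul] at this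
  choose y hy using p.blk xK
  refine B.pi (· ∈ Γ) (one_mem _) (fun _ _ _ => mul_mem) xK y (fun j => (hy j).symm) (by simp [p.p0]) fun a =>
    sl23 (W := S.1.comap (B.s a)) (Γ := Γ.comap (B.s a)) B.twoF h2 B.sc (S.isPGroup'.comap_of_injective _ (B.s_inj a)) (QS (JQ1 a)) (QS (JQ2 a))
      (QΓ (JQ1 a)) (QΓ (JQ2 a)) w1 w2 (ω2 a) (mem_nz_of_conj_mem fun w hw => ?_)
  obtain ⟨v, hv⟩ := B.cj_s (B.KN xK) a w
  rw [(B.π_one (g := ⟨x, _⟩)).2 xK, Equiv.Perm.one_apply] at hv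
  have := conj_mem_of_mem_nz m hw
  rw [hv] at this
  rwa [show y a * w * (y a)⁻¹ = v from mul_inv_eq_iff_eq_mul.2 (B.μ_inj (by
    simpa [B.b_mul xK (B.sK _ _), B.b_mul (B.sK _ _) xK, b_s, hy] using congrArg (B.b a) (mul_inv_eq_iff_eq_mul.1 hv)))]

end BG
end H11.FK
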