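import Cfsg.Agent.H11.FK3
import Cfsg.Agent.H11.SUSimple
import Cfsg.Agent.H11.QuadExt
import Cfsg.Agent.H11.Order3

/-! S5161: the chunks `SLo`, `SUo`, `SPo`. -/

set_option autoImplicit false
set_option linter.unusedSectionVars false

namespace H11.FK
open Cfsg Subgroup H25 H27.FK Matrix Function
open scoped MatrixGroups

section
variable {H E n ι : Type} [Group H] [Field E] [Fintype n] [DecidableEq n] [Fintype ι] [DecidableEq ι]

variable (E) in
/-- two unit vectors -/
def fr (v : Fin 2 → n) : Matrix n (Fin 2) E := of fun r a => if r = v a then 1 else 0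
theorem fr_mul (v w : Fin 2 → n) : (fr E v)ᵀ * fr E w = of fun a b => if v a = w b then 1 else 0 := by
  ext a b; simp [fr, mul_apply, eq_comm]
theorem fr_map (σ : E →+* E) (v : Fin 2 → n) : (fr E v).map σ = fr E v := by ext; simp [fr, apply_ite σ]
theorem fr_RP {e : ι × Fin 2 → n} (he : Injective e) (j k : ι) :
    (fr E fun a => e (j, a))ᵀ * (fr E fun a => e (k, a)) = if j = k then 1 else 0 := by
  rw [fr_mul]; ext a b; by_cases h : j = k <;> simp [he.eq_iff, h, one_apply]
open Classical in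
theorem fr_sum {e : ι × Fin 2 → n} (he : Injective e) : ∑ j, (fr E fun a => e (j, a)) * (fr E fun a => e (j, a))ᵀ +
    diagonal (fun r => if r ∈ Set.range e then 0 else 1) = 1 := by
  ext r s
  simp only [fr, Matrix.add_apply, Matrix.sum_apply, mul_apply, of_apply, transpose_apply, ← Fintype.sum_prod_type', diagonal_apply, one_apply]
  by_cases h : r ∈ Set.range e
  · obtain ⟨x, rfl⟩ := h
    rw [Finset.sum_eq_single x (fun y _ n => by simp [he.eq_iff, n.symm]) (by simp)]; simp [eq_comm]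
  · rw [Finset.sum_eq_zero fun x _ => by rw [if_neg fun k => h ⟨_, k.symm⟩, zero_mul]]; simp [h]
theorem ex_w (σ : E →+* E) {r s : n} (h : r ≠ s) :
    ∃ M : Matrix n n E, M.det = 1 ∧ (M.map σ)ᵀ * M = 1 ∧ M * single r r 1 = single s s 1 * M := by
  obtain ⟨v, v0, v1⟩ : ∃ v : Fin 2 → n, v 0 = r ∧ v 1 = s := ⟨![r, s], rfl, rfl⟩
  have f : (fr E v)ᵀ * fr E v = 1 := by rw [fr_mul]; ext a b; fin_cases a <;> fin_cases b <;> simp [v0, v1, h, h.symm]
  have f' : ∀ x : Matrix (Fin 2) n E, (fr E v)ᵀ * (fr E v * x) = x := fun x => by rw [← Matrix.mul_assoc, f, Matrix.one_mul]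
  have s : ∀ b, single (v b) (v b) (1 : E) = fr E v * ((single b b 1 : Matrix (Fin 2) (Fin 2) E) * (fr E v)ᵀ) := fun b => by
    ext s t; fin_cases b <;> simp [fr, mul_apply, single_apply, ite_and, eq_comm] <;> split_ifs <;> rfl
  refine ⟨1 + fr E v * (((J E).1 - 1) * (fr E v)ᵀ), by rw [det_one_add_mul_comm, Matrix.mul_assoc, f]; simp, ?_, ?_⟩
  · have : ((J E).1 - 1).map σ = (J E).1 - 1 := by ext a b; fin_cases a <;> fin_cases b <;> simp [Jv]
    simp only [Matrix.map_add _ (map_add σ), Matrix.map_mul, Matrix.map_one _ (map_zero σ) (map_one σ), transpose_map, fr_map, this,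
      transpose_add, transpose_mul, transpose_transpose, transpose_one, Matrix.add_mul, Matrix.mul_add, Matrix.mul_assoc, f',
      Matrix.one_mul, Matrix.mul_one]
    rw [add_assoc, ← Matrix.mul_assoc (_ - 1)ᵀ, ← Matrix.mul_add, ← Matrix.mul_add, ← Matrix.add_mul, ← Matrix.add_mul,
      show ∀ x : Matrix (Fin 2) (Fin 2) E, x = 0 → 1 + fr E v * (x * (fr E v)ᵀ) = 1 from fun x h => by simp [h]]
    ext a b; fin_cases a <;> fin_cases b <;> simp [Jv, mul_apply, Fin.sum_univ_two]
  rw [← v0, ← v1, s, s]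
  simp only [Matrix.add_mul, Matrix.mul_add, Matrix.mul_assoc, f', Matrix.one_mul, Matrix.mul_one]
  rw [← Matrix.mul_assoc (_ - 1), ← Matrix.mul_assoc (single _ _ _), ← Matrix.mul_add, ← Matrix.mul_add, ← Matrix.add_mul, ← Matrix.add_mul]
  congr 2
  ext a b; fin_cases a <;> fin_cases b <;> simp [Jv, mul_apply, Fin.sum_univ_two, single_apply]

open Classical in
/-- the block structure of the linear and unitary groups -/
noncomputable def mkU (ρ : H →* Matrix n n E) (inj : Injective ρ) (σ : E →+* E) (ε : Prop) (two : (2 : E) ≠ 0) [Nonempty ι]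
    {e : ι × Fin 2 → n} (he : Injective e) (hr : ∀ r s, r ∉ Set.range e → s ∉ Set.range e → r = s) (C : GL (Fin 2) E) {δ : E}
    (hC : ε → (C.1.map σ)ᵀ * C.1 = δ • !![0, -1; 1, 0]) (mem : ∀ M : Matrix n n E, M.det = 1 → (ε → (M.map σ)ᵀ * M = 1) → ∃ g, ρ g = M)
    (un : ε → ∀ g, ((ρ g).map σ)ᵀ * ρ g = 1) (sl : ε ∨ ∀ c, σ c = c) : BG H E (σ.eqLocusField (RingHom.id E)) n ι where
  ρ := ρ
  φ := Subfield.subtype _
  σ := σ
  P j := (fr E fun a => e (j, a)) * C.1
  R j := (C⁻¹).1 * (fr E fun a => e (j, a))ᵀ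
  p0 := diagonal fun r => if r ∈ Set.range e then 0 else 1
  st := AddMonoidHom.mk' (fun M => (M.map σ)ᵀ) fun a b => by simp [Matrix.map_add]
  ε := ε
  two := two
  inj := inj
  RP j k := by
    rw [Matrix.mul_assoc, ← Matrix.mul_assoc _ _ C.1, fr_RP he]; split_ifs <;> simp
  sum := by simpa only [Matrix.mul_assoc, ← Matrix.mul_assoc C.1, Units.mul_inv, Matrix.one_mul] using fr_sum he
  rk a := by
    by_cases h : ∃ r, r ∉ Set.range e
    · obtain ⟨r, h⟩ := h
      refine ⟨a r r, ?_⟩
      ext s t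
      by_cases h1 : s ∈ Set.range e
      · simp [h1, diagonal_apply, -Set.mem_range]
      by_cases h2 : t ∈ Set.range e
      · simp [h2, diagonal_apply, show s ≠ t from fun k => h1 (k ▸ h2), -Set.mem_range]
      simp [hr s r h1 h, hr t r h2 h, h, -Set.mem_range]
    · exact ⟨0, by simp [show ∀ r, r ∈ Set.range e from fun r => by_contra fun k => h ⟨r, k⟩, -Set.mem_range]⟩
  st_mul _ a b := by simp [Matrix.map_mul]
  st_one _ := by simp
  st_blk h j k x := by
    have d : δ ≠ 0 := fun z => by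
      have := congrArg det (hC h)
      rw [z, det_mul, det_transpose, ← RingHom.mapMatrix_apply, ← RingHom.map_det] at this
      simp [C.det_ne_zero] at this
    have e1 : (C.1.map σ)ᵀ = δ • !![0, -1; 1, 0] * (C⁻¹).1 := by rw [← hC h, Matrix.mul_assoc, Units.mul_inv, Matrix.mul_one]
    have e2 : ((C⁻¹).1.map σ)ᵀ = C.1 * (δ⁻¹ • !![0, 1; -1, 0]) := right_inv_eq_left_inv (A := (C.1.map σ)ᵀ)
      (by rw [← transpose_mul, ← Matrix.map_mul]; simp) (by
      rw [e1, Matrix.mul_assoc, ← Matrix.mul_assoc (δ⁻¹ • _), smul_mul_smul_comm]; simp [d, ← one_fin_two])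
    have e3 : δ⁻¹ • !![0, 1; -1, 0] * ((x.map σ)ᵀ * (δ • !![0, -1; 1, 0])) = (x.map σ).adjugate := by
      ext a b; fin_cases a <;> fin_cases b <;> simp [adjugate_fin_two, mul_apply, Fin.sum_univ_two] <;> field_simp
    simp only [AddMonoidHom.mk'_apply, Matrix.map_mul, transpose_mul, transpose_map, fr_map, transpose_transpose, e1, e2, ← e3,
      Matrix.mul_assoc]
  mem := mem
  un := un
  fix c := by simp [RingHom.mem_range]
  sl := sl
  odd h := by
    obtain ⟨r, hr'⟩ : ∃ r, r ∉ Set.range e := by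
      by_contra! k
      exact h (by simp [k, -Set.mem_range])
    obtain ⟨j⟩ := ‹Nonempty ι›
    have k : ∀ a, ∃ g, ρ g * diagonal (fun r => if r ∈ Set.range e then 0 else 1) * ρ g⁻¹ = single (e (j, a)) (e (j, a)) 1 := fun a => by
      obtain ⟨M, d, u, w⟩ := ex_w σ (fun k => hr' ⟨_, k.symm⟩ : r ≠ e (j, a))
      obtain ⟨g, rfl⟩ := mem M d fun _ => u
      refine ⟨g, ?_⟩
      rw [show (diagonal fun r => if r ∈ Set.range e then 0 else 1) = single r r (1 : E) by
        ext s t
        by_cases h1 : s ∈ Set.range e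
        · simp [h1, diagonal_apply, show r ≠ s from fun k => hr' (k ▸ h1), -Set.mem_range]
        · simp [hr s r h1 hr', hr', diagonal_apply, single_apply, -Set.mem_range], w, mul_assoc, ← map_mul]
      simp
    obtain ⟨g, hg⟩ := k 0
    obtain ⟨g', hg'⟩ := k 1
    refine ⟨j, g, g', ?_⟩
    rw [hg, hg', Matrix.mul_assoc, ← Matrix.mul_assoc C.1, Units.mul_inv, Matrix.one_mul]
    ext s t; simp only [fr, mul_apply, Fin.sum_univ_two]; simp [single_apply, ← ite_and, eq_comm, and_comm]
end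

/-- the pairs of coordinates -/
def ix (n : ℕ) (x : Fin (n / 2) × Fin 2) : Fin n := ⟨2 * x.1 + x.2, by omega⟩
theorem ix_inj (n : ℕ) : Injective (ix n) := fun x y e => by
  have := congrArg Fin.val e
  simp only [ix] at this
  exact Prod.ext (Fin.ext (by omega)) (Fin.ext (by omega))
theorem ix_hr (n : ℕ) (r s : Fin n) (h : r ∉ Set.range (ix n)) (h' : s ∉ Set.range (ix n)) : r = s := by
  have k : ∀ r : Fin n, r ∉ Set.range (ix n) → r.val + 1 = n := fun r h => by_contra fun k =>
    h ⟨(⟨r / 2, by omega⟩, ⟨r % 2, by omega⟩), Fin.ext (by simp only [ix]; omega)⟩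
  exact Fin.ext (by have := k r h; have := k s h'; omega)

theorem slo : SLo := fun F _ _ n ho hn => by
  have : Nontrivial (Fin (n / 2)) := Fin.nontrivial_iff_two_le.2 (by omega)
  exact (mkU (H := SL(n, F)) (δ := 0) ((Units.coeHom _).comp SpecialLinearGroup.toGL) (fun _ _ e => Subtype.ext e) (RingHom.id F) False
    (H12.odd_card_iff.1 ho) (ix_inj n) (ix_hr n) 1 False.elim (fun M d _ => ⟨⟨M, d⟩, rfl⟩) False.elim (.inr fun _ => rfl)).sf1
    (sl_commutator_eq_top (by simp; omega)) ⟨1, one_ne_zero, False.elim⟩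

theorem suo : SUo := fun F _ _ n q hF ho hn => by
  have : Nontrivial (Fin (n / 2)) := Fin.nontrivial_iff_two_le.2 (by omega)
  have two : (2 : F) ≠ 0 := H12.odd_card_iff.1 (hF ▸ ho.pow)
  obtain ⟨t, ht⟩ := exists_norm_eq hF (c := -1) (by simpa using map_neg (frob hF) 1)
  obtain ⟨c, hc⟩ := exists_norm_eq hF (c := 2⁻¹) (by rw [← frob_apply hF, map_inv₀, map_ofNat])
  obtain ⟨w, hw⟩ := not_forall.1 fun k => frob_ne_id hF (RingHom.ext k)
  have l0 : w - frob hF w ≠ 0 := fun e => hw (sub_eq_zero.1 e).symm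
  have l1 : frob hF (w - frob hF w) = -(w - frob hF w) := by rw [map_sub, frob_frob, neg_sub]
  generalize w - frob hF w = l at l0 l1
  have t0 : t ≠ 0 := by rintro rfl; simp at ht
  have k : ∀ g : SL(n, F), g ∈ SU n F q ↔ (g.1.map (frob hF))ᵀ * g.1 = 1 := fun g => ((toGL_mem_GU n g).symm.trans
    (mem_GU_iff_matrix hF n _)).trans (by rw [← transpose_inj, transpose_mul, transpose_transpose, transpose_one]; rfl)
  refine (mkU (H := SU n F q) (δ := -2 * l) (((Units.coeHom _).comp SpecialLinearGroup.toGL).comp (Subgroup.subtype _))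
    (fun _ _ e => Subtype.ext (Subtype.ext e)) (frob hF) True two (ix_inj n) (ix_hr n)
    (GeneralLinearGroup.mkOfDetNeZero !![1, l; t, -(l * t)] (by simp [det_fin_two, ← neg_add', ← two_mul, two, l0, t0])) (fun _ => ?_)
    (fun M d h => ⟨⟨⟨M, d⟩, (k _).2 (h trivial)⟩, rfl⟩) (fun _ g => (k _).1 g.2) (.inl trivial)).sf1 (su_perfect hF (by omega) (by omega))
    ⟨c, by rintro rfl; exact inv_ne_zero two (by simpa using hc.symm), fun _ => show 2 * (c * c ^ q) = 1 by rw [hc, mul_inv_cancel₀ two]⟩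
  rw [← frob_apply hF] at ht
  ext a b; fin_cases a <;> fin_cases b <;> simp [mul_apply, Fin.sum_univ_two, l1, -frob_apply]
  exacts [by linear_combination ht, by linear_combination -l * ht, by linear_combination l * ht, by linear_combination -l * l * ht]

theorem spo : SPo := fun F _ _ m ho hm => by
  have : Nontrivial (Fin m) := Fin.nontrivial_iff_two_le.2 (by omega)
  let e : Fin m × Fin 2 → Fin m ⊕ Fin m := fun x => ![.inl x.1, .inr x.1] x.2
  have he : Injective e := fun ⟨j, a⟩ ⟨k, b⟩ h => by fin_cases a <;> fin_cases b <;> simp_all [e]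
  have JP : ∀ j, Matrix.J (Fin m) F * (fr F fun a => e (j, a)) = (fr F fun a => e (j, a)) * (J F).1 := fun j => by
    ext (r | r) a <;> fin_cases a <;> simp [fr, e, Jv, mul_apply, Matrix.J, one_apply, Fin.sum_univ_two]
    split_ifs <;> simp
  have RJ : ∀ j, (fr F fun a => e (j, a))ᵀ * Matrix.J (Fin m) F = (J F).1 * (fr F fun a => e (j, a))ᵀ := fun j => by
    ext a (r | r) <;> fin_cases a <;> simp [fr, e, Jv, mul_apply, Matrix.J, one_apply, Fin.sum_univ_two, eq_comm]
    split_ifs <;> simp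
  have k : ∀ M, -(Matrix.J (Fin m) F * Mᵀ * Matrix.J (Fin m) F) * M = 1 ↔ M ∈ symplecticGroup (Fin m) F := fun M => by
    rw [SymplecticGroup.mem_iff']
    refine ⟨fun h => ?_, fun h => by rw [neg_mul, mul_assoc, mul_assoc, ← mul_assoc Mᵀ, h, J_squared, neg_neg]⟩
    simpa [← mul_assoc, J_squared] using congrArg (Matrix.J (Fin m) F * ·) h
  let B : BG (symplecticGroup (Fin m) F) F F (Fin m ⊕ Fin m) (Fin m) :=
    { ρ := Submonoid.subtype _
      φ := RingHom.id F
      σ := RingHom.id F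
      P := fun j => fr F fun a => e (j, a)
      R := fun j => (fr F fun a => e (j, a))ᵀ
      p0 := 0
      st := AddMonoidHom.mk' (fun M => -(Matrix.J (Fin m) F * Mᵀ * Matrix.J (Fin m) F)) fun a b => by simp [mul_add, add_mul, add_comm]
      ε := True
      two := H12.odd_card_iff.1 ho
      inj := Subtype.val_injective
      RP := fr_RP he
      sum := by
        have : ∀ r, r ∈ Set.range e := by rintro (r | r); exacts [⟨(r, 0), rfl⟩, ⟨(r, 1), rfl⟩]
        simpa [this, -Set.mem_range] using fr_sum (E := F) he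
      rk := fun _ => ⟨0, by simp⟩
      st_mul := fun _ a b => by simp [mul_assoc, ← mul_assoc (Matrix.J _ _) (Matrix.J _ _), J_squared]
      st_one := fun _ => by simp [J_squared]
      st_blk := fun _ j k x => by
        have : (x.map (RingHom.id F)).adjugate = -((J F).1 * (xᵀ * (J F).1)) := by
          ext a b; fin_cases a <;> fin_cases b <;> simp [adjugate_fin_two, Jv, mul_apply, vecMul, dotProduct, Fin.sum_univ_two]
        simp only [AddMonoidHom.mk'_apply, transpose_mul, transpose_transpose, this, Matrix.mul_assoc, RJ, Matrix.neg_mul, Matrix.mul_neg]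
        rw [← Matrix.mul_assoc, JP, Matrix.mul_assoc]
      mem := fun M _ h => ⟨⟨M, (k M).1 (h trivial)⟩, rfl⟩
      un := fun _ g => (k _).2 g.2
      fix := fun c => by simp
      sl := .inl trivial
      odd := fun h => (h rfl).elim }
  by_cases h : ∃ x : F, x * x = 2
  · obtain ⟨x, h⟩ := h
    have x0 : x ≠ 0 := by rintro rfl; exact B.two (by simpa using h.symm)
    exact B.sf1 (sp_perfect (.inl hm)) ⟨x⁻¹, inv_ne_zero x0, fun _ => show 2 * (x⁻¹ * x⁻¹) = 1 by rw [← h]; field_simp⟩
  · exact BG.Sp.sf (B := B) ⟨trivial, fun _ => rfl, rfl, fun M h => ⟨⟨M, (k M).1 h⟩, rfl⟩⟩ (not_exists.1 h) (by simp; omega)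

end H11.FK
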