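import Mathlib

/-! Semilinear ("Real" and quaternionic) representations of finite groups: framework. -/

set_option autoImplicit false
set_option linter.unusedSectionVars false

namespace H11.FS

open Module Submodule LinearMap
open scoped ComplexConjugate Classical

universe u

variable {Γ : Type u} [Group Γ] {σ : Γ →* (ℂ →+* ℂ)} {H K N : Subgroup Γ} {V W : Type} [AddCommGroup V] [Module ℂ V]
  [AddCommGroup W] [Module ℂ W] {x y k ζ : Γ}

/-- every element acts on the scalars trivially or by conjugation -/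
def Sg (σ : Γ →* (ℂ →+* ℂ)) : Prop := ∀ x, σ x = 1 ∨ σ x = starRingEnd ℂ

/-- semilinear representations of a subgroup -/
structure SR (σ : Γ →* (ℂ →+* ℂ)) (H : Subgroup Γ) (V : Type) [AddCommGroup V] [Module ℂ V] where
  /-- the action -/
  a : Γ → V →+ V
  one : ∀ v, a 1 v = v
  mul : ∀ {x y}, x ∈ H → y ∈ H → ∀ v, a (x * y) v = a x (a y v)
  sm : ∀ x c v, a x (c • v) = σ x c • a x v

instance : CoeFun (SR σ H V) fun _ => Γ → V →+ V := ⟨SR.a⟩

attribute [simp] SR.one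

@[simp] theorem sg_inv (x : Γ) (c : ℂ) : σ x (σ x⁻¹ c) = c := by
  rw [← RingHom.comp_apply, ← RingHom.mul_def, ← map_mul]; simp

@[simp] theorem inv_sg (x : Γ) (c : ℂ) : σ x⁻¹ (σ x c) = c := by simpa using sg_inv (σ := σ) x⁻¹ c

theorem sg_mul (x y : Γ) (c : ℂ) : σ (x * y) c = σ x (σ y c) := by simp

theorem Sg.conj (h : Sg σ) (hk : σ k ≠ 1) : σ k = starRingEnd ℂ := (h k).resolve_left hk

theorem Sg.mul (h : Sg σ) (hx : σ x ≠ 1) (hy : σ y ≠ 1) : σ (x * y) = 1 := by ext; simp [h.conj hx, h.conj hy]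

theorem sg_inv_one (h : σ x = 1) : σ x⁻¹ = 1 := inv_mem (show x ∈ σ.ker from h)

theorem sg_inv_ne (h : σ x ≠ 1) : σ x⁻¹ ≠ 1 := fun e => h (by simpa using sg_inv_one e)

theorem sg_cj (h : σ x = 1) (k : Γ) : σ (k * x * k⁻¹) = 1 := by rw [map_mul, map_mul, h, mul_one, ← map_mul]; simp

/-- restriction of an additive map to a subspace -/
noncomputable def rs (T : V →+ V) (p : Submodule ℂ V) : p →+ p :=
  if h : ∀ v ∈ p, T v ∈ p then .mk' (fun v => ⟨T v, h v v.2⟩) fun _ _ => by ext; simp else 0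

theorem rs_apply {T : V →+ V} {p : Submodule ℂ V} (h : ∀ v ∈ p, T v ∈ p) (v : p) : (rs T p v : V) = T v := by
  rw [rs, dif_pos h]; rfl

namespace SR

variable (a : SR σ H V) (b : SR σ H W)

theorem inv_r (hx : x ∈ H) (v : V) : a x (a x⁻¹ v) = v := by simp [← a.mul hx (inv_mem hx)]

theorem inv_l (hx : x ∈ H) (v : V) : a x⁻¹ (a x v) = v := by simp [← a.mul (inv_mem hx) hx]

theorem inj (hx : x ∈ H) : Function.Injective (a x) := Function.LeftInverse.injective (a.inv_l hx)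

/-- restriction -/
def res (h : K ≤ H) : SR σ K V := ⟨a.a, a.one, fun hx hy => a.mul (h hx) (h hy), a.sm⟩

@[simp] theorem res_apply (h : K ≤ H) : (a.res h).a = a.a := rfl

/-- the action on linear maps -/
def cj (x : Γ) (f : V →ₗ[ℂ] W) : V →ₗ[ℂ] W where
  toFun v := b x (f (a x⁻¹ v))
  map_add' := by simp
  map_smul' c v := by simp [a.sm, b.sm]

@[simp] theorem cj_apply (x : Γ) (f : V →ₗ[ℂ] W) (v : V) : a.cj b x f v = b x (f (a x⁻¹ v)) := rfl

/-- the representation on linear maps -/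
def hom : SR σ H (V →ₗ[ℂ] W) where
  a x := .mk' (a.cj b x) fun f g => by ext; simp
  one f := by ext; simp
  mul hx hy f := by ext; simp [a.mul (inv_mem hy) (inv_mem hx), b.mul hx hy]
  sm x c f := by ext; simp [b.sm]

@[simp] theorem hom_apply (x : Γ) (f : V →ₗ[ℂ] W) : a.hom b x f = a.cj b x f := rfl

theorem hom_fix (hx : x ∈ H) {f : V →ₗ[ℂ] W} : a.hom b x f = f ↔ ∀ v, f (a x v) = b x (f v) :=
  ⟨fun h v => by simpa [a.inv_l hx] using (congr($h (a x v)) :).symm, fun h => by ext; simp [← h, a.inv_r hx]⟩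

/-- the linear map of an element acting linearly -/
noncomputable def lin (x : Γ) : End ℂ V :=
  if h : σ x = 1 then ⟨⟨a x, map_add _⟩, fun c v => by simp [a.sm, h]⟩ else 0

theorem lin_apply (h : σ x = 1) (v : V) : a.lin x v = a x v := by simp [lin, h]

theorem lin_mul (hx : x ∈ H) (hy : y ∈ H) (h : σ x = 1) (h' : σ y = 1) : a.lin (x * y) = a.lin x * a.lin y := by
  ext; simp [lin_apply, h, h', a.mul hx hy]

@[simp] theorem lin_one : a.lin 1 = 1 := by ext; simp [lin_apply]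

theorem lin_pow (hx : x ∈ H) (h : σ x = 1) (n : ℕ) : a.lin (x ^ n) = a.lin x ^ n := by
  induction n with
  | zero => simp
  | succ n ih => rw [pow_succ, a.lin_mul (pow_mem hx n) hx (by simp [h]) h, ih, pow_succ]

/-- invariant subspaces -/
def Inv (N : Subgroup Γ) (p : Submodule ℂ V) : Prop := ∀ x ∈ N, ∀ v ∈ p, a x v ∈ p

/-- simple modules -/
def Simp (N : Subgroup Γ) : Prop := Nontrivial V ∧ ∀ p, a.Inv N p → p = ⊥ ∨ p = ⊤

/-- subrepresentations -/
noncomputable def sub (p : Submodule ℂ V) (h : a.Inv H p) : SR σ H p where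
  a x := rs (a x) p
  one v := by ext; simp [rs_apply (h 1 H.one_mem)]
  mul hx hy v := by ext; simp [rs_apply (h _ hx), rs_apply (h _ hy), rs_apply (h _ (H.mul_mem hx hy)), a.mul hx hy]
  sm x c v := by unfold rs; split_ifs <;> ext <;> simp [a.sm]

theorem sub_apply {p : Submodule ℂ V} (h : a.Inv H p) (hx : x ∈ H) (v : p) : (a.sub p h x v : V) = a x v :=
  rs_apply (h x hx) v

theorem sub_simp {p : Submodule ℂ V} (h : a.Inv H p) (hN : N ≤ H) (h0 : p ≠ ⊥)
    (h1 : ∀ q, a.Inv N q → q ≤ p → q = ⊥ ∨ q = p) : (a.sub p h).Simp N :=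
  ⟨nontrivial_iff_ne_bot.2 h0, fun q hq => (h1 (q.map p.subtype) (by
    rintro x hx _ ⟨v, hv, rfl⟩
    exact ⟨_, hq x hx v hv, a.sub_apply h (hN hx) v⟩) (map_subtype_le _ _)).imp
      (fun e => map_injective_of_injective p.injective_subtype (by simpa using e))
      fun e => map_injective_of_injective p.injective_subtype (by simpa using e)⟩

/-- the translate of a subspace -/
def tl (x : Γ) (p : Submodule ℂ V) : Submodule ℂ V where
  carrier := {v | a x⁻¹ v ∈ p}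
  add_mem' h h' := by simpa using p.add_mem h h'
  zero_mem' := by simp
  smul_mem' c v h := by simpa [a.sm] using p.smul_mem _ h

theorem mem_tl {p : Submodule ℂ V} {v : V} : v ∈ a.tl x p ↔ a x⁻¹ v ∈ p := .rfl

theorem ex_min [FiniteDimensional ℂ V] {p : Submodule ℂ V} (h : a.Inv N p) (h0 : p ≠ ⊥) :
    ∃ q, q ≤ p ∧ a.Inv N q ∧ q ≠ ⊥ ∧ ∀ r, a.Inv N r → r ≤ q → r = ⊥ ∨ r = q := by
  obtain ⟨q, h1, h2⟩ := wellFounded_lt.has_min {q | q ≤ p ∧ a.Inv N q ∧ q ≠ ⊥} ⟨p, le_rfl, h, h0⟩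
  exact ⟨q, h1.1, h1.2.1, h1.2.2, fun r c d => or_iff_not_imp_left.2 fun e =>
    d.eq_or_lt.resolve_right (h2 r ⟨d.trans h1.1, c, e⟩)⟩

variable {a}

theorem Simp.schur [FiniteDimensional ℂ V] (h : a.Simp N) (f : End ℂ V) (hf : ∀ x ∈ N, ∀ v, f (a x v) = a x (f v))
    (hN : ∀ x ∈ N, σ x = 1) : ∃ c : ℂ, ∀ v, f v = c • v := by
  have := h.1
  obtain ⟨c, hc⟩ := f.exists_eigenvalue
  refine ⟨c, fun v => End.mem_eigenspace_iff.1 (((h.2 (f.eigenspace c) fun x hx v hv => ?_).resolve_left hc).ge mem_top)⟩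
  rw [End.mem_eigenspace_iff] at hv ⊢
  simp [hf x hx, hv, a.sm, hN x hx]

variable (a) [Fintype Γ]

/-- averaging -/
noncomputable def avg (N : Subgroup Γ) (v : V) : V := (Nat.card N : ℂ)⁻¹ • ∑ x : N, a x v

theorem avg_fix (hN : N ≤ H) (hy : y ∈ N) (v : V) : a y (a.avg N v) = a.avg N v := by
  simp only [avg, a.sm, map_inv₀, map_natCast, map_sum]
  congr 1
  exact Fintype.sum_equiv (Equiv.mulLeft (⟨y, hy⟩ : N)) _ _ fun x => (a.mul (hN hy) (hN x.2) v).symm

theorem cne (N : Subgroup Γ) : (Nat.card N : ℂ) ≠ 0 := Nat.cast_ne_zero.2 Nat.card_pos.ne'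

theorem avg_of {f : N → V} {v : V} (h : ∀ x, f x = v) : (Nat.card N : ℂ)⁻¹ • ∑ x, f x = v := by
  simp [h, ← Nat.cast_smul_eq_nsmul ℂ, smul_smul, ← Nat.card_eq_fintype_card, cne]

theorem avg_hom (N : Subgroup Γ) (f : V →ₗ[ℂ] W) (v : V) :
    (a.hom b).avg N f v = (Nat.card N : ℂ)⁻¹ • ∑ x : N, b x (f (a (x : Γ)⁻¹ v)) := by simp [avg]

theorem maschke {p : Submodule ℂ V} (h : a.Inv H p) : ∃ e : End ℂ V, (∀ v, e v ∈ p) ∧ (∀ v ∈ p, e v = v) ∧
    ∀ x ∈ H, ∀ v, e (a x v) = a x (e v) := by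
  obtain ⟨q, hq⟩ := p.exists_isCompl
  refine ⟨(a.hom a).avg H (p.projection q hq), fun v => ?_, fun v hv => ?_,
    fun x hx => (a.hom_fix a hx).1 (avg_fix _ le_rfl hx _)⟩ <;> rw [avg_hom]
  · exact p.smul_mem _ (sum_mem fun x _ => h _ x.2 _ (projection_apply_mem hq _))
  · exact avg_of fun x => by rw [projection_apply_of_mem_left hq (h (x : Γ)⁻¹ (inv_mem x.2) _ hv), a.inv_r x.2]

end SR

/-- no simple quaternionic representation -/
def TT (σ : Γ →* (ℂ →+* ℂ)) (ζ : Γ) (H : Subgroup Γ) : Prop :=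
  ∀ (V : Type) [AddCommGroup V] [Module ℂ V] [FiniteDimensional ℂ V] (a : SR σ H V), (∃ k ∈ H, σ k ≠ 1) →
    (∀ v, a ζ v = -v) → ¬a.Simp (H ⊓ σ.ker)

end H11.FS
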