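import Cfsg.Agent.H11.FS9

/-! The end of the recursion: no quaternionic representations of the orthogonal groups. -/

set_option autoImplicit false
set_option linter.unusedSectionVars false

namespace H11.FS

open Module Submodule LinearMap Multiplicative
open scoped Classical

universe u

variable {F V : Type u} [Field F] [CharP F 2] [AddCommGroup V] [Module F V] {Q : QuadraticForm F V}
  [Finite F] [Finite V] [hQ : Fact (ND Q ⊤)]

local notation "B" => bf Q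
local notation "σ" => sg (End F V)ˣ
local notation "ζ" => zt (End F V)ˣ

theorem fix_coset {D : Type*} [Group D] [Finite D] (hD : IsPGroup 2 D) (ρ : D →* End F V) (A : Submodule F V) {v₀ w : V}
    (hA : ∀ x, ∀ a ∈ A, ρ x a ∈ A) (h0 : ∀ x, ρ x v₀ = v₀) (h1 : w ∈ A) (h2 : w ∉ F ∙ v₀) :
    ∃ w ∈ A, w ∉ F ∙ v₀ ∧ ∀ x, ρ x w - w ∈ F ∙ v₀ := by
  let ρ' := (Representation.quotient ρ (F ∙ v₀) fun x => span_le.2 (by simp [h0])).subrepresentation
    (A.map (F ∙ v₀).mkQ) fun x => by rintro _ ⟨a, c, rfl⟩; exact ⟨_, hA x a c, rfl⟩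
  let := MulAction.compHom (A.map (F ∙ v₀).mkQ) ρ'
  have := Module.finite_of_finite F (M := V ⧸ F ∙ v₀)
  obtain ⟨⟨_, a, c1, rfl⟩, c2, c3⟩ := hD.exists_fixed_point_of_prime_dvd_card_of_fixed_point (A.map (F ∙ v₀).mkQ)
    (addOrderOf_eq_prime (x := (⟨_, w, h1, rfl⟩ : A.map (F ∙ v₀).mkQ)) (p := 2) (by rw [two_nsmul, a2 F])
      (fun e => h2 ((Quotient.mk_eq_zero _).1 (congrArg Subtype.val e))) ▸ addOrderOf_dvd_natCard _)
    (a := 0) fun x => map_zero (ρ' x)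
  exact ⟨a, c1, fun e => c3 (Subtype.ext ((Quotient.mk_eq_zero _).2 e).symm),
    fun x => (Submodule.Quotient.eq _).1 (congrArg Subtype.val (c2 x))⟩

theorem sep_common {M : Type*} [Monoid M] {x y : M} (hx : ∃ j, x ^ 2 ^ (j + 1) = x) (hy : ∃ j, y ^ 2 ^ (j + 1) = y) :
    ∃ j, x ^ 2 ^ (j + 1) = x ∧ y ^ 2 ^ (j + 1) = y := by
  obtain ⟨i, hx⟩ := hx
  obtain ⟨j, hy⟩ := hy
  have h1 := Function.iterate_fixed (f := (· ^ 2 ^ (i + 1))) hx (j + 1)
  have h2 := Function.iterate_fixed (f := (· ^ 2 ^ (j + 1))) hy (i + 1)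
  rw [pow_iterate, ← pow_mul 2] at h1 h2
  exact ⟨i * j + i + j, by convert h1 using 3; ring, by convert h2 using 3; ring⟩

namespace Dat

variable {d : Dat Q} {S S' : Set V} {v v' v₀ w u : V} {π e : d.R} {x y b : Gm F V}

theorem ex_idem (e : d.R) : ∃ a, a * e * (a * e) = a * e ∧ a * e * e = e := by
  obtain ⟨j, hj⟩ := d.sep _ (e * e).2
  obtain ⟨i, hi⟩ := d.sep _ e.2
  obtain ⟨m, hm⟩ := Nat.exists_eq_add_of_le (Nat.le_self_pow (n := i + 1) (by simp) 2)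
  have : e ^ m * e * e = e := by rw [← pow_succ, ← pow_succ, add_assoc, add_comm, ← hm]; exact Subtype.ext hi
  exact ⟨e ^ m, by grind, this⟩

theorem ex_pi (h : d.Ad S v₀) (h1 : d.W S ≠ ⊥) : ∃ π : d.R, ∃ w ∈ d.W S, Id π ∧ π • w = w ∧ w ∉ F ∙ v₀ := by
  by_cases h2 : ∃ w ∈ d.W S, d.p • w ∉ F ∙ v₀
  · obtain ⟨w, c, e⟩ := h2
    exact ⟨_, _, W_smul c _, .inl rfl, by rw [← mul_smul, d.pp], e⟩
  push Not at h2
  obtain rfl := h.nd v₀ h.w fun w c => by
    obtain ⟨t, ht⟩ := mem_span_singleton.1 (h2 w c)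
    rw [← h.p, pi_bf d.s_p w, ← ht]; simp
  obtain ⟨w, c1, c2⟩ := (d.W S).ne_bot_iff.1 h1
  obtain ⟨_, ⟨π, ⟨a1, a2, a3, u, a4, a5⟩, rfl⟩, a6⟩ := wellFounded_lt.has_min
    ((fun f : d.R => range f.1) '' {f | f * f = f ∧ d.s f = f ∧ f * d.p = 0 ∧ ∃ w ∈ d.W S, f • w ≠ 0})
    ⟨_, 1 + d.p, ⟨by grind [d.pp, d.two], by simp, by grind [d.pp, d.two], w, c1, by
      simpa [add_smul, show d.p • w = 0 by simpa using h2 w c1]⟩, rfl⟩
  refine ⟨π, _, W_smul a4 π, .inr ⟨a1, a2, a3, fun e => or_iff_not_imp_left.2 fun c => ?_⟩, by rw [← mul_smul, a1],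
    by simpa⟩
  have a7 : ∀ g : d.R, g * g = g → d.s g = g → g * π = g → g • u ≠ 0 → g = π := fun g b1 b2 b3 b4 => by
    have := (show range g.1 ≤ range π.1 by rintro _ ⟨v, rfl⟩; exact ⟨g • v, by
      show π • g • v = g • v; rw [← mul_smul, mul_comm, b3]⟩).eq_or_lt.resolve_right
        (a6 _ ⟨g, ⟨b1, b2, by grind, u, a4, b4⟩, rfl⟩)
    refine b3.symm.trans (Subtype.ext (LinearMap.ext fun v => ?_))
    obtain ⟨v', hv⟩ := this.ge ⟨v, rfl⟩
    show (g * π) • v = π • v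
    rw [mul_smul, show π • v = g • v' from hv.symm, ← mul_smul, b1]
  obtain ⟨a, b1, b2⟩ := ex_idem (π * e)
  have b3 := congrArg d.s b1
  simp only [map_mul, a2] at b3
  set f := a * (π * e)
  set f' := d.s a * (π * d.s e)
  have b4 : d.s (f + f' + f * f') = f + f' + f * f' := by simp [f, f', a2]; ring
  by_cases b5 : (f + f' + f * f') • u = 0
  · have := a7 (π + (f + f' + f * f')) (by grind [d.two]) (by simp only [map_add (f := d.s) π, a2, b4]) (by grind)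
      (by simpa [add_smul π, b5])
    exact absurd (by grind [d.two]) c
  · exact ⟨a * π * (1 + f'), d.s a * π, by have := a7 _ (by grind [d.two]) b4 (by grind) b5; grind⟩

theorem ad_ro (hb : b ∈ d.K S v₀ 0) : ad Q (ro b) = ro b⁻¹ := ad_eq fun x y => by rw [In.b' (inv_mem hb), inv_inv]

theorem ex_alg (hb : b ∈ d.K S v₀ 0 ⊓ (σ).ker) {j : ℕ} (hj : b ^ 2 ^ (j + 1) = b) :
    ∃ (A : Alg Q) (ι : d.R →ₐ[F] A.R) (β : A.R), (∀ e, (ι e).1 = e.1) ∧ β.1 = ro b ∧ ∀ P : A.R → Prop, (∀ e, P (ι e)) →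
      P β → (∀ e f, P e → P f → P (e + f)) → (∀ e f, P e → P f → P (e * f)) → ∀ e, P e := by
  have c1 : ∀ e ∈ insert (ro b) (d.R : Set (End F V)), ∀ f ∈ insert (ro b) (d.R : Set (End F V)), Commute e f := by
    have : ∀ e ∈ d.R, Commute (ro b) e := fun e he => LinearMap.ext (In.r1 hb.1 hb.2 ⟨e, he⟩)
    rintro _ (rfl | c) _ (rfl | c')
    exacts [rfl, this _ c', (this _ c).symm, d.comm _ c _ c']
  have c2 : ∀ e ∈ Algebra.adjoin F _, ∀ f ∈ Algebra.adjoin F _, Commute e f := fun e c f c' =>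
    Algebra.commute_of_mem_adjoin_of_forall_mem_commute c' fun g c'' =>
      (Algebra.commute_of_mem_adjoin_of_forall_mem_commute c (c1 g c'')).symm
  have c3 : d.R ≤ Algebra.adjoin F (insert (ro b) (d.R : Set (End F V))) := fun _ c => Algebra.subset_adjoin (.inr c)
  have c4 : ro b ∈ Algebra.adjoin F (insert (ro b) (d.R : Set (End F V))) := Algebra.subset_adjoin (.inl rfl)
  refine ⟨⟨⟨_, c2, fun e he => by
      induction he using Algebra.adjoin_induction with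
      | mem x c =>
        obtain rfl | c := c
        · rw [ad_ro hb.1, inv_eq_of_mul_eq_one_right ((mul_pow_sub_one Fintype.card_ne_zero b).trans pow_card_eq_one),
            map_pow]
          exact pow_mem c4 _
        · exact c3 (d.adm _ c)
      | algebraMap c => exact c3 (d.adm _ (d.R.algebraMap_mem c))
      | add x y c c' a a' => exact ad_add (Q := Q) x y ▸ add_mem a a'
      | mul x y c c' a a' => exact ad_mul (Q := Q) x y ▸ mul_mem a' a⟩, fun e he => by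
      induction he using Algebra.adjoin_induction with
      | mem x c => obtain rfl | c := c; exacts [⟨j, by rw [← map_pow, hj]⟩, d.sep _ c]
      | algebraMap c => exact d.sep _ (d.R.algebraMap_mem c)
      | add x y c c' a a' =>
        obtain ⟨i, a, a'⟩ := sep_common a a'
        cases subsingleton_or_nontrivial V
        · exact ⟨0, Subsingleton.elim _ _⟩
        · have := charP_of_injective_algebraMap (algebraMap F (End F V)).injective 2
          exact ⟨i, by rw [add_pow_char_pow_of_commute _ _ (c2 x c y c'), a, a']⟩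
      | mul x y c c' a a' =>
        obtain ⟨i, a, a'⟩ := sep_common a a'
        exact ⟨i, by rw [(c2 x c y c').mul_pow, a, a']⟩⟩,
    Subalgebra.inclusion c3, ⟨_, c4⟩, fun _ => rfl, rfl, fun P a1 a2 a3 a4 ⟨e, he⟩ => ?_⟩
  induction he using Algebra.adjoin_induction with
  | mem x c => obtain rfl | c := c; exacts [a2, a1 ⟨x, c⟩]
  | algebraMap c => exact a1 (algebraMap F _ c)
  | add x y c c' a a' => exact a3 _ _ a a'
  | mul x y c c' a a' => exact a4 _ _ a a'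

theorem ex_ext (hb : b ∈ d.K S v₀ 0 ⊓ (σ).ker) (hj : ∃ j, b ^ 2 ^ (j + 1) = b) (h : d.Ad S v₀) :
    ∃ d' : Dat Q, d'.W S = d.W S ∧ d'.Ad S v₀ ∧ b ∈ d'.K S v₀ 0 ∧
    ∀ k, k ∈ d'.K S v₀ 0 ↔ k ∈ d.K S v₀ 0 ∧ tw σ k b = b := by
  obtain ⟨j, hj⟩ := hj
  obtain ⟨o, ho⟩ := Nat.exists_eq_add_one.2 (Nat.two_pow_pos (j + 1))
  have o1 : b ^ o = 1 := by simpa [ho, pow_succ] using hj
  have o2 : (o : F) = 1 := CharTwo.add_eq_zero.1 (by simpa [pow_succ, CharTwo.two_eq_zero] using congr(($ho : F)).symm)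
  obtain ⟨A, ι, β, i0, i4, ind⟩ := ex_alg hb hj
  have i1 : ∀ e, A.s (ι e) = ι (d.s e) := fun e => Subtype.ext (congr(ad Q $(i0 e)).trans (i0 (d.s e)).symm)
  have i2 : ∀ e (v : V), ι e • v = e • v := fun e v => congr($(i0 e) v)
  have i3 : ∀ v : V, β • v = ro b v := fun v => congr($i4 v)
  have o3 : ∀ v : V, A.s β • v = ro b⁻¹ v := fun v => congr(ad Q $i4 v).trans congr($(ad_ro hb.1) v)
  have b1 : β ^ o = 1 := Subtype.ext (by simp [i4, ← map_pow, o1])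
  have b2 : (o : A.R) = 1 := by rw [← map_natCast (algebraMap F _), o2, map_one]
  have b3 : A.s β * β = 1 := A.s_z (by simpa [i3] using hb.1.q)
  obtain ⟨E, Y, e1, e2, e3⟩ : ∃ E Y : A.R, β * E = E ∧ Y * (β + 1) = 1 + E ∧ ∀ f, β * f = f → E * f = f :=
    ⟨∑ i ∈ .range o, β ^ i, ∑ i ∈ .range o, ∑ k ∈ .range i, β ^ k, by
      have := mul_geom_sum β o; grind, by
      rw [← s2 F β, Finset.sum_mul]; simp only [geom_sum_mul]
      rw [Finset.sum_sub_distrib, s2 F, add_comm]; simp [b2], fun f c => by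
      simp [Finset.sum_mul, fun i => show β ^ i * f = f by induction i <;> simp [pow_succ, mul_assoc, *], b2]⟩
  have e4 : A.s E = E := by
    have a1 := e3 (A.s E) (by have := congrArg A.s e1; rw [map_mul] at this; grind)
    have a2 := congrArg A.s a1
    rw [map_mul, A.s_s] at a2; grind
  have p1 := congrArg ι d.pp
  have p2 := congrArg ι d.yz
  simp only [map_mul, map_add, map_one] at p1 p2
  let d' : Dat Q := ⟨A, ι d.p * E, by grind, by rw [map_mul, i1, d.s_p, e4], ind _ (fun e => (d.ps e).imp fun c hc => by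
      rw [← mul_assoc, ← map_mul, hc, map_smul, smul_mul_assoc]) ⟨1, by rw [one_smul]; grind⟩
      (fun e f ⟨c, a⟩ ⟨c', a'⟩ => ⟨c + c', by rw [add_mul, a, a', add_smul]⟩)
      fun e f ⟨c, a⟩ ⟨c', a'⟩ => ⟨c' * c, by rw [mul_assoc, a', mul_smul_comm, a, smul_smul]⟩,
    ι (d.z * (1 + d.p)) + β * ι d.p, ι d.y * (1 + ι d.p) + ι d.p * Y, fun x => by
      have a1 : ∀ x y, B ((1 + d.p) • x) (d.p • y) = 0 := fun x y => by
        rw [pi_bf d.s_p, ← mul_smul, show d.p * (1 + d.p) = 0 by grind [d.pp, d.two]]; simp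
      rw [add_smul, mul_smul β, i2, i2, i3, q_add, hb.1.q, In.r1 hb.1 hb.2, mul_comm, mul_smul, a1, smul_comm, d.zq,
        ← a1 x x, ← q_add, ← add_smul, add_assoc, a2 F, add_zero, one_smul],
    by simp only [map_mul, map_add, map_one]; grind [A.two]⟩
  have t1 : ∀ k e, d'.t k (ι e) = ι (d.t k e) := fun k e => by unfold t; split_ifs; exacts [rfl, i1 e]
  have w1 : d'.W S = d.W S := le_antisymm (fun v c s hs e => i2 e s ▸ c s hs (ι e)) fun v c s hs e => by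
    rw [← A.bf_s, ← one_smul d.R s]
    exact ind (fun e => ∀ v ∈ d.W S, e • v ∈ d.W S) (fun e v c => i2 e v ▸ W_smul c e)
      (fun v c => i3 v ▸ W_map hb.1 le_rfl c)
      (fun e f a a' v c => add_smul e f v ▸ add_mem (a v c) (a' v c))
      (fun e f a a' v c => mul_smul e f v ▸ a _ (a' v c)) _ v c s hs 1
  have k1 : ∀ k, k ∈ d'.K S v₀ 0 ↔ k ∈ d.K S v₀ 0 ∧ tw σ k b = b := fun k => by
    have a1 : tw σ k b = b ↔ ∀ v, ro k (β • v) = d'.t k β • ro k v := by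
      unfold tw t; rw [mul_inv_eq_iff_eq_mul]; split_ifs with e <;> simp only [AlgHom.id_apply, i3, show d'.s = A.s from rfl, o3]
      · exact ⟨fun c v => congr(ro $c v), fun c => gm_ext c (mul_comm _ _)⟩
      · rw [mul_inv_eq_iff_eq_mul, mul_assoc, ← inv_mul_eq_iff_eq_mul]
        refine ⟨fun c v => congr(ro $c v).symm, fun c => gm_ext (fun v => (c v).symm) ?_⟩
        have : b.2 ^ 2 ^ (j + 1) = b.2 := congr($hj.2)
        obtain a | a := ((sg_cases b).resolve_right fun a => cj_ne (a.1.symm.trans hb.2)).2 <;> simp [a, mul_comm]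
        rfl
    exact ⟨fun c => ⟨⟨c.q, fun e v => by rw [← i2, c.r (ι e) v, t1, i2], c.f, c.f0, c.fw⟩, a1.2 (c.r β)⟩,
      fun ⟨c, c'⟩ => ⟨c.q, ind _ (fun e v => by rw [t1, i2, i2, c.r]) (a1.1 c')
        (fun e f a a' v => by simp only [add_smul, map_add, a, a'])
        fun e f a a' v => by simp only [mul_smul, map_mul, a, a'], c.f, c.f0, c.fw⟩⟩
  refine ⟨d', w1, ⟨w1 ▸ h.nd, w1 ▸ h.w, ?_, h.q⟩, (k1 b).2 ⟨hb.1, (tw_comm hb.2).2 rfl⟩, k1⟩
  have := congrArg (· • v₀) e2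
  simp only [mul_smul, add_smul, i3, hb.1.f0, one_smul, a2 F, smul_zero] at this
  show (ι d.p * E) • v₀ = v₀
  rw [mul_smul, ← sub_eq_zero.1 ((s2 F _ _).trans this.symm), i2, h.p]

theorem stepM {W₀ : Submodule F V} (hA : ∀ d : Dat Q, d.W S = W₀ → d.Ad S v₀ → ∀ π : d.R, ∀ w ∈ d.W S, Id π → π • w = w →
    w ∉ F ∙ v₀ → TT σ ζ (d.K S v₀ w)) (hW : d.W S = W₀) (h : d.Ad S v₀) : TT σ ζ (d.K S v₀ 0) := by
  generalize hK : d.K S v₀ 0 = K
  induction K using WellFoundedLT.induction generalizing d with | _ K ih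
  subst hK
  by_cases h1 : d.W S = ⊥
  · have c : ∀ x ∈ d.K S v₀ 0, σ x = 1 → ∀ v, ro x v = v := fun x c e v => sub_eq_zero.1 (h1.le (W_sub c le_rfl e v))
    refine tt_base sg_sg (fun x a e => ((sg_cases x).resolve_right fun a => cj_ne (a.1.symm.trans e)).2.imp
      (gm_ext (c x a e)) (gm_ext (c x a e))) fun k a e => gm_ext (c _ (mul_mem a a) (sg_sg.mul e e))
        ((sg_cases k).resolve_left fun a => e a.1).2
  refine brauer sg_sg fun b hb hj D hD hD' hb' _ => ?_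
  by_cases h2 : ∀ y ∈ d.K S v₀ 0 ⊓ (σ).ker, Commute b y
  · obtain ⟨π, w, c1, c2, c3, c4⟩ := ex_pi h h1
    have c5 : d.s π = π := c2.elim (fun e => e ▸ d.s_p) fun e => e.2.1
    obtain ⟨w, ⟨c1, c3⟩, c4, c6⟩ := fix_coset hD' (ro.comp D.subtype) (d.W S ⊓ eqLocus π.1 .id)
      (fun x a c => ⟨W_map (hD x.2) le_rfl c.1, pi_map (hD x.2) c5 c.2⟩) (fun x => (hD x.2).f0) ⟨c1, c3⟩ c4
    exact ⟨d.K S v₀ w, fun x c => ⟨c.q, c.r, c.f, c.f0, by simp⟩, fun x c =>
      ⟨(hD c).q, (hD c).r, (hD c).f, (hD c).f0, c6 ⟨x, c⟩⟩, hA d hW h π w c1 c2 c3 c4, .inr h2⟩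
  obtain ⟨d', c1, c2, c3, c4⟩ := ex_ext hb hj h
  have c5 : d'.K S v₀ 0 ≤ d.K S v₀ 0 := fun k c => ((c4 k).1 c).1
  exact ⟨_, c5, fun k c => (c4 k).2 ⟨hD c, hb' k c⟩, ih _ (lt_of_le_not_ge c5 fun c => h2 fun y a =>
    (tw_comm a.2).1 ((c4 y).1 (c a.1)).2) (c1.trans hW) c2 rfl, .inl c3⟩

theorem xx_all (h : d.Ad S v₀) : d.XX S v₀ := by
  generalize hn : finrank F (d.W S) = n
  induction n using Nat.strong_induction_on generalizing d S v₀ with | _ n ih
  subst hn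
  have ih' : ∀ d' : Dat Q, d'.W S = d.W S → ∀ S' v₀', finrank F (d'.W S') < finrank F (d'.W S) → d'.Ad S' v₀' →
      d'.XX S' v₀' := fun d' c S' v₀' a a' => ih _ (c ▸ a) a' rfl
  have h1 : ∀ d' : Dat Q, d'.W S = d.W S → ∀ w ≠ 0, d'.Ad S w → TT σ ζ (d'.K S w 0) := fun d' c w e a => stepM
    (fun d'' c a π w' a1 a2 a3 a4 => stepA (ih' d'' c) a (fun e' => absurd e' e) a2 a1 a3 a4) c a
  intro π w c1 c2 c3
  by_cases h2 : w ∈ F ∙ v₀
  · convert stepM (fun d' c a π w' a1 a2 a3 a4 => stepA (ih' d' c) a (fun _ => h1 d' c) a2 a1 a3 a4) rfl h using 1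
    obtain ⟨t, rfl⟩ := mem_span_singleton.1 h2
    exact Subgroup.ext fun x => ⟨fun c => ⟨c.q, c.r, c.f, c.f0, by simp⟩, fun c => ⟨c.q, c.r, c.f, c.f0, by simp [c.f0]⟩⟩
  · exact stepA (ih' d rfl) h (fun _ => h1 d rfl) c2 c1 c3 h2

end Dat

theorem tt_orth {v₀ : V} (h : v₀ = 0 ∨ Q v₀ ≠ 0) {K : Subgroup (Gm F V)}
    (hK : ∀ x, x ∈ K ↔ (∀ v, Q (ro x v) = Q v) ∧ ro x v₀ = v₀) : TT σ ζ K := by
  let A : Alg Q := ⟨⟨⊥, by rintro _ ⟨c, rfl⟩ _ ⟨c', rfl⟩; exact Algebra.commutes _ _, by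
      rintro _ ⟨c, rfl⟩; exact ⟨c, (ad_eq (by simp)).symm⟩⟩, by
      rintro _ ⟨c, rfl⟩
      have := Fintype.ofFinite F
      obtain ⟨n, -, hn⟩ := FiniteField.card F 2
      exact ⟨n.natPred, by rw [n.natPred_add_one, ← hn, ← map_pow, FiniteField.pow_card]⟩⟩
  have h1 : ∀ e : A.R, ∃ c, e = algebraMap F _ c := fun ⟨_, c, rfl⟩ => ⟨c, rfl⟩
  let d : Dat Q := ⟨A, 1, mul_one _, map_one _, fun e => (h1 e).imp fun c hc => by simp [hc, Algebra.smul_def], 1, 0,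
    by simp, by simp [a2 F]⟩
  have h2 : d.W ∅ = ⊤ := eq_top_iff.2 fun _ _ _ c => c.elim
  convert Dat.xx_all (d := d) (S := ∅) ⟨h2 ▸ hQ.1, h2.ge trivial, one_smul _ _, h⟩ _ 0 (zero_mem _) (.inl rfl) (smul_zero _)
  exact Subgroup.ext fun x => (hK x).trans ⟨fun c => ⟨c.1, fun e v => by
    obtain ⟨t, rfl⟩ := h1 e; rw [AlgHom.commutes, algebraMap_smul, algebraMap_smul, map_smul], by simp, c.2,
    by simp⟩, fun c => ⟨c.q, c.f0⟩⟩

end H11.FS
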