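import Cfsg.Agent.H11.FS10

/-! Strong reality of orthogonal groups in characteristic two. -/

set_option autoImplicit false
set_option linter.unusedSectionVars false

namespace H11.FS

open Module Submodule LinearMap Polynomial
open scoped Classical

universe u

theorem ex_idem_pow {M : Type*} [Monoid M] [Finite M] (a : M) : ∃ n ≠ 0, a ^ n * a ^ n = a ^ n := by
  obtain ⟨i, j, h1, h2⟩ := Finite.exists_ne_map_eq_of_infinite fun n : ℕ => a ^ n
  wlog h : i < j generalizing i j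
  · exact this j i h1.symm h2.symm (by omega)
  obtain ⟨d, rfl⟩ := Nat.exists_eq_add_of_lt h
  have h3 : ∀ k, a ^ (i + k * (d + 1)) = a ^ i := fun k => by
    induction k with
    | zero => simp
    | succ k ih => rw [add_mul, ← add_assoc, pow_add, ih, ← pow_add, one_mul, ← add_assoc, ← h2]
  obtain ⟨c, hc⟩ := Nat.exists_eq_add_of_le (show i ≤ (i + 1) * (d + 1) by nlinarith)
  exact ⟨(i + 1) * (d + 1), by positivity, by nth_rw 1 3 [hc]; rw [← pow_add, add_right_comm, pow_add, h3, pow_add]⟩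

theorem ex_top {A M : Type*} [Ring A] [AddCommGroup M] [Module A M] {x : A} (h : IsNilpotent x) {z : M} (hz : z ≠ 0) :
    ∃ m, x ^ m • z ≠ 0 ∧ x ^ (m + 1) • z = 0 := by
  obtain ⟨n, hn⟩ := h
  obtain ⟨m, h1, h2⟩ := Nat.exists_not_and_succ_of_not_zero_of_exists (p := fun m => x ^ m • z = 0) (by simpa)
    ⟨n, by simp [hn]⟩
  exact ⟨m, h1, h2⟩

theorem unis {F A : Type*} [Field F] [CommRing A] [Algebra F A] {T : A} {p : F[X]} (hp : Irreducible p) {m : ℕ}
    (h : aeval T p ^ (m + 1) = 0) (a : F[X]) : aeval T a = 0 ∨ ∃ c : F[X], aeval T c * aeval T a = aeval T p ^ m := by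
  obtain rfl | ha := eq_or_ne a 0
  · simp
  obtain ⟨n, b, h1, rfl⟩ := WfDvdMonoid.max_power_factor ha hp
  obtain h2 | h2 := le_or_gt n m
  · obtain ⟨k, rfl⟩ := Nat.exists_eq_add_of_le h2
    obtain ⟨c, d, h3⟩ := (hp.coprime_iff_not_dvd.2 h1).pow_left (m := n + k + 1)
    have := congrArg (aeval T) h3
    simp only [map_add, map_mul, map_pow, h, map_one] at this
    exact .inr ⟨d * p ^ k, by simp only [map_mul, map_pow]; grind⟩
  · exact .inl (by rw [map_mul, map_pow, pow_eq_zero_of_le h2 h, zero_mul])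

theorem soc {F A : Type*} [Field F] [CommRing A] [Algebra F A] {T : A} {m : ℕ} (h : T ^ (m + 1) = 0) (h' : T ^ m ≠ 0)
    {a : F[X]} (ha : T * aeval T a = 0) : ∃ c : F, aeval T a = c • T ^ m := by
  obtain e | ⟨c, e⟩ := unis (T := T) (m := m) irreducible_X (by simpa) a
  · exact ⟨0, by simp [e]⟩
  rw [← divX_mul_X_add c, map_add, map_mul, aeval_X, add_mul, mul_assoc, ha, mul_zero, zero_add, aeval_C,
    ← Algebra.smul_def] at e
  exact ⟨(c.coeff 0)⁻¹, (eq_inv_smul_iff₀ fun e' => h' (by simp [← e, e'])).2 e⟩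

variable {F V : Type u} [Field F] [CharP F 2] [AddCommGroup V] [Module F V] {Q : QuadraticForm F V}
  [Finite F] [Finite V] [hQ : Fact (ND Q ⊤)] {g : End F V} {U U' : Submodule F V}

local notation "B" => bf Q

variable (Q g) in
/-- there is a free involution inverting `g` -/
def Good (U : Submodule F V) : Prop := ∃ k : End F V, ∀ x ∈ U, k x ∈ U ∧ Q (k x) = Q x ∧ k (k x) = x ∧
  g (k (g x)) = k x ∧ (k x = x → ∃ y ∈ U, x = y + k y)

theorem Good.top (hg : ∀ x, Q (g x) = Q x) (hU : ND Q U) (h1 : ∀ x ∈ U, g x ∈ U) (h : Good Q g U)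
    (ih : ∀ U' : Submodule F V, ND Q U' → (∀ x ∈ U', g x ∈ U') → (∀ x ∈ U', ∀ y ∈ U, B y x = 0) → Good Q g U') :
    Good Q g ⊤ := by
  obtain ⟨θ, θ1, θ2, θ3⟩ := hU.pj
  have t1 : ∀ x, x ∈ ker θ ↔ ∀ y ∈ U, B y x = 0 := fun x =>
    ⟨fun c y e => by rw [← θ2 x y e, mem_ker.1 c, map_zero], fun c => θ3 _ _ (zero_mem _) fun y e => by simp [c y e]⟩
  have t2 : ∀ x, ∃ u ∈ U, ∃ w ∈ ker θ, x = u + w := fun x =>
    ⟨θ x, θ1 x, x - θ x, (t1 _).2 fun y e => by simp [θ2 x y e], by simp⟩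
  have t3 : ∀ x ∈ ker θ, g x ∈ ker θ := fun x c => (t1 _).2 fun y e => by
    obtain ⟨⟨y, e'⟩, rfl⟩ := (injective_iff_surjective (f := g.restrict h1)).1 ((injective_iff_map_eq_zero _).2
      fun a c => Subtype.ext (bf_ext (Q := Q) fun z => by
        rw [← bf_map hg, show g a = 0 from congrArg Subtype.val c]; simp)) ⟨y, e⟩ |>.imp fun _ => congrArg Subtype.val
    exact (bf_map hg _ _).trans ((t1 x).1 c y e')
  obtain ⟨k, hk⟩ := h
  obtain ⟨k', hk'⟩ := ih (ker θ) (hQ.1.of le_top fun y _ => by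
    obtain ⟨u, c, w, c', rfl⟩ := t2 y
    exact ⟨w, c', fun x e => by simp [(t1 x).1 e u c]⟩) t3 fun x => (t1 x).1
  have t4 : ∀ u ∈ U, ∀ w ∈ ker θ, (k * θ + k' * (1 - θ)) (u + w) = k u + k' w := fun u c w c' => by
    simp [mem_ker.1 c', θ3 u u c fun _ _ => rfl]
  refine ⟨k * θ + k' * (1 - θ), fun x _ => ?_⟩
  obtain ⟨u, c, w, c', rfl⟩ := t2 x
  obtain ⟨a1, a2, a3, a4, a5⟩ := hk u c
  obtain ⟨b1, b2, b3, b4, b5⟩ := hk' w c'
  rw [t4 u c w c', t4 _ a1 _ b1, map_add g, t4 _ (h1 u c) _ (t3 w c'), q_add, q_add, (t1 _).1 b1 _ a1, (t1 _).1 c' u c]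
  refine ⟨trivial, by rw [a2, b2], by rw [a3, b3], by rw [map_add, a4, b4], fun e => ?_⟩
  have e1 : k u = u := by
    simpa [mem_ker.1 c', mem_ker.1 b1, θ3 u u c fun _ _ => rfl, θ3 _ _ a1 fun _ _ => rfl] using congrArg θ e
  obtain ⟨y, y1, y2⟩ := a5 e1
  obtain ⟨z, z1, z2⟩ := b5 (by simpa [e1] using e)
  exact ⟨y + z, trivial, by rw [t4 y y1 z z1, add_add_add_comm, ← y2, ← z2]⟩

theorem Good.of_res (h1 : ∀ x ∈ U, g x ∈ U) (h : Good (Q.comp U.subtype) (g.restrict h1) ⊤) : Good Q g U := by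
  obtain ⟨k, hk⟩ := h
  obtain ⟨f, hf⟩ := U.subtype.exists_leftInverse_of_injective U.ker_subtype
  have h2 : ∀ x : U, (U.subtype ∘ₗ k ∘ₗ f) x = k x := fun x => congr(U.subtype (k ($hf x)))
  refine ⟨U.subtype ∘ₗ k ∘ₗ f, fun x c => ?_⟩
  obtain ⟨-, a2, a3, a4, a5⟩ := hk ⟨x, c⟩ trivial
  rw [h2 ⟨x, c⟩, h2, h2 ⟨_, h1 x c⟩]
  exact ⟨Subtype.prop _, a2, congrArg Subtype.val a3, congrArg Subtype.val a4, fun e => by
    obtain ⟨y, -, e⟩ := a5 (Subtype.ext e)
    exact ⟨y, y.2, h2 y ▸ congrArg Subtype.val e⟩⟩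

variable {A : Al Q} {γ : A.R} (h1 : ∀ a : A.R, ∃ p : F[X], a = aeval γ p) (h2 : ∀ x, Q (γ • x) = Q x)

include h1 h2

theorem gen {v w : V} (hq : Q v = Q w) (hb : ∀ a : A.R, B (a • v) v = B (a • w) w) (X : AddSubmonoid A.R)
    (h3 : ∀ a b : A.R, ∃ c ∈ X, ∃ d ∈ X, a • v + b • w = c • v + A.s d • w)
    (h4 : ∀ c ∈ X, ∀ d ∈ X, (∀ a : A.R, B (a • v) (c • v + A.s d • w) = 0 ∧ B (a • w) (c • v + A.s d • w) = 0) →
      c = 0 ∧ d = 0) : ∃ U : Submodule F V, v ∈ U ∧ ND Q U ∧ (∀ x ∈ U, γ • x ∈ U) ∧ Good Q γ.1 U := by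
  let Φ : (A.R × A.R) →ₗ[F] V := ((toSpanSingleton A.R V v).restrictScalars F).coprod
    ((toSpanSingleton A.R V w).restrictScalars F)
  have Φ1 : ∀ z, Φ z = z.1 • v + z.2 • w := fun _ => rfl
  let T : End F (A.R × A.R) := (A.s.toLinearMap ∘ₗ snd ..).prod (A.s.toLinearMap ∘ₗ fst ..)
  have T1 : ∀ z, T z = (A.s z.2, A.s z.1) := fun _ => rfl
  have s1 := A.s_z h2
  have s2 : ∀ x, Q (A.s γ • x) = Q x := fun x => by rw [← h2, ← mul_smul, mul_comm, s1, one_smul]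
  have b1 : ∀ a b : A.R, B (a • v) (b • v) = B (A.s a • w) (A.s b • w) := fun a b => by
    rw [← A.s_bf, ← mul_smul, hb, A.s_bf a, ← mul_smul, bf_comm w, mul_comm]
  have q1 : ∀ a : A.R, Q (a • v) = Q (A.s a • w) := fun a => by
    obtain ⟨p, rfl⟩ := h1 a
    induction p using Polynomial.induction_on with
    | C c => simp [q_smul, hq]
    | add p q c d => simp only [map_add, add_smul, q_add, c, d, b1]
    | monomial n c e => simpa [pow_succ', mul_left_comm _ γ, mul_left_comm _ (A.s γ), mul_smul, h2, s2] using e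
  have q2 : ∀ z, Q (Φ (T z)) = Q (Φ z) := fun z => by
    simp only [Φ1, T1, q_add, q1, A.s_s]
    rw [A.s_bf, smul_comm, A.bf_s, add_comm (Q _)]
  have nd : ND Q (range Φ) := by
    rintro _ ⟨z, rfl⟩ c
    obtain ⟨a, a1, b, a2, a3⟩ := h3 z.1 z.2
    rw [Φ1, a3] at c ⊢
    simp [h4 a a1 b a2 fun e => ⟨c _ ⟨(e, 0), by simp [Φ1]⟩, c _ ⟨(0, e), by simp [Φ1]⟩⟩]
  have T2 : ∀ z, T (T z) = z := by simp [T1]
  obtain ⟨σ, hσ⟩ := Φ.rangeRestrict.exists_rightInverse_of_surjective Φ.range_rangeRestrict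
  obtain ⟨σ', hσ'⟩ := σ.exists_extend
  have k1 : ∀ z, (Φ ∘ₗ T ∘ₗ σ') (Φ z) = Φ (T z) := fun z => by
    have c : Φ (σ' (Φ z) - z) = 0 := by
      rw [map_sub, show σ' (Φ z) = σ ⟨_, z, rfl⟩ from congr($hσ' ⟨_, z, rfl⟩), sub_eq_zero]
      exact congr(($hσ ⟨_, z, rfl⟩).1)
    refine sub_eq_zero.1 (nd _ (sub_mem ⟨_, rfl⟩ ⟨_, rfl⟩) ?_)
    rintro _ ⟨y, rfl⟩
    have := q2 (T y + (σ' (Φ z) - z))
    rw [map_add T, map_add Φ, map_add Φ, c, add_zero, q_add, q2 (σ' _ - z), c, q2 (T y), T2] at this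
    simpa using this
  refine ⟨range Φ, ⟨(1, 0), by simp [Φ1]⟩, nd, by rintro _ ⟨z, rfl⟩; exact ⟨γ • z, by simp [Φ1, mul_smul]⟩,
    Φ ∘ₗ T ∘ₗ σ', ?_⟩
  rintro _ ⟨z, rfl⟩
  rw [k1, k1, T2, show γ.1 (Φ z) = Φ (γ • z) by simp [Φ1, mul_smul]; rfl, k1]
  refine ⟨⟨_, rfl⟩, q2 z, rfl, show γ • Φ _ = _ by
    simp [Φ1, T1, ← mul_smul, ← mul_assoc γ, (mul_comm _ _).trans s1], fun e => ?_⟩
  obtain ⟨a, a1, b, a0, a3⟩ := h3 z.1 z.2
  rw [← k1, show Φ z = Φ (a, A.s b) from a3, k1] at e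
  have a4 : (a + b) • v + A.s (a + b) • w = 0 := by
    simp only [Φ1, T1, A.s_s] at e
    rw [map_add, add_smul, add_smul, add_comm (A.s a • w), add_add_add_comm, ← e, a2 F]
  refine ⟨_, ⟨(a, 0), rfl⟩, ?_⟩
  have a5 := (h4 _ (add_mem a1 a0) _ (add_mem a1 a0) (by simp only [a4]; simp)).1
  rw [k1, Φ1 z, a3, ← sub_eq_zero.1 (show a - b = 0 by rwa [FS.s2 F])]
  simp [Φ1, T1]

theorem good_step [Nontrivial V] (ih : ∀ U : Submodule F V, U ≠ ⊤ → ND Q U → (∀ x ∈ U, γ • x ∈ U) → Good Q γ.1 U) :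
    Good Q γ.1 ⊤ := by
  by_contra hG
  have fin : ∀ v ≠ 0, ¬∃ U : Submodule F V, v ∈ U ∧ ND Q U ∧ (∀ x ∈ U, γ • x ∈ U) ∧ Good Q γ.1 U :=
    fun v e ⟨U, a1, a2, a3, a4⟩ => hG (.top h2 a2 a3 a4 fun U' b1 b2 b3 => ih U' (fun c => e (bf_ext (Q := Q) fun y => by
      rw [bf_comm, b3 y (c.ge trivial) v a1, map_zero])) b1 b2)
  have e0 : ∀ a : A.R, (∀ x y, B (a • x) y = 0) → a = 0 := fun a c => Subtype.ext (LinearMap.ext fun x =>
    bf_ext (Q := Q) fun y => (bf_comm _ _).trans ((c x y).trans (map_zero _).symm))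
  have s1 := A.s_z h2
  obtain ⟨τ, hτ⟩ : ∃ τ, τ = γ + A.s γ := ⟨_, rfl⟩
  have f1 : ∀ a : A.R, ∃ p q : F[X], a = aeval τ p + aeval τ q * γ := fun a => by
    obtain ⟨p, rfl⟩ := h1 a
    induction p using Polynomial.induction_on with
    | C c => exact ⟨C c, 0, by simp⟩
    | add p q c d =>
      obtain ⟨a, b, c⟩ := c; obtain ⟨a', b', d⟩ := d
      exact ⟨a + a', b + b', by simp only [map_add, c, d]; ring⟩
    | monomial n c e =>
      obtain ⟨a, b, e⟩ := e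
      exact ⟨b, a + b * X, by rw [pow_succ, ← mul_assoc, map_mul, e]; simp only [map_add, map_mul, aeval_X]; grind [A.two]⟩
  have f2 : ∀ p : F[X], A.s (aeval τ p) = aeval τ p := fun p => by rw [← aeval_algHom_apply, hτ]; simp [add_comm]
  obtain ⟨be, b0⟩ : ∃ be : V → F[X] →ₗ[F] F, ∀ u a, be u a = a.coeff 0 * Q u + B ((aeval τ a.divX * γ) • u) u :=
    ⟨fun u => ⟨⟨fun a => a.coeff 0 * Q u + B ((aeval τ a.divX * γ) • u) u, fun a b => by
      simp [divX_add, add_mul, add_smul]; ring⟩, fun c a => by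
        simp [show (c • a).divX = c • a.divX by ext; simp [coeff_divX], mul_add, mul_assoc]⟩, fun _ _ => rfl⟩
  have b1 : ∀ x y a, be (x + y) a = be x a + be y a + B (aeval τ a • x) y := fun x y a => by
    have : B ((aeval τ a.divX * γ) • y) x = B ((aeval τ a.divX * A.s γ) • x) y := by
      rw [← A.bf_s, map_mul, f2, bf_comm]
    nth_rw 4 [← divX_mul_X_add a]
    simp only [b0, q_add, smul_add, map_add, LinearMap.add_apply, this, map_mul, aeval_X, aeval_C, add_smul,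
      algebraMap_smul, map_smul, LinearMap.smul_apply, smul_eq_mul]
    rw [hτ, mul_add _ γ, add_smul, map_add, LinearMap.add_apply]; ring
  have b2 : ∀ u q, be u (q * X) = B ((aeval τ q * γ) • u) u := fun u q => by
    simp [b0, show (q * X).divX = q by ext; simp [coeff_divX]]
  have f3 : ∀ (p : F[X]) x, B (aeval τ p • x) x = 0 := fun p x => by
    simpa [a2 F, b0] using (b1 x x p).symm
  have nC : ∀ p : F[X], Irreducible p → ∀ m, aeval τ p ^ (m + 1) = 0 → ∀ v, B ((aeval τ p ^ m * γ) • v) v = 0 :=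
    fun p hp m hm v => by_contra fun c => fin v (by rintro rfl; simp at c) (gen h1 h2 (h2 v).symm (fun a => by
      rw [smul_comm]; exact (bf_map (g := γ.1) h2 _ _).symm) (aeval τ).range.toSubsemiring.toAddSubmonoid (fun a b => by
        obtain ⟨p, q, e⟩ := f1 (a + b * γ)
        exact ⟨_, ⟨p, rfl⟩, _, ⟨q, rfl⟩, by
          rw [← mul_smul, ← add_smul, e, add_smul, mul_smul, ← f2 q]; rfl⟩)
      (by
        rintro _ ⟨a, rfl⟩ _ ⟨b, rfl⟩ e
        simp only [AlgHom.toRingHom_eq_coe, RingHom.coe_coe, f2, map_add] at e ⊢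
        have e1 : aeval τ b = 0 := (unis hp hm b).resolve_right fun ⟨t, ht⟩ => c (by
          have := (e (aeval τ t)).1
          rwa [← A.s_bf, f2, ← mul_smul, ← map_mul, f3, zero_add, ← A.bf_s, f2, ← mul_smul, ← mul_smul, ht,
            bf_comm] at this)
        exact ⟨(unis hp hm a).resolve_right fun ⟨t, ht⟩ => c (by
          have := (e (aeval τ t * γ)).1
          rwa [e1, zero_smul, map_zero, add_zero, ← A.s_bf, f2, ← mul_smul, ← mul_assoc, mul_comm (aeval τ a),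
            ht] at this), e1⟩))
  have n1 : IsNilpotent τ := by
    obtain ⟨p, hp, c⟩ : ∃ p : F[X], Irreducible p ∧ ¬IsUnit (aeval τ p) := by
      by_contra! c
      obtain ⟨f, a, b⟩ := Algebra.IsAlgebraic.isAlgebraic (R := F) τ
      refine not_isUnit_zero (b ▸ WfDvdMonoid.induction_on_irreducible (motive := fun f => f ≠ 0 → IsUnit (aeval τ f)) f
        (by simp) (fun u e _ => e.map _) (fun a i e hi ih _ => ?_) a)
      exact map_mul (aeval τ) i a ▸ (c i hi).mul (ih e)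
    obtain ⟨n, a1, a2⟩ := ex_idem_pow (aeval τ p)
    by_cases e : aeval τ p ^ n = 0
    · obtain ⟨m, c1, c2⟩ := ex_top ⟨n, e⟩ (one_ne_zero' A.R)
      rw [smul_eq_mul, mul_one] at c1 c2
      by_cases d : p ∣ X
      · obtain ⟨q, hq⟩ := d
        exact ⟨n, by rw [← aeval_X (R := F) τ, hq, map_mul, mul_pow, e, zero_mul]⟩
      obtain ⟨a, b, c3⟩ := (hp.coprime_iff_not_dvd.2 d).pow_left (m := m + 1)
      have c4 := congrArg (aeval τ) c3
      have c5 := e0 (aeval τ (p ^ m * X)) fun x y => by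
        have := b1 x y (p ^ m * X)
        rwa [b2, b2, b2, map_pow, nC p hp m c2, nC p hp m c2, nC p hp m c2, zero_add, zero_add, eq_comm] at this
      simp only [map_add, map_mul, map_pow, aeval_X, map_one] at c4 c5
      exact absurd (by grind) c1
    have a3 : A.s (aeval τ p ^ n) = aeval τ p ^ n := by rw [map_pow, f2]
    have a7 : aeval τ p ^ n ≠ 1 := fun e => c (.of_pow_eq_one e a1)
    generalize aeval τ p ^ n = f at *
    have a4 : ∀ x : V, f • (1 - f) • x = 0 := fun x => by rw [← mul_smul, mul_sub, a2, mul_one, sub_self, zero_smul]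
    have a5 : ND Q (ker f.1) := hQ.1.of le_top fun y _ => ⟨_, a4 y, fun x c => by
      simp [sub_smul, ← A.bf_s, a3, show f • x = 0 from c]⟩
    have a6 : ∀ x ∈ ker f.1, γ • x ∈ ker f.1 := fun x c =>
      show f • γ • x = 0 by rw [smul_comm, show f • x = 0 from c, smul_zero]
    obtain ⟨x, hx⟩ := DFunLike.ne_iff.1 fun c => sub_ne_zero.2 a7.symm (Subtype.ext c)
    exact (fin _ hx ⟨_, a4 x, a5, a6, ih _ (fun c => e (Subtype.ext (ker_eq_top.1 c))) a5 a6⟩).elim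
  obtain ⟨r, r1, r2⟩ := ex_top n1 (one_ne_zero' A.R)
  rw [smul_eq_mul, mul_one] at r1 r2
  have n2 := nC X irreducible_X r (by simpa)
  rw [aeval_X] at n2
  have n3 : (γ + 1) * (γ + 1) * τ ^ r = 0 := by rw [pow_succ] at r2; grind [A.two]
  obtain ⟨m, m1, m2⟩ := ex_top (x := γ + 1) (.of_pow (m := 2) (by
    rw [show (γ + 1) ^ 2 = γ * τ by grind [A.two]]; exact (Commute.all _ _).isNilpotent_mul_left n1)) (one_ne_zero' A.R)
  rw [smul_eq_mul, mul_one] at m1 m2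
  have n4 : ∀ a, (γ + 1) * a = 0 → ∃ c : F, a = c • (γ + 1) ^ m := fun a e => by
    obtain ⟨p, rfl⟩ := h1 a
    rw [show aeval γ p = aeval (γ + 1) (p.comp (X + 1)) by simp [aeval_comp, add_assoc, a2 F]] at e ⊢
    exact soc m2 m1 e
  obtain ⟨h, ε, c1, c2, c3, c4, c5, c6⟩ : ∃ (h : A.R) (ε : F), h ≠ 0 ∧ (γ + 1) * h = 0 ∧ (∀ x, B (h • x) x = 0) ∧
      (∀ u : V, ((γ + 1) * τ ^ r) • u = 0 → h • u = 0 ∨ ε = 0) ∧ (∀ u : V, τ ^ r • u = 0 → h • u = 0) ∧
      (ε = 0 ∧ h = τ ^ r ∨ ε = 1 ∧ h = (γ + 1) * τ ^ r) := by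
    by_cases e : (γ + 1) * τ ^ r = 0
    · exact ⟨_, 0, r1, e, by simpa using f3 (X ^ r), by simp, by simp, .inl ⟨rfl, rfl⟩⟩
    · exact ⟨_, 1, e, by rw [← mul_assoc, n3], fun x => by
        simpa [add_mul, add_smul, mul_comm γ, n2] using f3 (X ^ r) x, fun _ => .inl, by simp +contextual [mul_smul],
        .inr ⟨rfl, rfl⟩⟩
  have c7 : ∀ x y, B (h • x) y = B (h • y) x := fun x y => CharTwo.add_eq_zero.1 (by simpa [c3] using c3 (x + y))
  obtain ⟨u, u1, u2⟩ : ∃ u, h • u ≠ 0 ∧ (ε = 0 → be u (X ^ r) ≠ 0) := by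
    obtain ⟨x, y, e⟩ : ∃ x y, B (h • x) y ≠ 0 := by by_contra! c; exact c1 (e0 h c)
    by_contra! c
    obtain ⟨-, rfl⟩ | ⟨rfl, -⟩ := c6
    · have := b1 x y (X ^ r)
      rw [(c x fun c => e (by simp [c])).2, (c y fun c => e (by simp [c7 x, c])).2,
        (c _ fun c => e (by simpa [c3] using congr(B $c y))).2] at this
      exact e (by simpa using this.symm)
    · simpa using (c x fun c => e (by simp [c])).1
  obtain ⟨y, -, y1⟩ := solve (Q := Q) ((toSpanSingleton A.R V u).restrictScalars F ∘ₗ (aeval τ).toLinearMap.coprod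
    (toSpanSingleton F _ ((γ + 1) * τ ^ r))) ⊤ ((be u).coprod (ε • .id)) fun ⟨a, c⟩ e => by
      replace e : (aeval τ a + c • ((γ + 1) * τ ^ r)) • u = 0 := hQ.1 _ trivial fun y _ => (bf_comm _ _).trans (e y trivial)
      have e1 : aeval τ a = 0 := (unis (m := r) irreducible_X (by simpa) a).resolve_right fun ⟨t, ht⟩ => u1 (c5 u (by
        rw [aeval_X] at ht
        have e2 : (τ ^ r + (c • aeval τ t) * (γ + 1) * τ ^ r) • u = 0 := by
          rw [← smul_zero (aeval τ t), ← e, ← mul_smul, mul_add (aeval τ t), ht]; simp [mul_assoc]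
        rw [← smul_zero (1 + (c • aeval τ t) * (γ + 1)), ← e2, ← mul_smul]; congr 1; grind [A.two]))
      have e2 := congrArg (aeval τ) (divX_mul_X_add a)
      simp only [map_add, map_mul, aeval_X, aeval_C, e1] at e2
      have e3 : a.coeff 0 = 0 := (smul_eq_zero_iff_left r1).1 (by rw [Algebra.smul_def]; rw [pow_succ] at r2; grind)
      obtain ⟨t, ht⟩ := soc r2 r1 (a := a.divX) (by simpa [e3, mul_comm] using e2)
      rw [e1, zero_add, smul_assoc, smul_eq_zero] at e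
      simpa [b0, e3, ht, n2] using e.symm.imp_left fun e => (c4 u e).resolve_left u1
  have y2 : ∀ a, B (aeval τ a • u) y = be u a := fun a => by simpa using y1 (a, 0)
  have y3 : B (h • u) y ≠ 0 := by
    obtain ⟨e, rfl⟩ | ⟨rfl, rfl⟩ := c6
    · simpa [← y2] using u2 e
    · simp [show B (((γ + 1) * τ ^ r) • u) y = 1 by simpa using y1 (0, 1)]
  have y4 : ∀ a, be y a = be (u + y) a := fun a => by rw [b1, y2, add_right_comm, a2 F, zero_add]
  refine fin y (by rintro rfl; simp at y3) (gen h1 h2 (w := u + y) (by simpa [b0] using y4 1) (fun a => ?_) ⊤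
    (fun a b => ⟨a, trivial, A.s b, trivial, by simp⟩) fun c _ d _ e => ?_)
  · obtain ⟨p, q, rfl⟩ := f1 a
    simp only [add_smul, map_add (B), LinearMap.add_apply, f3, ← b2, y4]
  by_contra e1
  obtain ⟨j, j1, j2⟩ := ex_top (z := (c + A.s d, A.s d)) ⟨_, m2⟩ fun c => e1 (by
    simp only [Prod.mk_eq_zero] at c
    exact ⟨by simpa [c.2] using c.1, by simpa using congrArg A.s c.2⟩)
  obtain ⟨t, ht⟩ := n4 h c2
  obtain ⟨a, ha⟩ := n4 ((γ + 1) ^ j * (c + A.s d)) (by rw [← mul_assoc, ← pow_succ']; exact congr($j2.1))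
  obtain ⟨b, hb⟩ := n4 ((γ + 1) ^ j * A.s d) (by rw [← mul_assoc, ← pow_succ']; exact congr($j2.2))
  have t0 : t ≠ 0 := by rintro rfl; simp [ht] at c1
  rw [← (inv_smul_eq_iff₀ t0).2 ht, smul_smul] at ha hb
  obtain ⟨e2, e3⟩ := e (A.s ((γ + 1) ^ j))
  rw [A.s_bf, show ∀ a : A.R, a • (c • y + A.s d • (u + y)) = (a * (c + A.s d)) • y + (a * A.s d) • u from
    fun a => by module, ha, hb] at e2 e3
  simp [bf_comm y, bf_comm u, c3, y3, t0, c7 y u] at e2 e3
  exact j1 (Prod.ext (ha.trans (by simp [show a = 0 by simpa [e2, t0, y3] using e3])) (hb.trans (by simp [e2])))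

omit h1 h2 hQ in
theorem good_all (hQ : ND Q ⊤) (hg : ∀ x, Q (g x) = Q x) : Good Q g ⊤ := by
  generalize hn : finrank F V = n
  induction n using Nat.strong_induction_on generalizing V with | _ n ih
  have := Fact.mk hQ
  cases subsingleton_or_nontrivial V
  · exact ⟨1, fun x _ => ⟨trivial, rfl, rfl, Subsingleton.elim _ _, fun _ => ⟨0, trivial, Subsingleton.elim _ _⟩⟩⟩
  obtain ⟨b, rfl, -⟩ := ex_gm hg
  have h1 : ro b ∈ (aeval (R := F) (ro b)).range := ⟨X, aeval_X _⟩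
  refine good_step (γ := ⟨_, h1⟩) (A := ⟨(aeval (ro b)).range, by
    rintro _ ⟨p, rfl⟩ _ ⟨q, rfl⟩; rw [← map_mul, ← map_mul, mul_comm], ?_⟩)
    (fun a => a.2.imp fun p e => Subtype.ext (e.symm.trans (aeval_subalgebra_coe p _ ⟨_, h1⟩).symm)) hg fun U c1 c2 c3 => .of_res c3
      (ih _ (hn ▸ finrank_lt c1) (fun x _ e => Subtype.ext (c2 x x.2 fun y hy => ?_)) (fun x => hg x) rfl)
  · rintro _ ⟨p, rfl⟩
    induction p using Polynomial.induction_on with
    | C c => exact ⟨C c, (ad_eq (by simp)).symm⟩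
    | add p q c d => simpa only [map_add, ad_add] using add_mem c d
    | monomial n c e =>
      rw [pow_succ, ← mul_assoc, map_mul, ad_mul]
      refine mul_mem ?_ e
      rw [show ad Q _ = ro b⁻¹ from ad_eq fun x y => by simp [← bf_map hg x], inv_eq_of_mul_eq_one_right
        ((mul_pow_sub_one Fintype.card_ne_zero b).trans pow_card_eq_one), map_pow]
      exact pow_mem h1 _
  · simpa [bf, QuadraticMap.polar] using e ⟨y, hy⟩ trivial

end H11.FS
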