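import Cfsg.Agent.H11.FS11
import Cfsg.Agent.H11.Bridge
import Cfsg.Agent.H6.Real3
import Cfsg.Agent.H27.Spec16
import Cfsg.Agent.H12.Bridge

/-! Frobenius-Schur indicators of orthogonal and symplectic groups in characteristic two. -/

set_option autoImplicit false
set_option linter.unusedSectionVars false

namespace H11.FS

open Module Submodule LinearMap Multiplicative Cfsg H5 H6 Matrix
open scoped Classical ComplexOrder

universe u

section
variable {G : Type u} [Group G] [Fintype G] {χ : G → ℂ}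

theorem real_of_conj (hχ : IsIrrCharacter G χ) (hr : ∀ g : G, IsConj g g⁻¹) (g : G) : starRingEnd ℂ (χ g) = χ g := by
  rw [← hχ.isCharacter.apply_inv, hχ.isClassFunction.eq_of_isConj (hr g)]

theorem fs_of_tt (h : TT (sg G) (zt G) ⊤) (hr : ∀ g : G, IsConj g g⁻¹) (hχ : IsIrrCharacter G χ) : fsInd χ = 1 := by
  have h0 := real_of_conj hχ hr
  obtain ⟨n, X, rfl⟩ := hχ.isCharacter.exists_matrix
  obtain ⟨c, hc⟩ : ∃ c, c = (starRingEnd ℂ).mapMatrix (m := Fin n) := ⟨_, rfl⟩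
  have cc : ∀ A, c (c A) = A := fun A => by ext i j; simp [hc]
  have cs : ∀ (t : ℂ) A, c (t • A) = starRingEnd ℂ t • c A := fun t A => by ext i j; simp [hc]
  obtain ⟨M, m1, m2⟩ := exists_conj_matrix (X := c.toMonoidHom.comp X) (Y := X) fun g =>
    hc ▸ (AddMonoidHom.map_trace (starRingEnd ℂ) (X g)).symm.trans (h0 g)
  replace m2 : ∀ g, M * c (X g) = X g * M := m2
  obtain ⟨a, ha⟩ := mat_schur hχ (M := M * c M) fun g => by
    rw [mul_assoc, ← cc (X g), ← map_mul, m2, map_mul, ← mul_assoc, m2, cc, mul_assoc]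
  have : Nonempty (Fin n) := Fintype.card_pos_iff.1 (Nat.pos_of_ne_zero (Nat.cast_ne_zero.1 (card_ne_zero_of_irr hχ)))
  have a1 : c M * M = a • 1 := m1.mul_left_cancel (by rw [← mul_assoc, ha]; simp)
  have a2 : starRingEnd ℂ a = a := smul_left_injective ℂ (one_ne_zero' (Matrix (Fin n) (Fin n) ℂ)) (by
    simpa [cs, cc, a1] using (congrArg c ha).symm)
  have a3 : a ≠ 0 := fun e => (m1.mul (m1.map c)).ne_zero (by simp [ha, e])
  obtain ⟨r, rfl⟩ := Complex.conj_eq_iff_real.1 a2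
  obtain ⟨s, s1, s2⟩ : ∃ s : ℝ, s ≠ 0 ∧ (s * s * r = 1 ∨ s * s * r = -1) := ⟨(√|r|)⁻¹, by simpa using a3, by
    rw [← mul_inv, Real.mul_self_sqrt (abs_nonneg r)]
    obtain e | e := abs_choice r <;> simp [e, show r ≠ 0 by simpa using a3]⟩
  obtain ⟨U, u1, u2⟩ : ∃ U, (∀ g, U * c (X g) = X g * U) ∧ (U * c U = 1 ∨ U * c U = -1) :=
    ⟨(s : ℂ) • M, by simp [m2], by
      rw [cs, smul_mul_smul_comm, ha, smul_smul, Complex.conj_ofReal, ← Complex.ofReal_mul, ← Complex.ofReal_mul]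
      exact s2.imp (fun e => by simp [e]) fun e => by simp [e]⟩
  obtain u2 | u2 := u2
  · obtain ⟨_, ⟨T, rfl⟩, t1⟩ := mat_hilbert90 (U := c U) (by rw [← hc, cc, u2])
    let Y : G →* Matrix (Fin n) (Fin n) ℂ := ⟨⟨fun g => T⁻¹.val * X g * T, by simp⟩, fun a b => by simp [mul_assoc]⟩
    have y1 : (fun g => (X g).trace) = fun g => (Y g).trace := funext fun g => (trace_units_conj' T _).symm
    rw [y1] at hχ ⊢
    refine fsInd_eq_one_of_real hχ fun g i j => Complex.conj_eq_iff_im.1 ?_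
    rw [← hc] at t1
    have : c (Y g) = Y g := (T.isUnit.map c).mul_left_cancel (by
      rw [← map_mul, show T * Y g = X g * T by simp [Y, mul_assoc], map_mul, t1, mul_assoc,
        show T * Y g = X g * T by simp [Y, mul_assoc], ← mul_assoc, ← mul_assoc, ← map_mul, ← u1, map_mul, cc])
    simpa [hc] using congr($this i j)
  let J : End ℝ (Fin n → ℂ) := ⟨⟨fun v => U *ᵥ star v, by simp [mulVec_add]⟩, by simp [mulVec_smul]⟩
  have j0 : ∀ A (v : Fin n → ℂ), star (A *ᵥ v) = c A *ᵥ star v := fun A v => by ext; simp [hc, mulVec, dotProduct]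
  have j1 : J ^ 2 = -1 := LinearMap.ext fun v => show U *ᵥ star (U *ᵥ star v) = -v by simp [j0, u2, neg_mulVec]
  let f : G →* End ℝ (Fin n → ℂ) := ⟨⟨fun g => (toLin' (X g)).restrictScalars ℝ, by ext; simp⟩, fun a b => by ext; simp⟩
  let f' : C4 →* End ℝ (Fin n → ℂ) := ⟨⟨fun k => J ^ (toAdd k).val, by simp⟩, fun a b => by
    simp only [toAdd_mul, ZMod.val_add]
    rw [← pow_eq_pow_mod _ (show J ^ 4 = 1 from (pow_mul J 2 2).trans (by rw [j1]; ext; simp [pow_two])), pow_add]⟩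
  let A := f.noncommCoprod f' fun g k => Commute.pow_right (a := f g) (b := J) (LinearMap.ext fun v =>
    show X g *ᵥ U *ᵥ star v = U *ᵥ star (X g *ᵥ v) by simp [j0, u1]) _
  have j2 : ∀ m (t : ℂ) v, (J ^ m) (t • v) = (starRingEnd ℂ ^ m) t • (J ^ m) v := fun m t v => by
    induction m with
    | zero => rfl
    | succ m ih => rw [pow_succ', pow_succ', End.mul_apply, ih]; simp [J, mulVec_smul]
  have : (mrep X).IsIrreducible := (isIrreducible_iff_isIrrCharacter _).2 (by rwa [mrep_char])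
  exact (h _ ⟨fun x => (A x).toAddMonoidHom, fun v => congr($(map_one A) v), fun _ _ v => congr($(map_mul A _ _) v),
    fun x t v => (congrArg (toLin' (X x.1)) (j2 _ t v)).trans (map_smul _ _ _)⟩
    ⟨(1, ofAdd 1), trivial, (pow_one _).trans_ne cj_ne⟩ (fun v => show toLin' (X 1) ((J ^ 2) v) = -v by simp [j1])
    ⟨inferInstance, fun p hp => (eq_bot_or_eq_top
      (⟨p, fun g v hv => hp (g, 1) ⟨trivial, sg_of rfl⟩ v hv⟩ : Subrepresentation (mrep X))).imp
        (congrArg Subrepresentation.toSubmodule) (congrArg Subrepresentation.toSubmodule)⟩).elim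

theorem fs_index_two (h : ∀ ψ, IsIrrCharacter G ψ → fsInd ψ = 1) {N : Subgroup G} [Fintype N] (hN : N.index = 2)
    (hr : ∀ g : N, IsConj g g⁻¹) {χ : N → ℂ} (hχ : IsIrrCharacter N χ) : fsInd χ = 1 := by
  obtain ⟨ψ, h1, h2⟩ := hχ.exists_irr_above
  obtain ⟨n, Z, hZ⟩ := (fsInd_eq_one_iff h1).1 (h ψ h1)
  obtain ⟨m, hm⟩ := (h1.isCharacter.restrict N).exists_classInner_nat hχ.isCharacter
  refine fsInd_of_odd hχ (funext (real_of_conj hχ hr)) ⟨n, Z.comp N.subtype, fun g => hZ g⟩ hm ?_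
  have h3 := norm_res_le N ψ
  rw [hN, h1.classInner_self, (h1.isClassFunction.restrict N).classInner_self_eq_sum_normSq] at h3
  have h4 := (Finset.single_le_sum (f := fun χ : IrrCharacter N => Complex.normSq (classInner (fun u : N => ψ u) χ))
    (fun _ _ => Complex.normSq_nonneg _) (Finset.mem_univ ⟨χ, hχ⟩)).trans (show _ ≤ (2 : ℝ) by exact_mod_cast h3)
  simp only [hm, Complex.normSq_natCast] at h4 h2
  have h5 : m * m ≤ 2 := by exact_mod_cast h4
  rw [show m = 1 by have : m ≠ 0 := by simpa using h2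
                    by_contra; nlinarith [show 2 ≤ m by omega]]
  exact odd_one

end

variable {F V : Type u} [Field F] [CharP F 2] [AddCommGroup V] [Module F V] {Q : QuadraticForm F V}
  [Finite F] [Finite V] {G : Type u} [Group G] [Fintype G] {φ : G →* End F V} {χ : G → ℂ}

variable (Q) in
/-- stabilizers of vectors -/
def OK (v₀ : V) : Subgroup (Gm F V) where
  carrier := {x | (∀ v, Q (ro x v) = Q v) ∧ ro x v₀ = v₀}
  one_mem' := by simp
  mul_mem' a b := by simp [a.1, a.2, b.1, b.2]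
  inv_mem' {x} a := ⟨fun v => by rw [← a.1, ro_inv], by nth_rw 1 [← a.2, inv_ro]⟩

theorem conj_of (h1 : Function.Injective φ) {g k : G} (h : ∀ x, φ g (φ k (φ g x)) = φ k x) : k * g * k⁻¹ = g⁻¹ := by
  rw [mul_inv_eq_iff_eq_mul, eq_inv_mul_iff_mul_eq]; exact h1 (LinearMap.ext (by simpa using h))

theorem fs_orth (hQ : ND Q ⊤) (h1 : Function.Injective φ) (h2 : ∀ g : End F V, (∀ x, Q (g x) = Q x) ↔ g ∈ Set.range φ)
    (hχ : IsIrrCharacter G χ) : fsInd χ = 1 := by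
  have := Fact.mk hQ
  refine fs_of_tt ((tt_orth (K := OK Q 0) (.inl rfl) fun _ => .rfl).of_rel (fun x y => ro x = φ y.1 ∧ x.2 = y.2)
    (fun x c => ((h2 _).1 c.1).elim fun g e => ⟨(g, x.2), trivial, e.symm, rfl⟩) (fun y _ => ?_)
    (fun x _ y _ y' _ a b => Prod.ext (h1 (a.1.symm.trans b.1)) (a.2.symm.trans b.2))
    (fun x x' y y' a b => ⟨by simp [a.1, b.1], by simp [a.2, b.2]⟩) (fun x y a => by simp [sg, a.2])
    ⟨(map_one φ).symm, rfl⟩ (by simp [OK]) trivial) (fun g => ?_) hχ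
  · exact ⟨(((Group.isUnit y.1).map φ).unit, y.2), ⟨(h2 _).2 ⟨_, rfl⟩, map_zero _⟩, rfl, rfl⟩
  obtain ⟨k, hk⟩ := good_all hQ ((h2 _).2 ⟨g, rfl⟩)
  obtain ⟨k, rfl⟩ := (h2 k).1 fun x => (hk x trivial).2.1
  exact isConj_iff.2 ⟨k, conj_of h1 fun x => (hk x trivial).2.2.2.1⟩

theorem fs_sp (hQ : ND Q ⊤) (h1 : Function.Injective φ)
    (h2 : ∀ g : End F V, (∀ x y, bf Q (g x) (g y) = bf Q x y) ↔ g ∈ Set.range φ) (hχ : IsIrrCharacter G χ) :
    fsInd χ = 1 := by
  have := Fact.mk hQ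
  have h3 : ∀ g : G, ∃ l : Dual F V, ∀ v, l v * l v = Q (φ g v) + Q v := fun g => by
    choose l hl using fun v => FiniteField.isSquare_of_char_two (ringChar.eq F 2) (Q (φ g v) + Q v)
    have c : ∀ a b : F, a * a = b * b → a = b := fun a b e => by simpa [CharTwo.neg_eq] using mul_self_eq_mul_self_iff.1 e
    exact ⟨⟨⟨l, fun x y => c _ _ (by
      rw [← hl, CharTwo.add_mul_self, ← hl, ← hl, map_add, q_add, q_add, (h2 _).2 ⟨g, rfl⟩]; grind [CharTwo.two_eq_zero])⟩,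
      fun t x => c _ _ (by simp only [← hl, map_smul, q_smul, RingHom.id_apply, smul_eq_mul, mul_mul_mul_comm t]; ring)⟩,
      fun v => (hl v).symm⟩
  let Q' : QuadraticForm F (V × F × F) := Q.prod (QuadraticMap.linMulLin (fst ..) (snd ..))
  have q1 : ∀ x, Q' x = Q x.1 + x.2.1 * x.2.2 := fun _ => rfl
  have q2 : ∀ x y, bf Q' x y = bf Q x.1 y.1 + (x.2.1 * y.2.2 + x.2.2 * y.2.1) := fun x y => by
    have := q_add (Q := Q') x y
    simp only [q1, Prod.fst_add, Prod.snd_add, q_add] at this; linear_combination -this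
  have q3 : ND Q' ⊤ := fun x _ c => Prod.ext (hQ _ trivial fun y _ => by simpa [q2] using c (y, 0) trivial)
    (Prod.ext (by simpa [q2] using c (0, 0, 1) trivial) (by simpa [q2] using c (0, 1, 0) trivial))
  have := Fact.mk q3
  have q4 : ∀ x ∈ OK Q' (0, 1, 1), ∀ v, ∃ s : F, ro x (v, 0) = ((ro x (v, 0)).1, 0) + s • (0, 1, 1) := fun x c v =>
    ⟨(ro x (v, 0)).2.1, by
      have := bf_map c.1 (v, 0) (0, 1, 1)
      ext <;> simp_all [c.2, CharTwo.add_eq_zero]⟩
  refine fs_of_tt ((tt_orth (K := OK Q' (0, 1, 1)) (.inr (by simp [q1])) fun _ => .rfl).of_rel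
    (fun x y => x ∈ OK Q' (0, 1, 1) ∧ (∀ v, (ro x (v, 0)).1 = φ y.1 v) ∧ x.2 = y.2)
    (fun x c => ((h2 (fst .. ∘ₗ ro x ∘ₗ inl ..)).1 fun v w => ?_).elim fun g e => ⟨(g, x.2), trivial, c,
      fun v => congr($e v).symm, rfl⟩) (fun y _ => ?_)
    (fun x _ y _ y' _ a b => Prod.ext (h1 (LinearMap.ext fun v => (a.2.1 v).symm.trans (b.2.1 v))) (a.2.2.symm.trans b.2.2))
    (fun x x' y y' a b => ⟨mul_mem a.1 b.1, fun v => ?_, by simp [a.2.2, b.2.2]⟩) (fun x y a => by simp [sg, a.2.2])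
    ⟨by simp [OK], by simp [zt, ro], rfl⟩ (by simp [OK]) trivial) (fun g => ?_) hχ
  · obtain ⟨s, hs⟩ := q4 x c v
    obtain ⟨t, ht⟩ := q4 x c w
    have := bf_map c.1 (v, 0) (w, 0)
    rw [hs, ht] at this
    simpa [q2, mul_comm s, CharTwo.add_self_eq_zero] using this
  · obtain ⟨l, hl⟩ := h3 y.1
    obtain ⟨g, g1, g2⟩ := H12.CForm.Nondeg.witt' (C := .ofQuad Q') (fun x c => q3 x trivial fun y _ =>
      (bf_comm _ _).trans (c y)) (eqLocus (fst .. ∘ₗ snd F V (F × F)) (snd .. ∘ₗ snd ..))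
      ((φ y.1).prodMap .id + smulRight (l ∘ₗ fst ..) (0, 1, 1)) (fun x _ c => by
        have : x.1 = 0 := bf_ext (Q := Q) fun z => by
          rw [← (h2 _).2 ⟨y.1, rfl⟩, show φ y.1 x.1 = 0 by simpa using congr($c.1)]; simp
        simpa [this, Prod.ext_iff] using c) (fun x c z c' => by
        show bf Q' _ _ = bf Q' _ _
        simp [q2, (h2 _).2 ⟨y.1, rfl⟩, show x.2.1 = x.2.2 from c, show z.2.1 = z.2.2 from c', CharTwo.add_self_eq_zero])
      fun x c => by
        show Q' _ = Q' _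
        simp [q1, show x.2.1 = x.2.2 from c, CharTwo.add_mul_self, hl]; grind [CharTwo.two_eq_zero]
    obtain ⟨x, x1, -⟩ := ex_gm (Q := Q') (r := g) g1.2
    have x2 : (x.1, y.2) ∈ OK Q' (0, 1, 1) := ⟨fun v => congr(Q' ($x1 v)).trans (g1.2 v), congr($x1 _).trans (by
      simpa using g2 (0, 1, 1) rfl)⟩
    exact ⟨_, x2, x2, fun v => congr(($x1 _).1).trans (by simpa using congr($(g2 (v, 0) rfl).1)), rfl⟩
  · obtain ⟨s, hs⟩ := q4 x' b.1 v
    rw [map_mul, End.mul_apply, hs, map_add, map_smul, a.1.2]; simp [a.2.1, b.2.1]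
  obtain ⟨l, hl⟩ := h3 g
  obtain ⟨u, -, hu⟩ := solve (Q := Q) (φ g - 1) ⊤ l fun x c => by
    have : φ g x = x := sub_eq_zero.1 (hQ _ trivial fun y _ => (bf_comm _ _).trans (c y trivial))
    simpa [this, CharTwo.add_self_eq_zero] using hl x
  let Q₁ : QuadraticForm F V := Q + QuadraticMap.linMulLin ((bf Q).flip u) ((bf Q).flip u)
  have r1 : ∀ x, Q₁ x = Q x + bf Q x u * bf Q x u := fun _ => rfl
  have r2 : ∀ x y, bf Q₁ x y = bf Q x y := fun x y => by
    have := q_add (Q := Q₁) x y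
    simp only [r1, q_add, map_add, LinearMap.add_apply] at this; grind [CharTwo.two_eq_zero]
  obtain ⟨k, hk⟩ := good_all (Q := Q₁) (g := φ g) (fun x _ c => hQ x trivial fun y e => r2 y x ▸ c y e) fun x => by
    have := hu x
    simp only [r1, LinearMap.sub_apply, End.one_apply, map_sub] at this ⊢; grind [CharTwo.two_eq_zero]
  obtain ⟨k, rfl⟩ := (h2 k).1 fun x y => by rw [← r2, ← r2, bf_map fun x => (hk x trivial).2.1]
  exact isConj_iff.2 ⟨k, conj_of h1 fun x => (hk x trivial).2.2.2.1⟩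

section
open H12
variable {ι : Type} [Fintype ι] [DecidableEq ι] {Q : QuadraticForm F (ι → F)}

theorem nd_of (hQ : QNondeg Q) : ND Q ⊤ := fun x _ c => hQ x fun y => (bf_comm x y).trans (c y trivial)

theorem fs_isom (hQ : QNondeg Q) [Fintype (isometryGroup F Q)] {χ : isometryGroup F Q → ℂ} (hχ : IsIrrCharacter _ χ) :
    fsInd χ = 1 :=
  fs_orth (φ := (LinearEquiv.automorphismGroup.toLinearMapMonoidHom.comp (orth Q).subtype).comp (orthEquiv Q).toMonoidHom)
    (nd_of hQ) (fun _ _ e => (orthEquiv Q).injective (Subtype.ext (LinearEquiv.toLinearMap_injective e)))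
    (fun g => ⟨fun c => by
      have := Fact.mk (nd_of hQ)
      obtain ⟨x, rfl, -⟩ := ex_gm c
      exact ⟨(orthEquiv Q).symm ⟨GeneralLinearGroup.toLinearEquiv x.1, mem_orth.2 c⟩, by simp; rfl⟩,
      by rintro ⟨g, rfl⟩; exact orth_Q (orthEquiv Q g)⟩) hχ

theorem fs_O (hQ : QNondeg Q) (χ : IrrCharacter (isometryGroup F Q)) :
    (Nat.card (isometryGroup F Q) : ℂ)⁻¹ * ∑ᶠ s, χ.1 (s * s) = 1 := by
  have := Fintype.ofFinite (isometryGroup F Q)
  rw [finsum_eq_sum_of_fintype]; exact fs_isom hQ χ.2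

theorem fs_Om (hQ : QNondeg Q) {m : ℕ} (hm : 2 ≤ m) (h : Fintype.card ι = 4 * m) (χ : IrrCharacter (Omega F Q)) :
    (Nat.card (Omega F Q) : ℂ)⁻¹ * ∑ᶠ s, χ.1 (s * s) = 1 := by
  have := Fintype.ofFinite (isometryGroup F Q)
  have := Fintype.ofFinite (Omega F Q)
  have h1 : finrank F (ι → F) = 4 * m := by simp [h]
  have h2 : NotExc F (ι → F) := .inr (by omega)
  have h3 := commutator_eq_comap (orthEquiv Q)
  rw [finsum_eq_sum_of_fintype]
  refine fs_index_two (fun _ => fs_isom hQ) (by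
    rw [Omega, h3, Subgroup.index_comap_of_surjective _ (orthEquiv Q).surjective,
      index_commutator_even hQ h2 CharTwo.two_eq_zero (by omega)]) (fun g => ?_) χ.2
  obtain ⟨k, hk⟩ := good_all (g := (orthEquiv Q g).1) (nd_of hQ) (orth_Q _)
  obtain ⟨k', h4⟩ := (orthEquiv Q).surjective ⟨.ofInvolutive k fun x => (hk x trivial).2.2.1,
    mem_orth.2 fun x => (hk x trivial).2.1⟩
  have h5 : ker (k - 1) = range (k - 1) := le_antisymm (fun x c => by
    obtain ⟨y, -, e⟩ := (hk x trivial).2.2.2.2 (sub_eq_zero.1 c)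
    exact ⟨y, by simp [e, s2 F, add_comm]⟩) (by
      rintro _ ⟨y, rfl⟩; simp [(hk y trivial).2.2.1, s2 F, add_comm, a2 F])
  have h6 := (k - 1).finrank_range_add_finrank_ker
  refine isConj_iff.2 ⟨⟨k', h3.ge ((commutator_eq_ker_dickson hQ h2 CharTwo.two_eq_zero).ge ?_)⟩, Subtype.ext
    ((orthEquiv Q).injective (by
      rw [Subgroup.coe_mul, Subgroup.coe_mul, Subgroup.coe_inv, Subgroup.coe_inv, map_mul, map_mul, map_inv, map_inv, h4,
        mul_inv_eq_iff_eq_mul, eq_inv_mul_iff_mul_eq]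
      exact orth_ext fun x => (hk x trivial).2.2.2.1))⟩
  rw [← h5, h1] at h6
  have h7 : finrank F (ker (k - 1)) = 2 * m := by omega
  rw [MonoidHom.mem_ker, MonoidHom.coe_coe, h4, H27.Sp.dickson_eq hQ h2, h1]
  exact Even.neg_one_pow ⟨3 * m, (congrArg (· + 4 * m) h7).trans (by ring)⟩

theorem aniso {a b : F} (h : ∀ z₁ z₂ : F, z₁ ^ 2 + a * z₁ * z₂ + b * z₂ ^ 2 = 0 → z₁ = 0 ∧ z₂ = 0) :
    a ^ 2 - 4 * b ≠ 0 := fun e => by
  obtain ⟨c, rfl⟩ := FiniteField.isSquare_of_char_two (ringChar.eq F 2) b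
  exact one_ne_zero (h c 1 (by grind [CharTwo.two_eq_zero])).2

end

end H11.FS
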