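import Cfsg.Agent.H11.FS1

/-! Semilinear representations: hyperbolic splitting, transport, Clifford theory. -/

set_option autoImplicit false
set_option linter.unusedSectionVars false

namespace H11.FS

open Module Submodule LinearMap
open scoped ComplexConjugate Classical

universe u

variable {Γ : Type u} [Group Γ] {σ : Γ →* (ℂ →+* ℂ)} {H K N L : Subgroup Γ} {V W : Type} [AddCommGroup V] [Module ℂ V]
  [AddCommGroup W] [Module ℂ W] [FiniteDimensional ℂ V] [FiniteDimensional ℂ W] {x y k ζ : Γ}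

theorem SR.sub_neg (a : SR σ H V) {p : Submodule ℂ V} (h : a.Inv H p) (hζ : ∀ v, a ζ v = -v) (v : p) :
    a.sub p h ζ v = -v := Subtype.ext ((rs_apply (fun v hv => by simpa [hζ]) v).trans (hζ v))

theorem TT.of_rel {Γ' : Type u} [Group Γ'] {σ' : Γ' →* (ℂ →+* ℂ)} {ζ' : Γ'} {H' : Subgroup Γ'} (h : TT σ ζ H)
    (R : Γ → Γ' → Prop) (h1 : ∀ x ∈ H, ∃ y ∈ H', R x y) (h2 : ∀ y ∈ H', ∃ x ∈ H, R x y)
    (h3 : ∀ x ∈ H, ∀ y ∈ H', ∀ y' ∈ H', R x y → R x y' → y = y')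
    (h4 : ∀ x x' y y', R x y → R x' y' → R (x * x') (y * y')) (h5 : ∀ x y, R x y → σ x = σ' y) (h6 : R ζ ζ')
    (hζ : ζ ∈ H) (hζ' : ζ' ∈ H') : TT σ' ζ' H' := by
  rintro V _ _ _ a ⟨k, k1, k2⟩ h7 h8
  choose! f f1 f2 using h1
  have f3 : ∀ x ∈ H, ∀ y ∈ H', R x y → f x = y := fun x hx y hy e => h3 x hx _ (f1 x hx) y hy (f2 x hx) e
  have f4 : ∀ x ∈ H, ∀ y ∈ H, f (x * y) = f x * f y := fun x hx y hy =>
    f3 _ (H.mul_mem hx hy) _ (H'.mul_mem (f1 x hx) (f1 y hy)) (h4 _ _ _ _ (f2 x hx) (f2 y hy))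
  have f5 : f 1 = 1 := by simpa using f4 1 H.one_mem 1 H.one_mem
  obtain ⟨k', k3, k4⟩ := h2 k k1
  refine h V ⟨fun x => if x ∈ H then a (f x) else 0, by simp [f5], fun {x y} hx hy v => ?_, fun x c v => ?_⟩
    ⟨k', k3, h5 _ _ k4 ▸ k2⟩ (by simp [hζ, f3 ζ hζ ζ' hζ' h6, h7]) ⟨h8.1, fun p hp => h8.2 p fun y hy v hv => ?_⟩
  · simp [hx, hy, H.mul_mem hx hy, f4, a.mul (f1 x hx) (f1 y hy)]
  · split_ifs with hx
    · rw [a.sm, h5 _ _ (f2 x hx)]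
    · simp
  · obtain ⟨x, c1, c2⟩ := h2 y hy.1
    simpa [c1, f3 x c1 y hy.1 c2] using hp x ⟨c1, (h5 _ _ c2).trans hy.2⟩ v hv

theorem TT.of_scal (h : TT σ ζ H) (hH : H ≤ K) (h1 : ∀ x ∈ K, ∃ n ∈ K, ∃ l ∈ H, x = n * l ∧ σ n = 1 ∧
    ∀ y ∈ K, σ y = 1 → n * y = y * n) : TT σ ζ K := by
  rintro V _ _ _ a ⟨k, k1, k2⟩ h7 h8
  obtain ⟨n, -, l, c1, rfl, c2, -⟩ := h1 k k1
  refine h V (a.res hH) ⟨l, c1, by simpa [c2] using k2⟩ h7 ⟨h8.1, fun p hp => h8.2 p fun x hx v hv => ?_⟩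
  obtain ⟨n, d1, l, d2, rfl, d3, d4⟩ := h1 x hx.1
  obtain ⟨c, hc⟩ := h8.schur (a.lin n) (fun y hy v => by
    simp only [a.lin_apply d3, ← a.mul d1 hy.1, ← a.mul hy.1 d1, d4 y hy.1 hy.2]) fun _ h => h.2
  rw [a.mul d1 (hH d2), ← a.lin_apply d3, hc]
  exact p.smul_mem _ (hp l ⟨d2, by simpa [d3] using hx.2⟩ v hv)

theorem tt_base (hσ : Sg σ) (h1 : ∀ x ∈ K, σ x = 1 → x = 1 ∨ x = ζ) (h2 : ∀ k ∈ K, σ k ≠ 1 → k * k = ζ) :
    TT σ ζ K := by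
  rintro V _ _ _ a ⟨k, k1, k2⟩ h7 ⟨_, h8⟩
  obtain ⟨v, hv⟩ := exists_ne (0 : V)
  obtain ⟨c, hc⟩ := mem_span_singleton.1 (((h8 (ℂ ∙ v) fun x hx w hw => by
    obtain rfl | rfl := h1 x hx.1 hx.2 <;> simpa [h7]).resolve_left (by simpa)).ge (mem_top (x := a k v)))
  have := a.mul k1 k1 v
  rw [h2 k k1 k2, h7, ← hc, a.sm, ← hc, hσ.conj k2, smul_smul, ← neg_one_smul ℂ v, smul_left_inj hv,
    Complex.conj_mul'] at this
  have h3 : (-1 : ℝ) = ‖c‖ ^ 2 := by exact_mod_cast this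
  nlinarith [sq_nonneg ‖c‖]

variable [Fintype Γ]

theorem TT.hyp (h : TT σ ζ H) (hσ : Sg σ) (a : SR σ H V) (hk : k ∈ H) (hk' : σ k ≠ 1) (hζ : ∀ v, a ζ v = -v) :
    ∃ p : End ℂ V, p * p = p ∧ (∀ x ∈ H, σ x = 1 → ∀ v, p (a x v) = a x (p v)) ∧ p + a.cj a k p = 1 := by
  have t1 : ∀ U, a.Inv (H ⊓ σ.ker) U → ∀ x ∈ H, σ x ≠ 1 → ∀ v ∈ U, a x v ∈ a.tl k U := fun U hU x hx e v hv => by
    rw [a.mem_tl, ← a.mul (inv_mem hk) hx]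
    exact hU _ ⟨H.mul_mem (H.inv_mem hk) hx, hσ.mul (sg_inv_ne hk') e⟩ v hv
  have t2 : ∀ U, a.Inv (H ⊓ σ.ker) U → ∀ x ∈ H, σ x ≠ 1 → ∀ v ∈ a.tl k U, a x v ∈ U := fun U hU x hx e v hv => by
    simpa [← a.mul (mul_mem hx hk) (inv_mem hk)] using hU _ ⟨mul_mem hx hk, hσ.mul e hk'⟩ _ hv
  have t3 : ∀ U, a.Inv (H ⊓ σ.ker) U → a.Inv (H ⊓ σ.ker) (a.tl k U) := fun U hU x hx v hv => by
    rw [a.mem_tl, ← a.mul (inv_mem hk) hx.1]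
    exact t2 U hU _ (mul_mem (inv_mem hk) hx.1) (by simpa [show σ x = 1 from hx.2] using sg_inv_ne hk') v hv
  obtain ⟨U, ⟨a1, a2⟩, a3⟩ := wellFounded_gt.has_min {U | a.Inv (H ⊓ σ.ker) U ∧ Disjoint U (a.tl k U)}
    ⟨⊥, fun x _ v hv => by simp [show v = 0 from hv], disjoint_bot_left⟩
  have h1 : a.Inv H (U ⊔ a.tl k U) := fun x hx v hv => by
    obtain ⟨u, b1, w, b2, rfl⟩ := mem_sup.1 hv
    rw [map_add]
    by_cases e : σ x = 1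
    · exact add_mem_sup (a1 x ⟨hx, e⟩ u b1) (t3 U a1 x ⟨hx, e⟩ w b2)
    · exact add_comm (a x w) _ ▸ add_mem_sup (t2 U a1 x hx e w b2) (t1 U a1 x hx e u b1)
  have h2 : IsCompl U (a.tl k U) := ⟨a2, codisjoint_iff.2 (by_contra fun h2 => by
    obtain ⟨e, b1, b2, b3⟩ := a.maschke h1
    obtain ⟨U₁, c1, c2, c3, c4⟩ := a.ex_min (N := H ⊓ σ.ker) (p := ker e)
      (fun x hx v hv => by simp [b3 x hx.1, show e v = 0 from hv]) fun h0 => h2 (eq_top_iff.2 fun v _ => by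
        have : v - e v ∈ ker e := by simp [b2 _ (b1 v)]
        exact sub_eq_zero.1 (h0.le this) ▸ b1 v)
    obtain h3 | h3 := c4 (U₁ ⊓ a.tl k U₁) (fun x hx v hv => ⟨c2 x hx v hv.1, t3 _ c2 x hx v hv.2⟩) inf_le_left
    · refine a3 (U ⊔ U₁) ⟨fun x hx v hv => ?_, disjoint_def.2 fun w d1 d2 => ?_⟩ (left_lt_sup.2 fun d => c3
        (eq_bot_iff.2 fun v hv => (b2 v (mem_sup_left (d hv))).symm.trans (c1 hv)))
      · obtain ⟨u, b1, w, b2, rfl⟩ := mem_sup.1 hv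
        exact map_add (a x) u w ▸ add_mem_sup (a1 x hx u b1) (c2 x hx w b2)
      · obtain ⟨u, d3, u₁, d4, rfl⟩ := mem_sup.1 d1
        obtain ⟨u', d5, u₁', d6, d7⟩ := mem_sup.1 d2
        have d8 : u' = a k⁻¹ u := by
          simpa [b3 _ (inv_mem hk), b2 u (mem_sup_left d3), b2 u' (mem_sup_left d5), show e u₁ = 0 from c1 d4,
            show e u₁' = 0 from c1 d6] using congrArg e d7
        obtain rfl := disjoint_def.1 a2 u d3 (show a k⁻¹ u ∈ U from d8 ▸ d5)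
        simpa using h3.le ⟨d4, show a k⁻¹ u₁ ∈ U₁ by rwa [show a k⁻¹ u₁ = u₁' by simpa [d8] using d7.symm]⟩
    · have h4 : a.Inv H U₁ := fun x hx v hv => by
        by_cases e : σ x = 1
        exacts [c2 x ⟨hx, e⟩ v hv, t2 _ c2 x hx e v (h3.ge hv).2]
      exact h U₁ (a.sub _ h4) ⟨k, hk, hk'⟩ (a.sub_neg h4 hζ) (a.sub_simp h4 inf_le_left c3 c4))⟩
  have h3 : ∀ v, ∃ u ∈ U, ∃ w ∈ a.tl k U, u + w = v := fun v => mem_sup.1 (h2.sup_eq_top.ge mem_top)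
  have h4 : ∀ u ∈ U, ∀ w ∈ a.tl k U, U.projection _ h2 (u + w) = u := fun u b1 w b2 => by
    rw [map_add, projection_apply_of_mem_left h2 b1, (projection_apply_eq_zero_iff h2).2 b2, add_zero]
  refine ⟨U.projection _ h2, isIdempotentElem_projection h2, fun x hx e v => ?_, LinearMap.ext fun v => ?_⟩ <;>
    obtain ⟨u, b1, w, b2, rfl⟩ := h3 v
  · rw [h4 u b1 w b2, map_add, h4 _ (a1 x ⟨hx, e⟩ u b1) _ (t3 U a1 x ⟨hx, e⟩ w b2)]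
  · rw [LinearMap.add_apply, h4 u b1 w b2, a.cj_apply, map_add, add_comm (a k⁻¹ u),
      h4 _ b2 _ (t1 U a1 _ (inv_mem hk) (sg_inv_ne hk') u b1), a.inv_r hk, End.one_apply]

theorem clifford (a : SR σ K V) (hs : a.Simp (K ⊓ σ.ker)) (hk : ∃ k ∈ K, σ k ≠ 1) (hζ : ∀ v, a ζ v = -v) (hN : N ≤ K)
    (hN' : ∀ n ∈ N, σ n = 1) (hn : ∀ k ∈ K, ∀ n ∈ N, k * n * k⁻¹ ∈ N) (hL : L ≤ K)
    (hKL : ∀ x ∈ K, ∃ n ∈ N, ∃ l ∈ L, x = n * l) (hc : ∀ n ∈ N, ∀ m ∈ N, ∀ v, a n (a m v) = a m (a n v)) :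
    ∃ μ : Γ → ℂ, (∃ v ≠ 0, ∀ n ∈ N, a n v = μ n • v) ∧ (∀ n ∈ N, ∀ m ∈ N, μ (n * m) = μ n * μ m) ∧ μ 1 = 1 ∧
      ∀ L' : Subgroup Γ, (∀ l, l ∈ L' ↔ l ∈ L ∧ ∀ n ∈ N, μ (l * n * l⁻¹) = σ l (μ n)) → ¬TT σ ζ L' := by
  have := hs.1
  obtain ⟨q, -, a1, a2, a3⟩ := (a.res hN).ex_min (N := N) (p := ⊤) (fun _ _ _ _ => mem_top) top_ne_bot
  have h1 : ∀ n ∈ N, ∃ c : ℂ, ∀ v ∈ q, a n v = c • v := fun n hn => by
    obtain ⟨c, e⟩ := ((a.res hN).sub_simp a1 le_rfl a2 a3).schur (((a.res hN).sub q a1).lin n) (fun x hx v => by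
      ext; simp [SR.lin_apply _ (hN' n hn), SR.sub_apply _ _ hn, SR.sub_apply _ _ hx, hc n hn x hx]) hN'
    exact ⟨c, fun v hv => by simpa [SR.lin_apply _ (hN' n hn), SR.sub_apply _ _ hn] using congrArg Subtype.val (e ⟨v, hv⟩)⟩
  choose! μ hμ using h1
  obtain ⟨v₀, b1, b2⟩ := q.ne_bot_iff.1 a2
  have h2 : ∀ n ∈ N, ∀ m ∈ N, μ (n * m) = μ n * μ m := fun n hn m hm => smul_left_injective ℂ b2 (by
    simp [← hμ _ (mul_mem hn hm) _ b1, a.mul (hN hn) (hN hm), hμ m hm _ b1, a.sm, hN' n hn, hμ n hn _ b1, smul_smul,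
      mul_comm])
  have h3 : μ 1 = 1 := smul_left_injective ℂ b2 (by simp [← hμ 1 N.one_mem _ b1])
  refine ⟨μ, ⟨v₀, b2, fun n hn => hμ n hn _ b1⟩, h2, h3, fun L' hL' h => ?_⟩
  let P : Submodule ℂ V := ⨅ n : N, (a.lin n).eigenspace (μ n)
  have hP : ∀ v, v ∈ P ↔ ∀ n ∈ N, a n v = μ n • v := fun v => by
    simp only [P, mem_iInf, End.mem_eigenspace_iff, Subtype.forall]
    exact forall₂_congr fun n hn => by rw [a.lin_apply (hN' n hn)]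
  have h4 : ∀ l ∈ K, ∀ v ∈ P, ∀ n ∈ N, a (l * n * l⁻¹) (a l v) = σ l (μ n) • a l v := fun l hl v hv n hn' => by
    rw [← a.mul (hN (hn l hl n hn')) hl, inv_mul_cancel_right, a.mul hl (hN hn'), (hP v).1 hv n hn', a.sm]
  have h4' : ∀ l ∈ K, ∀ v ∈ P, ∀ n ∈ N, a n (a l v) = σ l (μ (l⁻¹ * n * l⁻¹⁻¹)) • a l v := fun l hl v hv n hn' => by
    simpa [mul_assoc] using h4 l hl v hv _ (hn _ (inv_mem hl) n hn')
  let π : End ℂ V := ∑ n : N, μ (n : Γ)⁻¹ • a.lin n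
  have p0 : ∀ v, π v = ∑ n : N, μ (n : Γ)⁻¹ • a n v := fun v => by simp [π, fun n : N => a.lin_apply (hN' n n.2)]
  have p1 : ∀ v, π v ∈ P := fun v => (hP _).2 fun m hm => by
    simp only [p0, map_sum, Finset.smul_sum, a.sm, hN' m hm, smul_smul]
    exact Fintype.sum_equiv (Equiv.mulLeft (⟨m, hm⟩ : N)) _ _ fun x => by
      simp [a.mul (hN hm) (hN x.2), h2 _ (inv_mem x.2) _ (inv_mem hm), mul_left_comm (μ m), ← h2 _ hm _ (inv_mem hm), h3]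
  have p2 : ∀ v ∈ P, π v = (Nat.card N : ℂ) • v := fun v hv => by
    simp [p0, fun n : N => (hP v).1 hv n n.2, smul_smul, fun n : N => (h2 _ (inv_mem n.2) _ n.2).symm, h3,
      Nat.cast_smul_eq_nsmul]
  have p3 : ∀ n ∈ N, ∀ l ∈ L, l ∉ L' → ∀ v ∈ P, π (a (n * l) v) = 0 := fun n hn' l hl e v hv => by
    rw [a.mul (hN hn') (hL hl), h4' l (hL hl) v hv n hn', map_smul]
    obtain ⟨c, hc⟩ : ∃ c : ℂ, π (a l v) = c • a l v := ⟨_, by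
      simp only [p0, fun n : N => h4' l (hL hl) v hv n n.2, smul_smul, ← Finset.sum_smul]; rfl⟩
    simp only [hL', hl, true_and, not_forall] at e
    obtain ⟨m, c1, c2⟩ := e
    have := (hP _).1 (p1 (a l v)) _ (hn l (hL hl) m c1)
    rw [hc, a.sm, hN' _ (hn l (hL hl) m c1), h4 l (hL hl) v hv m c1, RingHom.coe_one, id_eq, ← sub_eq_zero, smul_comm,
      ← sub_smul] at this
    simp [hc, (smul_eq_zero.1 this).resolve_left (sub_ne_zero.2 (Ne.symm c2))]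
  have hL1 : L' ≤ K := fun l hl => hL ((hL' l).1 hl).1
  have h5 : (a.res hL1).Inv L' P := fun l hl v hv => (hP _).2 fun n hn' => by
    have := ((hL' l).1 hl).2 _ (hn _ (inv_mem (hL1 hl)) n hn')
    rw [SR.res_apply, h4' l (hL1 hl) v hv n hn', ← this]; simp [mul_assoc]
  have h6 : ∀ (S : Set V) (U : Submodule ℂ V), (∀ x ∈ K ⊓ σ.ker, ∀ v ∈ S, a x v ∈ S) → (∃ v ∈ S, v ≠ 0) →
      (∀ v ∈ S, π v ∈ U) → P ≤ U := fun S U c1 ⟨w, c2, c3⟩ c4 v hv => by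
    have := (hs.2 (span ℂ S) fun x hx v hv => by
      rw [← a.lin_apply hx.2]
      exact (show span ℂ S ≤ comap (a.lin x) (span ℂ S) from span_le.2 fun v hv =>
        subset_span (a.lin_apply hx.2 v ▸ c1 x hx v hv)) hv).resolve_left fun e => c3 (e.le (subset_span c2))
    exact (U.smul_mem_iff (SR.cne N)).1 (p2 v hv ▸ (show span ℂ S ≤ comap π U from span_le.2 c4) (this.ge mem_top))
  have h7 : v₀ ∈ P := (hP _).2 fun n hn => hμ n hn _ b1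
  refine h P ((a.res hL1).sub P h5) (by_contra fun e => b2 ?_) (SR.sub_neg _ _ hζ)
    (SR.sub_simp _ _ inf_le_left (P.ne_bot_iff.2 ⟨_, h7, b2⟩) fun U c1 c2 => or_iff_not_imp_left.2 fun c3 =>
      c2.antisymm ?_)
  · obtain ⟨k, k1, k2⟩ := hk
    refine h6 {w | ∃ x ∈ K, σ x ≠ 1 ∧ ∃ v ∈ P, w = a x v} ⊥ ?_ ⟨_, ⟨k, k1, k2, _, h7, rfl⟩,
      fun e => b2 (a.inj k1 (by simpa))⟩ ?_ h7
    · rintro x hx _ ⟨y, c1, c2, v, c3, rfl⟩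
      exact ⟨x * y, mul_mem hx.1 c1, by simpa [show σ x = 1 from hx.2], v, c3, (a.mul hx.1 c1 v).symm⟩
    · rintro _ ⟨y, c1, c2, v, c3, rfl⟩
      obtain ⟨n, d1, l, d2, rfl⟩ := hKL y c1
      exact p3 n d1 l d2 (fun d3 => e ⟨l, d3, by simpa [hN' n d1] using c2⟩) v c3
  · obtain ⟨u, d1, d2⟩ := U.ne_bot_iff.1 c3
    refine h6 {w | ∃ x ∈ K, σ x = 1 ∧ ∃ v ∈ U, w = a x v} U ?_ ⟨u, ⟨1, K.one_mem, map_one _, u, d1, by simp⟩, d2⟩ ?_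
    · rintro x hx _ ⟨y, c1, c2, v, c3, rfl⟩
      exact ⟨x * y, mul_mem hx.1 c1, by simp [show σ x = 1 from hx.2, c2], v, c3, (a.mul hx.1 c1 v).symm⟩
    · rintro _ ⟨y, e1, e2, v, e3, rfl⟩
      obtain ⟨n, d1, l, d2, rfl⟩ := hKL y e1
      by_cases d3 : l ∈ L'
      · have : a l v ∈ U := c1 l ⟨d3, by simpa [hN' n d1] using e2⟩ v e3
        rw [a.mul (hN d1) (hL d2), (hP _).1 (c2 this) n d1, map_smul, p2 _ (c2 this)]
        exact U.smul_mem _ (U.smul_mem _ this)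
      · simp [p3 n d1 l d2 d3 v (c2 e3)]

end H11.FS
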