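import Cfsg.Agent.H11.FS2

/-! Semilinear representations: traces and determinants. -/

set_option autoImplicit false
set_option linter.unusedSectionVars false

namespace H11.FS

open Module Submodule LinearMap
open scoped ComplexConjugate Classical

universe u

variable {Γ : Type u} [Group Γ] {σ : Γ →* (ℂ →+* ℂ)} {H K N L : Subgroup Γ} {V W : Type} [AddCommGroup V] [Module ℂ V]
  [AddCommGroup W] [Module ℂ W] [FiniteDimensional ℂ V] [FiniteDimensional ℂ W] {x y k ζ : Γ}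

/-- two-sided multiplication -/
def lr (x : End ℂ W) (y : End ℂ V) : End ℂ (V →ₗ[ℂ] W) := llcomp ℂ V W W x ∘ₗ lcomp ℂ W y

@[simp] theorem lr_apply (x : End ℂ W) (y : End ℂ V) (f : V →ₗ[ℂ] W) (v : V) : lr x y f v = x (f (y v)) := rfl

theorem lr_mul (x x' : End ℂ W) (y y' : End ℂ V) : lr x y * lr x' y' = lr (x * x') (y' * y) := rfl

theorem lr_one : lr (1 : End ℂ W) (1 : End ℂ V) = 1 := rfl

theorem lr_pow (x : End ℂ W) (y : End ℂ V) (n : ℕ) : lr x y ^ n = lr (x ^ n) (y ^ n) := by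
  induction n with
  | zero => rfl
  | succ n ih => rw [pow_succ, ih, lr_mul, pow_succ, pow_succ']

theorem trace_lr (x : End ℂ W) (y : End ℂ V) : trace ℂ _ (lr x y) = trace ℂ W x * trace ℂ V y := by
  rw [mul_comm, ← trace_transpose' y, ← trace_tensorProduct', ← trace_conj' _ (dualTensorHomEquiv ℂ V W)]
  congr 1
  refine LinearMap.ext fun f => ?_
  obtain ⟨f, rfl⟩ := (dualTensorHomEquiv ℂ V W).surjective f
  rw [LinearEquiv.conj_apply_apply, LinearEquiv.symm_apply_apply]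
  induction f with
  | zero => simp
  | add f g h h' => simp only [map_add, h, h']
  | tmul f w => ext; simp [Dual.transpose_apply]

/-- the linear map underlying an additive map -/
noncomputable def ln (T : V →+ V) : End ℂ V :=
  if h : ∀ (c : ℂ) v, T (c • v) = c • T v then ⟨⟨T, map_add T⟩, h⟩ else 0

theorem ln_apply {T : V →+ V} (h : ∀ (c : ℂ) v, T (c • v) = c • T v) (v : V) : ln T v = T v := by
  rw [ln, dif_pos h]; rfl

variable (V) in
/-- coordinatewise application of a field endomorphism -/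
noncomputable def kp (τ : ℂ →+* ℂ) : V →+ V :=
  .mk' (fun v => (finBasis ℂ V).equivFun.symm fun i => τ ((finBasis ℂ V).equivFun v i)) fun v w => by
    rw [← map_add]; congr 1; ext; simp

theorem repr_kp (τ : ℂ →+* ℂ) (v : V) (i) : (finBasis ℂ V).repr (kp V τ v) i = τ ((finBasis ℂ V).repr v i) :=
  congrFun ((finBasis ℂ V).equivFun.apply_symm_apply _) i

theorem kp_sm (τ : ℂ →+* ℂ) (c : ℂ) (v : V) : kp V τ (c • v) = τ c • kp V τ v :=
  (finBasis ℂ V).ext_elem fun i => by simp [repr_kp]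

theorem kp_kp (τ τ' : ℂ →+* ℂ) (v : V) : kp V τ (kp V τ' v) = kp V (τ * τ') v :=
  (finBasis ℂ V).ext_elem fun i => by simp [repr_kp]

@[simp] theorem kp_one (v : V) : kp V 1 v = v := (finBasis ℂ V).ext_elem fun i => by simp [repr_kp]

theorem kp_basis (τ : ℂ →+* ℂ) (j) : kp V τ (finBasis ℂ V j) = finBasis ℂ V j :=
  (finBasis ℂ V).ext_elem fun i => by by_cases h : j = i <;> simp [repr_kp, Finsupp.single_apply, h]

/-- the conjugate of an endomorphism -/
noncomputable def kc (σ : Γ →* (ℂ →+* ℂ)) (k : Γ) (f : End ℂ V) : End ℂ V :=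
  ⟨⟨fun v => kp V (σ k) (f (kp V (σ k⁻¹) v)), by simp⟩, by simp [kp_sm]⟩

theorem kc_apply (k : Γ) (f : End ℂ V) (v : V) : kc σ k f v = kp V (σ k) (f (kp V (σ k⁻¹) v)) := rfl

theorem mat_kc (k : Γ) (f : End ℂ V) : toMatrix (finBasis ℂ V) (finBasis ℂ V) (kc σ k f) =
    (σ k).mapMatrix (toMatrix (finBasis ℂ V) (finBasis ℂ V) f) := by
  ext; simp [toMatrix_apply, kc_apply, repr_kp, kp_basis]

/-- semilinear -/
def SL (τ : ℂ →+* ℂ) (T : V →+ V) : Prop := ∀ (c : ℂ) v, T (c • v) = τ c • T v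

theorem trace_semi {T T' : V →+ V} (h : SL (σ k) T) (h' : SL (σ k⁻¹) T') (e : ∀ v, T' (T v) = v) {f g : End ℂ V}
    (hg : ∀ v, g v = T (f (T' v))) : trace ℂ V g = σ k (trace ℂ V f) := by
  have h1 := ln_apply (T := T.comp (kp V (σ k⁻¹))) (by simp [h _, kp_sm])
  have h2 := ln_apply (T := (kp V (σ k)).comp T') (by simp [h' _, kp_sm])
  rw [show g = ln (T.comp (kp V (σ k⁻¹))) * kc σ k f * ln ((kp V (σ k)).comp T') by
    ext; simp [h1, h2, hg, kc_apply, kp_kp, ← map_mul], trace_mul_cycle,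
    show ln ((kp V (σ k)).comp T') * ln (T.comp (kp V (σ k⁻¹))) = 1 by
      ext; simp [h1, h2, e, kp_kp, ← map_mul], one_mul, trace_eq_matrix_trace ℂ (finBasis ℂ V), mat_kc,
    trace_eq_matrix_trace ℂ (finBasis ℂ V)]
  exact (AddMonoidHom.map_trace (σ k) _).symm

theorem SR.trace_cj (a : SR σ H V) (hk : k ∈ H) (f : End ℂ V) : trace ℂ V (a.cj a k f) = σ k (trace ℂ V f) :=
  trace_semi (a.sm k) (a.sm _) (a.inv_l hk) fun _ => rfl

theorem SL.rs {τ : ℂ →+* ℂ} {T : V →+ V} (h : SL τ T) (p : Submodule ℂ V) : SL τ (rs T p) := fun c v => by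
  unfold FS.rs; split_ifs <;> ext <;> simp [h c]

/-- determinants of semilinear maps -/
noncomputable def sd (σ : Γ →* (ℂ →+* ℂ)) (k : Γ) (T : V →+ V) : ℂ := (ln (T.comp (kp V (σ k⁻¹)))).det

theorem SL.ln {T : V →+ V} (h : SL (σ k) T) (v : V) : ln (T.comp (kp V (σ k⁻¹))) v = T (kp V (σ k⁻¹) v) :=
  ln_apply (by simp [h _, kp_sm]) v

theorem sd_mul {T T' : V →+ V} (h : SL (σ x) T) (h' : SL (σ y) T') :
    sd σ (x * y) (T.comp T') = sd σ x T * σ x (sd σ y T') := by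
  have h1 : SL (σ (x * y)) (T.comp T') := fun c v => by simp [h _, h' _]
  rw [sd, sd, sd, ← det_toMatrix (finBasis ℂ V) (ln (T'.comp _)), RingHom.map_det, ← mat_kc, det_toMatrix, ← map_mul]
  congr 1; ext
  rw [h1.ln]; simp [h.ln, h'.ln, kc_apply, kp_kp, ← map_mul]

theorem sd_smul {T : V →+ V} (h : SL (σ x) T) (c : ℂ) : sd σ x (c • T) = c ^ finrank ℂ V * sd σ x T := by
  have h1 : SL (σ x) (c • T) := fun d v => by simp [h _, smul_comm c]
  rw [sd, sd, ← det_smul]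
  congr 1; ext
  rw [h1.ln]; simp [h.ln]

theorem sd_id (h : σ x = 1) : sd σ x (.id V) = 1 := by
  have h1 : SL (σ x) (.id V) := fun d v => by simp [h]
  rw [sd, ← map_one (LinearMap.det (A := ℂ) (M := V))]
  congr 1; ext
  rw [h1.ln]; simp [sg_inv_one h]

theorem trace_idem {p : End ℂ V} (h : p * p = p) : trace ℂ V p = finrank ℂ (range p) :=
  ((isProj_range_iff_isIdempotentElem p).2 h).trace

theorem trace_eig {x : End ℂ V} {n : ℕ} (hn : n ≠ 0) (h : x ^ n = 1) : ∃ ω : ℕ → ℂ, (∀ i, ω i ^ n = 1) ∧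
    ∀ p : End ℂ V, p * p = p → Commute p x → ∃ m : ℕ → ℕ, trace ℂ V (x * p) = ∑ i ∈ .range n, ω i * m i ∧
      (∀ y, y * x = 1 → trace ℂ V (y * p) = ∑ i ∈ .range n, (ω i)⁻¹ * m i) ∧
        (p = 1 → ∀ i, m i = finrank ℂ (x.eigenspace (ω i))) := by
  obtain ⟨w, hw⟩ : ∃ w : ℂ, IsPrimitiveRoot w n := ⟨_, Complex.isPrimitiveRoot_exp n hn⟩
  have h0 : ∀ i, (w ^ i) ^ n = 1 := fun i => by rw [← pow_mul, mul_comm, pow_mul, hw.pow_eq_one, one_pow]
  have h00 : ∀ i, w ^ i ≠ 0 := fun i => pow_ne_zero _ (hw.ne_zero hn)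
  have hn' : (n : ℂ) ≠ 0 := Nat.cast_ne_zero.2 hn
  let e : ℕ → End ℂ V := fun i => (n : ℂ)⁻¹ • ∑ j ∈ .range n, ((w ^ i)⁻¹ • x) ^ j
  have h1 : ∀ i, x * e i = w ^ i • e i := fun i => by
    have := mul_geom_sum ((w ^ i)⁻¹ • x) n
    rw [smul_pow, inv_pow, h0, h, inv_one, one_smul, sub_self, sub_mul, sub_eq_zero, one_mul, smul_mul_assoc,
      inv_smul_eq_iff₀ (h00 i)] at this
    simp only [e, mul_smul_comm, this, smul_comm (w ^ i)]
  have h2 : ∀ i v, x v = w ^ i • v → e i v = v := fun i v hv => by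
    have : ∀ j, (((w ^ i)⁻¹ • x) ^ j) v = v := fun j => by
      induction j with
      | zero => rfl
      | succ j ih => simp [pow_succ, hv, h00 i, -smul_pow, ih]
    simp [e, -smul_pow, this, ← Nat.cast_smul_eq_nsmul ℂ, hn']
  have h3 : ∑ i ∈ .range n, e i = 1 := by
    simp only [e, smul_pow, ← Finset.smul_sum]
    rw [Finset.sum_comm, Finset.sum_eq_single 0 (fun j hj hj' => ?_) (by simp [hn])]
    · simp [← Nat.cast_smul_eq_nsmul ℂ, hn']
    · have := mul_geom_sum (w ^ j)⁻¹ n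
      rw [inv_pow, h0, inv_one, sub_self, mul_eq_zero, sub_eq_zero, inv_eq_one] at this
      simp only [← Finset.sum_smul, inv_pow, ← pow_mul, mul_comm _ j]
      simp only [pow_mul, ← inv_pow (w ^ j)]
      rw [this.resolve_left (hw.pow_ne_one_of_pos_of_lt hj' (by simpa using hj)), zero_smul]
  have h4 : ∀ i, e i * e i = e i := fun i => LinearMap.ext fun v => h2 i _ congr($(h1 i) v)
  refine ⟨fun i => w ^ i, h0, fun p hp hc => ?_⟩
  have h5 : ∀ i, Commute p (e i) := fun i =>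
    (Commute.sum_right _ _ _ fun j _ => (hc.smul_right _).pow_right j).smul_right _
  have h6 : ∀ (y : End ℂ V) (c : ℕ → ℂ), (∀ i, y * e i = c i • e i) →
      trace ℂ V (y * p) = ∑ i ∈ .range n, c i * finrank ℂ (range (e i * p)) := fun y c hy => by
    rw [← mul_one y, ← h3, Finset.mul_sum, Finset.sum_mul, map_sum]
    exact Finset.sum_congr rfl fun i _ => by
      rw [hy, smul_mul_assoc, map_smul, trace_idem (by rw [mul_assoc, ← mul_assoc p, h5, mul_assoc, hp, ← mul_assoc, h4]),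
        smul_eq_mul]
  refine ⟨_, h6 x _ h1, fun y hy => h6 y _ fun i => ?_, ?_⟩
  · rw [eq_inv_smul_iff₀ (h00 i), ← mul_smul_comm, ← h1, ← mul_assoc, hy, one_mul]
  · rintro rfl i
    rw [mul_one, show range (e i) = x.eigenspace (w ^ i) from le_antisymm (by
      rintro _ ⟨v, rfl⟩; exact End.mem_eigenspace_iff.2 congr($(h1 i) v)) fun v hv =>
        ⟨v, h2 i v (End.mem_eigenspace_iff.1 hv)⟩]

theorem int_root {w : ℂ} {n : ℕ} (hn : n ≠ 0) (h : w ^ n = 1) : IsIntegral ℤ w :=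
  IsIntegral.of_pow (Nat.pos_of_ne_zero hn) (h ▸ isIntegral_one)

theorem trace_int {x y p : End ℂ V} {n : ℕ} (hn : n ≠ 0) (h : x ^ n = 1) (hp : p * p = p) (hc : Commute p x)
    (hy : y * x = 1) : IsIntegral ℤ (trace ℂ V (x * p)) ∧ trace ℂ V (y * p) = conj (trace ℂ V (x * p)) := by
  obtain ⟨ω, h1, h2⟩ := trace_eig hn h
  obtain ⟨m, h3, h4, -⟩ := h2 p hp hc
  rw [h3, h4 y hy, map_sum]
  exact ⟨.sum _ fun i _ => (int_root hn (h1 i)).mul (isIntegral_natCast _), Finset.sum_congr rfl fun i _ => by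
    rw [map_mul, map_natCast, Complex.inv_eq_conj (Complex.norm_eq_one_of_pow_eq_one (h1 i) hn)]⟩

variable [Fintype Γ]

theorem SR.Simp.sum {a : SR σ H V} (h : a.Simp N) (hN : N ≤ H) (hN' : ∀ n ∈ N, σ n = 1) {x y : End ℂ V}
    (hxy : x * y = 1) : ∑ r : N, trace ℂ V (a.lin r * x) * trace ℂ V (y * a.lin (r : Γ)⁻¹) = Nat.card N := by
  have := h.1
  have h0 : (finrank ℂ V : ℂ) ≠ 0 := Nat.cast_ne_zero.2 finrank_pos.ne'
  have h1 : ∀ r : N, ∀ f : End ℂ V, a.cj a r f = a.lin r * f * a.lin (r : Γ)⁻¹ := fun r f => by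
    ext; simp [a.lin_apply, hN' r r.2, hN' _ (inv_mem r.2)]
  have h2 : ∑ r : N, lr (a.lin r * x) (y * a.lin (r : Γ)⁻¹) =
      smulRight ((Nat.card N / finrank ℂ V : ℂ) • trace ℂ V ∘ₗ lr x y) 1 := LinearMap.ext fun f => by
    obtain ⟨c, hc⟩ := h.schur ((a.hom a).avg N (lr x y f))
      (fun r hr => (a.hom_fix a (hN hr)).1 (SR.avg_fix _ hN hr _)) hN'
    replace hc : (a.hom a).avg N (lr x y f) = c • 1 := LinearMap.ext hc
    have h3 := congrArg (trace ℂ V) hc
    rw [SR.avg, map_smul, map_sum, SR.avg_of (v := trace ℂ V (lr x y f)) fun r : N => by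
      simp [a.trace_cj (hN r.2), hN' r r.2]] at h3
    rw [SR.avg, inv_smul_eq_iff₀ (SR.cne N)] at hc
    simp only [SR.hom_apply, h1] at hc
    rw [LinearMap.sum_apply]
    refine hc.trans ?_
    simp [h3, smul_smul, h0, mul_comm c, ← mul_assoc]
  simp only [← trace_lr, ← map_sum]
  rw [h2, trace_smulRight]
  simp [show lr x y 1 = x * y from rfl, hxy, h0]

end H11.FS
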