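import Cfsg.Agent.H11.FS3

/-! Semilinear representations: a 2-local Brauer-Witt lemma. -/

set_option autoImplicit false
set_option linter.unusedSectionVars false

namespace H11.FS

open Module Submodule LinearMap MulAction
open scoped ComplexConjugate Classical

universe u

variable {Γ : Type u} [Group Γ] {σ : Γ →* (ℂ →+* ℂ)} {H K N L D : Subgroup Γ} {V W : Type} [AddCommGroup V]
  [Module ℂ V] [FiniteDimensional ℂ V] {x y k ζ b g : Γ}

/-- divisibility in the algebraic integers -/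
def Dv (n : ℕ) (x : ℂ) : Prop := ∃ y, IsIntegral ℤ y ∧ x = n * y

theorem Dv.zero {n : ℕ} : Dv n 0 := ⟨0, isIntegral_zero, by simp⟩

theorem Dv.add {n : ℕ} {x y : ℂ} : Dv n x → Dv n y → Dv n (x + y)
  | ⟨a, h1, h2⟩, ⟨b, h3, h4⟩ => ⟨a + b, h1.add h3, by rw [h2, h4, mul_add]⟩

theorem Dv.sum {n : ℕ} {ι : Type*} {s : Finset ι} {f : ι → ℂ} (h : ∀ i ∈ s, Dv n (f i)) : Dv n (∑ i ∈ s, f i) :=
  Finset.sum_induction f _ (fun _ _ => Dv.add) .zero h

theorem dvd_of_int {m n : ℤ} {y : ℂ} (hy : IsIntegral ℤ y) (h : (m : ℂ) = n * y) : n ∣ m := by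
  obtain rfl | hn := eq_or_ne n 0
  · simpa using h
  rw [show y = algebraMap ℚ ℂ (m / n) by simp [h, hn], isIntegral_algebraMap_iff (algebraMap ℚ ℂ).injective,
    IsIntegrallyClosed.isIntegral_iff] at hy
  obtain ⟨z, hz⟩ := hy
  exact ⟨z, by rw [eq_div_iff (by simpa), eq_intCast] at hz; exact_mod_cast hz.symm.trans (mul_comm _ _)⟩

theorem Dv.orb {G X : Type*} [Group G] [Finite G] [hX : Fintype X] [MulAction G X] (S : Subgroup G) (I : X → ℂ)
    (h1 : ∀ s ∈ S, ∀ x, I (s • x) = I x) (h2 : ∀ x : X, Dv (Nat.card ↥(S ⊓ stabilizer G x)) (I x)) :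
    Dv (Nat.card S) (∑ x, I x) := by
  rw [← Finset.sum_fiberwise .univ (Quotient.mk (orbitRel S X))]
  refine .sum fun q _ => ?_
  obtain ⟨x, rfl⟩ := q.exists_rep
  obtain ⟨y, h3, h4⟩ := h2 x
  refine ⟨y, h3, ?_⟩
  rw [Finset.sum_congr rfl (g := fun _ => I x) fun z hz => by
    obtain ⟨s, rfl⟩ := Quotient.exact (Finset.mem_filter.1 hz).2
    exact h1 _ s.2 x, Finset.sum_const, h4, ← (stabilizer S x).card_mul_index, index_stabilizer,
    ← Nat.card_congr (Subgroup.subgroupOfEquivOfLe (inf_le_left (b := stabilizer G x))).toEquiv,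
    Subgroup.inf_subgroupOf_left, ← Set.ncard_coe_finset, nsmul_eq_mul, Nat.cast_mul, mul_left_comm, mul_assoc]
  congr 4
  ext z; simp [Quotient.eq, orbitRel_apply]

theorem Dv.syl {G : Type*} [Group G] [Fintype G] (f : G → ℂ) (h0 : ∀ u, IsIntegral ℤ (f u))
    (h1 : ∀ g, (∀ u, f (g * u * g⁻¹) = f u) ∨ ∀ u, f (g * u⁻¹ * g⁻¹) = f u)
    (h2 : ∀ D : Subgroup G, IsPGroup 2 D → Dv (Nat.card D) (∑ u, if u ∈ D then f u else 0)) {S : Subgroup G}
    (hS : IsPGroup 2 S) : Dv (Nat.card S) (∑ u, if ∃ k, u ^ 2 ^ k = 1 then f u else 0) := by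
  have := Fintype.ofFinite (Sylow 2 G)
  have h3 := Dv.orb (X := Fin (Nat.card S).totient → Sylow 2 G) S (fun x => ∑ u, if ∀ i, u ∈ x i then f u else 0)
    (fun s _ x => by
      have c : ∀ (P : Sylow 2 G) u, s * u * s⁻¹ ∈ s • P ↔ u ∈ P := fun P u =>
        Subgroup.smul_mem_pointwise_smul_iff (a := MulAut.conj s) (S := P.1)
      obtain h | h := h1 s
      · exact (Fintype.sum_equiv (MulAut.conj s).toEquiv _ _ fun u => by simp [c, h]).symm
      · exact (Fintype.sum_equiv ((Equiv.inv G).trans (MulAut.conj s).toEquiv) _ _ fun u => by simp [c, h]).symm)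
    fun x => by
      have i : Fin (Nat.card S).totient := ⟨0, Nat.totient_pos.2 Nat.card_pos⟩
      obtain ⟨y, c1, c2⟩ := h2 (⨅ i, (x i).1) ((x i).2.to_le (iInf_le _ i))
      obtain ⟨t, c3⟩ := Subgroup.card_dvd_of_le (show S ⊓ stabilizer G x ≤ ⨅ i, (x i).1 from le_iInf fun i =>
        (hS.to_inf_left).sylow_mem_fixedPoints_iff.1 fun s => congrFun s.2.2 i)
      exact ⟨t * y, (isIntegral_natCast _).mul c1, by
        rw [← mul_assoc, ← Nat.cast_mul, ← c3, ← c2]; simp [Subgroup.mem_iInf]; rfl⟩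
  rw [Finset.sum_comm] at h3
  have h4 : ∀ u, Dv (Nat.card S) ((if ∃ k, u ^ 2 ^ k = 1 then f u else 0) -
      ∑ x : Fin (Nat.card S).totient → Sylow 2 G, if ∀ i, u ∈ x i then f u else 0) := fun u => by
    rw [show ∑ x : Fin (Nat.card S).totient → Sylow 2 G, (if ∀ i, u ∈ x i then f u else 0) =
      (Nat.card {P : Sylow 2 G // u ∈ P} ^ (Nat.card S).totient : ℕ) * f u by
        rw [← Finset.sum_filter, Finset.sum_const, nsmul_eq_mul, ← Fintype.card_subtype,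
          ← Nat.card_eq_fintype_card, Nat.card_congr (Equiv.subtypePiEquivPi (p := fun _ (P : Sylow 2 G) => u ∈ P))]
        simp]
    split_ifs with h
    · have c1 : IsPGroup 2 (Subgroup.zpowers u) := by
        rintro ⟨_, z, rfl⟩
        exact h.imp fun k e => Subtype.ext (by simp [← zpow_natCast, ← zpow_mul, mul_comm z]; simp [zpow_mul, -zpow_natCast, show u ^ (2 ^ k : ℤ) = 1 by exact_mod_cast e])
      have c2 := (c1.card_modEq_card_fixedPoints (Sylow 2 G)).symm.trans (card_sylow_modEq_one 2 G)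
      rw [Nat.card_congr (Equiv.subtypeEquivRight (q := fun P => u ∈ P) fun P => by
        simp [c1.sylow_mem_fixedPoints_iff]; rfl)] at c2
      obtain ⟨n, hn⟩ := hS.exists_card_eq
      obtain ⟨t, ht⟩ := (Nat.ModEq.pow_totient (x := Nat.card {P : Sylow 2 G // u ∈ P}) (n := Nat.card S)
        (hn ▸ (Nat.coprime_two_right.2 (Nat.odd_iff.2 c2)).pow_right n)).dvd
      refine ⟨t * f u, (isIntegral_intCast _).mul (h0 u), ?_⟩
      rw [← mul_assoc, ← one_sub_mul]; congr 1; exact_mod_cast ht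
    · have : IsEmpty {P : Sylow 2 G // u ∈ P} := ⟨fun P => h ((P.1.2 ⟨u, P.2⟩).imp fun k => congrArg Subtype.val)⟩
      simp [(Nat.totient_pos.2 Nat.card_pos).ne', Dv.zero]
  simpa using (Dv.sum (s := .univ) fun u _ => h4 u).add h3

/-- twisted conjugation -/
noncomputable def tw (σ : Γ →* (ℂ →+* ℂ)) (k g : Γ) : Γ := k * (if σ k = 1 then g else g⁻¹) * k⁻¹

theorem tw_inv : tw σ k g⁻¹ = (tw σ k g)⁻¹ := by unfold tw; split_ifs <;> simp [mul_assoc]

theorem tw_pow (n : ℕ) : tw σ k (g ^ n) = tw σ k g ^ n := by unfold tw; split_ifs <;> simp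

theorem tw_mul (h : Commute g b) : tw σ k (g * b) = tw σ k g * tw σ k b := by
  unfold tw; split_ifs
  · group
  · rw [h.eq]; group

theorem tw_tw (hσ : Sg σ) : tw σ (x * y) g = tw σ x (tw σ y g) := by
  by_cases h : σ x = 1 <;> by_cases h' : σ y = 1
  iterate 3 simp [tw, h, h', mul_assoc]
  simp [tw, h, h', mul_assoc, -map_mul, hσ.mul h h']

theorem tw_mem (hk : k ∈ H) (hg : g ∈ H ⊓ σ.ker) : tw σ k g ∈ H ⊓ σ.ker := by
  unfold tw; split_ifs
  exacts [⟨H.mul_mem (H.mul_mem hk hg.1) (H.inv_mem hk), sg_cj hg.2 k⟩,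
    ⟨H.mul_mem (H.mul_mem hk (H.inv_mem hg.1)) (H.inv_mem hk), sg_cj (sg_inv_one hg.2) k⟩]

theorem tw_one : tw σ 1 g = g := by simp [tw]

theorem tw_iff (hσ : Sg σ) (hk : k ∈ H) : tw σ k g ∈ H ⊓ σ.ker ↔ g ∈ H ⊓ σ.ker :=
  ⟨fun h => by simpa [← tw_tw hσ, tw_one] using tw_mem (inv_mem hk) h, tw_mem hk⟩

theorem tw_comm (h : σ k = 1) : tw σ k b = b ↔ Commute b k := by
  rw [tw, if_pos h, mul_inv_eq_iff_eq_mul, eq_comm]; rfl

/-- the group with the twisted conjugation action -/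
def Tw (_ : Sg σ) : Type u := Γ

noncomputable instance (hσ : Sg σ) : MulAction Γ (Tw hσ) where
  smul := tw σ
  one_smul _ := tw_one (Γ := Γ)
  mul_smul _ _ _ := tw_tw (Γ := Γ) hσ

theorem tw_bij (hσ : Sg σ) (k : Γ) : Function.Bijective (tw σ k) := MulAction.bijective (β := Tw hσ) k

/-- twisted centralizers -/
noncomputable def St (hσ : Sg σ) (b : Γ) : Subgroup Γ := stabilizer Γ (show Tw hσ from b)

variable [Fintype Γ]

theorem Dv.orb' (hσ : Sg σ) (S : Subgroup Γ) (I : Γ → ℂ) (h1 : ∀ s ∈ S, ∀ x, I (tw σ s x) = I x)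
    (h2 : ∀ x, Dv (Nat.card ↥(S ⊓ St hσ x)) (I x)) : Dv (Nat.card S) (∑ x, I x) :=
  @Dv.orb Γ (Tw hσ) _ _ (inferInstanceAs (Fintype Γ)) _ S I h1 h2

theorem card_two (hσ : Sg σ) (hk : k ∈ H) (hk' : σ k ≠ 1) : Nat.card H = Nat.card ↥(H ⊓ σ.ker) * 2 := by
  rw [← (σ.ker.subgroupOf H).card_mul_index, Subgroup.index_eq_two_iff.2 ⟨⟨k, hk⟩, fun b => ?_⟩,
    ← Subgroup.inf_subgroupOf_left, Nat.card_congr (Subgroup.subgroupOfEquivOfLe inf_le_left).toEquiv]
  by_cases h : σ b = 1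
  exacts [.inr ⟨h, by simpa [Subgroup.mem_subgroupOf, h]⟩, .inl ⟨hσ.mul h hk', h⟩]

theorem SR.lin_inv (a : SR σ K V) (hg : g ∈ K ⊓ σ.ker) : a.lin g⁻¹ * a.lin g = 1 := by
  rw [← a.lin_mul (inv_mem hg.1) hg.1 (sg_inv_one hg.2) hg.2]; simp

theorem SR.lin_card (a : SR σ K V) (hg : g ∈ K ⊓ σ.ker) : a.lin g ^ Fintype.card Γ = 1 := by
  rw [← a.lin_pow hg.1 hg.2]; simp

theorem SR.tw_tr (a : SR σ K V) (hσ : Sg σ) (hk : k ∈ K) (hg : g ∈ K ⊓ σ.ker) {p : End ℂ V} (hp : p * p = p)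
    (hc : Commute p (a.lin g)) : trace ℂ V (a.lin (tw σ k g) * a.cj a k p) = trace ℂ V (a.lin g * p) := by
  have h1 : ∀ g ∈ K ⊓ σ.ker, trace ℂ V (a.lin (k * g * k⁻¹) * a.cj a k p) = σ k (trace ℂ V (a.lin g * p)) :=
    fun g hg => by
      rw [← a.trace_cj hk]; congr 1; ext v
      simp [a.lin_apply hg.2, a.lin_apply (sg_cj hg.2 k), ← a.mul (mul_mem (mul_mem hk hg.1) (inv_mem hk)) hk,
        a.mul hk hg.1]
  unfold tw; split_ifs with h
  · simp [h1 g hg, h]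
  · simp [h1 _ (inv_mem hg), hσ.conj h, (trace_int Fintype.card_ne_zero (a.lin_card hg) hp hc (a.lin_inv hg)).2]

theorem SR.cj_one (a : SR σ K V) (hk : k ∈ K) : a.cj a k 1 = 1 := by ext; simp [a.inv_r hk]

theorem SR.avg_int (a : SR σ K V) (hD : D ≤ K ⊓ σ.ker) (hb : b ∈ K ⊓ σ.ker) (h : ∀ u ∈ D, Commute b u) {p : End ℂ V}
    (hp : p * p = p) (h1 : Commute p (a.lin b)) (h2 : ∀ u ∈ D, Commute p (a.lin u)) :
    Dv (Nat.card D) (∑ u : D, trace ℂ V (a.lin (b * u) * p) * trace ℂ V (a.lin (b * u)⁻¹)) := by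
  have h3 : ∀ u ∈ D, ∀ f : End ℂ V, a.hom a u f = lr (a.lin u) (a.lin u⁻¹) f := fun u hu f => by
    ext; simp [a.lin_apply (hD hu).2, a.lin_apply (hD (inv_mem hu)).2]
  have h4 : ∀ x ∈ K ⊓ σ.ker, ∀ y ∈ K ⊓ σ.ker, a.lin (x * y) = a.lin x * a.lin y := fun x c y d =>
    a.lin_mul c.1 d.1 c.2 d.2
  let E : End ℂ (End ℂ V) := (Nat.card D : ℂ)⁻¹ • ∑ u : D, lr (a.lin u) (a.lin (u : Γ)⁻¹)
  have h5 : ∀ f, E f = (a.hom a).avg D f := fun f => by simp [E, SR.avg, -SR.hom_apply, fun u : D => h3 u u.2]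
  have h6 : E * E = E := LinearMap.ext fun f => by
    rw [End.mul_apply, h5, h5]; exact SR.avg_of fun u => SR.avg_fix _ (hD.trans inf_le_left) u.2 _
  have h7 : ∀ x y : End ℂ V, (∀ u ∈ D, Commute x (a.lin u) ∧ Commute y (a.lin u)) → Commute (lr x y) E :=
    fun x y c => (Commute.sum_right _ _ _ fun u _ => by
      rw [Commute, SemiconjBy, lr_mul, lr_mul, (c u u.2).1.eq, (c _ (inv_mem u.2)).2.eq]).smul_right _
  have h8 := h7 p 1 fun u hu => ⟨h2 u hu, .one_left _⟩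
  refine ⟨_, (trace_int (x := lr (a.lin b) (a.lin b⁻¹)) (y := lr (a.lin b⁻¹) (a.lin b)) (p := lr p 1 * E)
    Fintype.card_ne_zero (by rw [lr_pow, a.lin_card hb, a.lin_card (inv_mem hb), lr_one])
    (by rw [mul_assoc, ← mul_assoc E, ← h8.eq, mul_assoc, h6, ← mul_assoc, lr_mul, hp, mul_one])
    (.mul_left (by rw [Commute, SemiconjBy, lr_mul, lr_mul, h1.eq, mul_one, one_mul]) (h7 _ _ fun u hu => ⟨by
      rw [Commute, SemiconjBy, ← h4 _ hb _ (hD hu), ← h4 _ (hD hu) _ hb, (h u hu).eq], by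
      rw [Commute, SemiconjBy, ← h4 _ (inv_mem hb) _ (hD hu), ← h4 _ (hD hu) _ (inv_mem hb), (h u hu).inv_left.eq]⟩).symm)
    (by rw [lr_mul, a.lin_inv hb, lr_one])).1, ?_⟩
  simp only [E, mul_smul_comm, map_smul, smul_eq_mul, Finset.mul_sum, map_sum, lr_mul, trace_lr, ← mul_assoc,
    mul_inv_cancel₀ (SR.cne D), one_mul, mul_one]
  exact Finset.sum_congr rfl fun u _ => by
    rw [h4 _ hb _ (hD u.2), mul_inv_rev, h4 _ (hD (inv_mem u.2)) _ (inv_mem hb), mul_assoc, mul_assoc, (h2 u u.2).eq]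

theorem sum_sub (f : Γ → ℂ) : ∑ u : H, f u = ∑ u, if u ∈ H then f u else 0 := by
  rw [← Finset.sum_filter]; exact (Finset.sum_subtype _ (by simp) f).symm

theorem ex_M : ∃ j, ∀ g : Γ, (g ^ 2 ^ (j + 1)) ^ 2 ^ (j + 1) = g ^ 2 ^ (j + 1) := by
  obtain ⟨e, m, h1, h2⟩ := Nat.exists_eq_two_pow_mul_odd (Fintype.card_ne_zero (α := Γ))
  obtain ⟨j, hj⟩ := Nat.exists_eq_add_one.2 (Nat.mul_pos (Nat.totient_pos.2 h1.pos) e.succ_pos)
  refine ⟨j, fun g => ?_⟩
  have h3 : 2 ^ e ∣ 2 ^ (j + 1) := pow_dvd_pow _ (by nlinarith [Nat.totient_pos.2 h1.pos])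
  rw [← pow_mul, pow_eq_pow_iff_modEq]
  refine .of_dvd orderOf_dvd_card (h2 ▸ (Nat.modEq_and_modEq_iff_modEq_mul
    ((Nat.coprime_two_left.2 h1).pow_left e)).1 ⟨(h3.mul_right _).modEq_zero_nat.trans h3.zero_modEq_nat, ?_⟩)
  simpa [← hj, pow_mul] using (((Nat.ModEq.pow_totient (Nat.coprime_two_left.2 h1)).pow (e + 1)).mul_left
    (2 ^ (j + 1)))

theorem brauer (hσ : Sg σ) (h : ∀ b ∈ K ⊓ σ.ker, (∃ j, b ^ 2 ^ (j + 1) = b) → ∀ D ≤ K, IsPGroup 2 D → (∀ k ∈ D, tw σ k b = b) →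
    (∃ k ∈ D, σ k ≠ 1) → ∃ H ≤ K, D ≤ H ∧ TT σ ζ H ∧ (b ∈ H ∨ ∀ y ∈ K ⊓ σ.ker, Commute b y)) : TT σ ζ K := by
  rintro V _ _ _ a ⟨k, k1, k2⟩ hζ hs
  let F : Γ → ℂ := fun g => trace ℂ V (a.lin g) * trace ℂ V (a.lin g⁻¹)
  have f1 : ∀ k ∈ K, ∀ g ∈ K ⊓ σ.ker, F (tw σ k g) = F g := fun k hk g hg => by
    have := fun g hg => a.tw_tr (g := g) hσ hk hg (mul_one 1) (.one_left _)
    simp only [a.cj_one hk, mul_one] at this
    simp only [F, ← tw_inv, this _ hg, this _ (inv_mem hg)]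
  have f2 : ∀ b ∈ K ⊓ σ.ker, (∃ j, b ^ 2 ^ (j + 1) = b) → ∀ D ≤ K, IsPGroup 2 D → (∀ k ∈ D, tw σ k b = b) →
      Dv (Nat.card D) (∑ u : ↥(D ⊓ σ.ker), F (b * u)) := fun b hb ho D hD hD' hb' => by
    have c0 : D ⊓ σ.ker ≤ K ⊓ σ.ker := inf_le_inf_right _ hD
    have c1 : ∀ u ∈ D ⊓ σ.ker, Commute b u := fun u hu => (tw_comm hu.2).1 (hb' u hu.1)
    by_cases e : ∃ k ∈ D, σ k ≠ 1
    · obtain ⟨H, c2, c3, c4, c5⟩ := h b hb ho D hD hD' hb' e
      obtain ⟨k, k1, k2⟩ := e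
      obtain ⟨p, p1, p2, p3⟩ := c4.hyp hσ (a.res c2) (c3 k1) k2 hζ
      replace p2 : ∀ x ∈ H, σ x = 1 → Commute p (a.lin x) := fun x c d => LinearMap.ext fun v => by
        simpa [a.lin_apply d] using p2 x c d v
      have p4 : Commute p (a.lin b) := c5.elim (fun c => p2 b c hb.2) fun c => by
        obtain ⟨t, ht⟩ := hs.schur (a.lin b) (fun y hy v => by
          simp only [a.lin_apply hb.2, ← a.mul hb.1 hy.1, ← a.mul hy.1 hb.1, (c y hy).eq]) fun _ h => h.2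
        exact LinearMap.ext fun v => by simp [ht]
      obtain ⟨y, y1, y2⟩ := a.avg_int c0 hb c1 p1 p4 fun u hu => p2 u (c3 hu.1) hu.2
      refine ⟨y, y1, ?_⟩
      rw [card_two hσ k1 k2, Nat.cast_mul, mul_right_comm, ← y2, Nat.cast_two, mul_two]
      nth_rw 2 [Fintype.sum_bijective (fun u : ↥(D ⊓ σ.ker) => (⟨_, tw_mem k1 u.2⟩ : ↥(D ⊓ σ.ker)))
        (Finite.injective_iff_bijective.1 fun u v e => Subtype.ext ((tw_bij hσ k).1 (congrArg Subtype.val e))) (fun u => trace ℂ V (a.lin (b * u) * p) * trace ℂ V (a.lin (b * u)⁻¹))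
        (fun u => trace ℂ V (a.lin (b * u) * a.cj a k p) * trace ℂ V (a.lin (b * u)⁻¹)) fun u => ?_]
      · simp only [← Finset.sum_add_distrib, ← add_mul, ← map_add, ← mul_add, show p + a.cj a k p = 1 from p3, mul_one, F]
      · have c6 := mul_mem hb (c0 u.2)
        have := a.tw_tr hσ (hD k1) (inv_mem c6) (mul_one 1) (.one_left _)
        rw [a.cj_one (hD k1), mul_one, mul_one] at this
        nth_rw 3 4 [← hb' k k1]
        rw [← tw_mul (c1 u u.2), ← tw_inv, this, a.tw_tr hσ (hD k1) c6 p1]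
        rw [a.lin_mul hb.1 (c0 u.2).1 hb.2 u.2.2]
        exact p4.mul_right (p2 u (c3 u.2.1) u.2.2)
    · rw [show Nat.card D = Nat.card ↥(D ⊓ σ.ker) by rw [inf_eq_left.2 fun k hk => by_contra fun c => e ⟨k, hk, c⟩]]
      simpa [F] using a.avg_int c0 hb c1 (mul_one 1) (.one_left _) fun _ _ => .one_left _
  obtain ⟨j, hj⟩ := ex_M (Γ := Γ)
  obtain ⟨P⟩ : Nonempty (Sylow 2 K) := inferInstance
  have f3 := Dv.orb' hσ (P.1.map K.subtype)
    (fun b => ∑ g, if g ∈ K ⊓ σ.ker ∧ g ^ 2 ^ (j + 1) = b then F g else 0) (by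
      rintro _ ⟨s, -, rfl⟩ b
      refine (Fintype.sum_bijective (tw σ s) (tw_bij hσ _) _ _ fun g => ?_).symm
      rw [tw_iff hσ s.2, ← tw_pow]
      exact if_ctx_congr (and_congr_right' (tw_bij hσ _).1.eq_iff.symm)
        (fun c => (f1 _ s.2 _ c.1).symm) fun _ => rfl) fun b => by
    by_cases e : ∃ g ∈ K ⊓ σ.ker, g ^ 2 ^ (j + 1) = b
    swap
    · rw [Finset.sum_eq_zero fun g _ => if_neg fun c => e ⟨g, c⟩]; exact .zero
    obtain ⟨g, c1, c2⟩ := e
    have hb : b ∈ K ⊓ σ.ker := c2 ▸ pow_mem c1 _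
    have c3 : b ^ 2 ^ (j + 1) = b := c2 ▸ hj g
    let Kb := K ⊓ St hσ b
    let f : Γ → ℂ := fun u => if σ u = 1 then F (b * u) else 0
    have c5 : ∀ g ∈ Kb, ∀ u ∈ Kb, f (tw σ g u) = f u := fun g c u d =>
      if_ctx_congr (by simpa using tw_iff (H := ⊤) (g := u) hσ trivial) (fun e => by
        rw [← f1 g c.1 _ (mul_mem hb ⟨d.1, e⟩), tw_mul ((tw_comm e).1 d.2), show tw σ g b = b from c.2]) fun _ => rfl
    have c6 := Dv.syl (G := Kb) (fun u => f u) (fun u => by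
        simp only [f]; split_ifs with e
        · have := fun g hg => (trace_int Fintype.card_ne_zero (a.lin_card (g := g) hg) (mul_one 1) (.one_left _)
            (a.lin_inv hg)).1
          simp only [mul_one] at this
          exact (this _ (mul_mem hb ⟨u.2.1, e⟩)).mul (this _ (inv_mem (mul_mem hb ⟨u.2.1, e⟩)))
        · exact isIntegral_zero)
      (fun g => (em (σ g = 1)).imp (fun e u => by simpa [tw, e] using c5 _ g.2 _ u.2)
        fun e u => by simpa [tw, e] using c5 _ g.2 _ u.2)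
      (fun D hD => by
        have := f2 b hb ⟨j, c3⟩ (D.map Kb.subtype) ((Subgroup.map_subtype_le D).trans inf_le_left) (hD.map _)
          fun k hk => (Subgroup.map_subtype_le D hk).2
        rw [Subgroup.card_subtype, sum_sub fun u => F (b * u)] at this
        convert this using 1
        refine (Finset.sum_congr rfl fun u _ => ?_).trans ((sum_sub (H := Kb) fun u => if u ∈ D.map Kb.subtype then f u else 0).trans
          (Finset.sum_congr rfl fun u _ => ?_))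
        · simp
        · by_cases e : u ∈ D.map Kb.subtype <;> simp [e, f, fun e => Subgroup.map_subtype_le D (x := u) e])
      (S := (P.1.map K.subtype ⊓ St hσ b).subgroupOf Kb)
      (((P.2.map _).to_inf_left).comap_subtype)
    rw [Nat.card_congr (Subgroup.subgroupOfEquivOfLe (inf_le_inf_right _ (Subgroup.map_subtype_le _))).toEquiv] at c6
    convert c6 using 1
    refine .symm ((Finset.sum_congr rfl fun u _ => ?_).trans ((sum_sub (H := Kb) fun u => if ∃ k, u ^ 2 ^ k = 1 then f u else 0).trans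
      (Fintype.sum_equiv (.mulLeft b) _ _ fun u => ?_)))
    · simp [Subtype.ext_iff]
    · simp only [f, ← ite_and, Equiv.coe_mulLeft]
      refine if_congr ⟨fun ⟨d1, ⟨n, d2⟩, d3⟩ => ⟨mul_mem hb ⟨d1.1, d3⟩, ?_⟩, fun ⟨d1, d2⟩ => ?_⟩ rfl rfl
      · have d4 := Function.iterate_fixed (f := (· ^ 2 ^ (j + 1))) (hj u) n
        rw [pow_iterate, ← pow_mul 2, add_mul, one_mul, pow_add] at d4
        rw [((tw_comm d3).1 d1.2).mul_pow, c3, ← d4]
        simp only [← pow_mul, ← mul_assoc]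
        rw [mul_comm _ (2 ^ n), pow_mul, d2, one_pow, mul_one]
      · have d3 := (mul_mem_cancel_left hb).1 d1
        have d4 : Commute b u := inv_mul_cancel_left b u ▸ (Commute.refl b).inv_right.mul_right
          (by simpa only [d2] using Commute.pow_self (b * u) (2 ^ (j + 1)))
        exact ⟨⟨d3.1, (tw_comm d3.2).2 d4⟩, ⟨j + 1, by simpa [d4.mul_pow, c3] using d2⟩, d3.2⟩
  obtain ⟨y, y1, y2⟩ := f3
  rw [Finset.sum_comm, Subgroup.card_subtype] at y2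
  simp only [ite_and, Finset.sum_ite_irrel, Finset.sum_ite_eq, Finset.mem_univ, if_true, Finset.sum_const_zero, ← sum_sub] at y2
  have f4 := hs.sum inf_le_left (fun _ h => h.2) (mul_one 1)
  simp only [mul_one, one_mul] at f4
  refine P.not_dvd_index (Int.natCast_dvd_natCast.1 (dvd_of_int y1 (mul_left_cancel₀ (SR.cne P.1) ?_)))
  rw [mul_left_comm, ← y2, f4]; exact_mod_cast P.1.card_mul_index.trans ((card_two hσ k1 k2).trans (mul_comm _ _))

end H11.FS
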