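import Cfsg.Agent.H11.FS4

/-! Semilinear representations: extension of Heisenberg representations. -/

set_option autoImplicit false
set_option linter.unusedSectionVars false

namespace H11.FS

open Module Submodule LinearMap
open scoped ComplexConjugate Classical

universe u

variable {Γ : Type u} [Group Γ] {σ : Γ →* (ℂ →+* ℂ)} {H K N L : Subgroup Γ} {V W : Type} [AddCommGroup V]
  [Module ℂ V] [FiniteDimensional ℂ V] [AddCommGroup W] [Module ℂ W] [FiniteDimensional ℂ W] {x y k ζ z : Γ}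
  {b : SR σ N W} {T T' : W →+ W}

/-- intertwining operators -/
structure It (b : SR σ N W) (k : Γ) (T : W →+ W) : Prop where
  sl : SL (σ k) T
  ne : T ≠ 0
  mem : ∀ r ∈ N, k * r * k⁻¹ ∈ N
  it : ∀ r ∈ N, ∀ v, T (b r v) = b (k * r * k⁻¹) (T v)

theorem It.inj (hb : b.Simp N) (h : It b k T) : Function.Injective T := (injective_iff_map_eq_zero T).2 fun v hv =>
  ((hb.2 ⟨T.ker.toAddSubmonoid, fun c v (hv : T v = 0) => show T _ = 0 by simp [h.sl _, hv]⟩
    fun r hr v (hv : T v = 0) => show T _ = 0 by simp [h.it r hr, hv]).resolve_right fun e =>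
      h.ne (AddMonoidHom.ext fun v => e.ge (mem_top (x := v)))).le hv

theorem It.comp (hb : b.Simp N) (h : It b x T) (h' : It b y T') : It b (x * y) (T.comp T') :=
  ⟨fun c v => by simp [h.sl _, h'.sl _], fun e => h'.ne (AddMonoidHom.ext fun v => h.inj hb (by simpa using congr($e v))),
    fun r hr => by simpa [mul_assoc] using h.mem _ (h'.mem r hr),
    fun r hr v => by rw [T.comp_apply, h'.it r hr, h.it _ (h'.mem r hr)]; simp [mul_assoc]⟩

theorem It.smul (h : It b k T) (hN : N ≤ σ.ker) {c : ℂ} (hc : c ≠ 0) : It b k (c • T) :=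
  ⟨fun d v => by simp [h.sl _, smul_comm c], smul_ne_zero hc h.ne, h.mem,
    fun r hr v => by simp [h.it r hr, b.sm, show σ _ = 1 from hN (h.mem r hr)]⟩

theorem It.scal (hb : b.Simp N) (hN : N ≤ σ.ker) (h : It b k T) (h1 : σ k = 1) (h2 : ∀ r ∈ N, Commute k r) :
    ∃ c : ℂ, c ≠ 0 ∧ T = c • .id W := by
  have h3 := ln_apply (T := T) fun c v => by simp [h.sl c, h1]
  obtain ⟨c, hc⟩ := hb.schur (ln T) (fun r hr v => by simp [h3, h.it r hr, (h2 r hr).eq]) hN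
  exact ⟨c, fun e => h.ne (by ext; simp [← h3, hc, e]), by ext; simp [← h3, hc]⟩

theorem It.inv (hb : b.Simp N) (hN : N ≤ σ.ker) (h : It b k T) (h' : It b k⁻¹ T') :
    ∃ S, It b k⁻¹ S ∧ (∀ v, S (T v) = v) ∧ ∀ v, T (S v) = v := by
  obtain ⟨c, c1, c2⟩ := (h'.comp hb h).scal hb hN (by simp [← map_mul]) (by simp)
  have h1 : ∀ v, (c⁻¹ • T') (T v) = v := fun v => by simp [show T' (T v) = c • v from congr($c2 v), c1]
  exact ⟨_, h'.smul hN (inv_ne_zero c1), h1, fun v => (h'.smul hN (inv_ne_zero c1)).inj hb (h1 _)⟩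

theorem It.uniq (hb : b.Simp N) (hN : N ≤ σ.ker) (h : It b k T) (h' : It b k T') {S} (h1 : It b k⁻¹ S) :
    ∃ c : ℂ, c ≠ 0 ∧ T' = c • T := by
  obtain ⟨S, s1, s2, -⟩ := h.inv hb hN h1
  obtain ⟨c, c1, c2⟩ := (h'.comp hb s1).scal hb hN (by simp [← map_mul]) (by simp)
  exact ⟨c, c1, by ext v; simpa [s2] using congr($c2 (T v))⟩

theorem SR.cjm (a : SR σ K V) (hk : k ∈ K) (hx : x ∈ K) (v : V) : a k (a x v) = a (k * x * k⁻¹) (a k v) := by
  rw [← a.mul hk hx, ← a.mul (mul_mem (mul_mem hk hx) (inv_mem hk)) hk, inv_mul_cancel_right]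

variable [Fintype Γ]

theorem It.ex (a : SR σ K V) (hN : N ≤ K ⊓ σ.ker) (hn : ∀ k ∈ K, ∀ n ∈ N, k * n * k⁻¹ ∈ N)
    (h1 : ∀ x ∈ N, (∃ t : ℂ, ∀ v, a x v = t • v) ∨ ∃ y ∈ N, ∃ t : ℂ, t ≠ 1 ∧ ∀ v, a (y * x * y⁻¹) v = t • a x v)
    {p : Submodule ℂ V} (hp : (a.res (hN.trans inf_le_left)).Inv N p) (h0 : p ≠ ⊥) (hk : k ∈ K) :
    ∃ T, It ((a.res (hN.trans inf_le_left)).sub p hp) k T := by
  obtain ⟨e, e1, e2, e3⟩ := (a.res (hN.trans inf_le_left)).maschke hp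
  simp only [SR.res_apply] at e3
  have l1 : ∀ r ∈ N, ∀ v, a.lin r v = a r v := fun r hr => a.lin_apply (hN hr).2
  have e4 : ∀ r ∈ N, ∀ v, a.cj a k e (a r v) = a r (a.cj a k e v) := fun r hr v => by
    have := hn _ (inv_mem hk) r hr
    rw [a.cj_apply, a.cj_apply, a.cjm (inv_mem hk) (hN hr).1, e3 _ this, a.cjm hk (hN this).1]
    simp [mul_assoc]
  have e5 : trace ℂ V e ≠ 0 := by
    rw [trace_idem (LinearMap.ext fun v => e2 _ (e1 v)), Nat.cast_ne_zero, Ne, Submodule.finrank_eq_zero]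
    exact fun c => h0 (eq_bot_iff.2 fun v hv => c.le ⟨v, e2 v hv⟩)
  have e6 : ∑ r : N, lr (a.lin r * e) (a.cj a k e * a.lin (r : Γ)⁻¹) ≠ 0 := fun c => by
    apply_fun trace ℂ _ at c
    rw [map_sum, Finset.sum_congr rfl (g := fun r : N => if ∃ t : ℂ, ∀ v, a r v = t • v then
      trace ℂ V e * σ k (trace ℂ V e) else 0) fun r _ => ?_, ← Finset.sum_filter, Finset.sum_const, map_zero] at c
    · simp only [smul_eq_zero, Finset.card_eq_zero, mul_eq_zero, _root_.map_eq_zero, e5, or_false] at c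
      exact Finset.ne_empty_of_mem (a := 1) (by simpa using ⟨1, by simp⟩) c
    rw [trace_lr]
    split_ifs with d
    · obtain ⟨t, ht⟩ := d
      rw [show a.lin r * e = t • e by ext; simp [l1 _ r.2, ht], map_smul, smul_eq_mul, mul_comm t, mul_assoc,
        ← smul_eq_mul t, ← map_smul, ← a.trace_cj hk]
      congr 2; ext v
      simp [l1 _ (inv_mem r.2), ← ht, ← e4 _ r.2, a.inv_r (hN r.2).1, -SR.cj_apply]
    · obtain ⟨y, y1, t, y2, y3⟩ := (h1 r r.2).resolve_left d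
      have := a.trace_cj (hN y1).1 (a.lin r * e)
      rw [show a.cj a y (a.lin r * e) = t • (a.lin r * e) by
        ext v; simp [l1 _ r.2, ← y3, e3 _ (inv_mem y1), a.cjm (hN y1).1 (hN r.2).1, a.inv_r (hN y1).1], map_smul,
        show σ y = 1 from (hN y1).2, smul_eq_mul, RingHom.coe_one, id_eq, ← sub_eq_zero, ← sub_one_mul] at this
      simp [(mul_eq_zero.1 this).resolve_left (sub_ne_zero.2 y2)]
  obtain ⟨f, hf⟩ := DFunLike.ne_iff.1 e6
  let g := (a.hom a).avg N (e * f * a.cj a k e)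
  have g1 : ∀ r ∈ N, ∀ v, g (a r v) = a r (g v) := fun r hr =>
    (a.hom_fix a (hN hr).1).1 (SR.avg_fix _ (hN.trans inf_le_left) hr _)
  have g2 : ∀ v, g v ∈ p := fun v => by
    rw [SR.avg_hom]; exact p.smul_mem _ (sum_mem fun r _ => hp _ r.2 _ (e1 _))
  have g3 := rs_apply (T := (g : V →+ V).comp (a k)) (p := p) fun v _ => g2 _
  refine ⟨rs ((g : V →+ V).comp (a k)) p, SL.rs (fun c v => by simp [a.sm]) p, fun c => hf (LinearMap.ext fun v => ?_),
    hn k hk, fun r hr v => Subtype.ext ?_⟩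
  · have : g (a.cj a k e v) = 0 := by simpa [c] using (g3 ⟨_, e1 (a k⁻¹ v)⟩).symm
    rw [SR.avg_hom, smul_eq_zero_iff_right (inv_ne_zero (SR.cne N))] at this
    simpa [fun r : N => l1 _ r.2, fun r : N => l1 _ (inv_mem r.2), fun r : N => e4 _ (inv_mem r.2),
      show ∀ v, a.cj a k e (a.cj a k e v) = a.cj a k e v from fun v => by simp [a.inv_l hk, e2 _ (e1 _)],
      -SR.cj_apply] using this
  · simp [g3, SR.sub_apply _ _ hr, SR.sub_apply _ _ (hn k hk r hr), ← g1 _ (hn k hk r hr), a.cjm hk (hN hr).1]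

theorem It.ext (hσ : Sg σ) (hb : b.Simp N) (hN : N ≤ σ.ker) (h : ∀ k ∈ K, ∃ T, It b k T) (hL : L ≤ K)
    (hz : z ∈ K ⊓ σ.ker) (hz' : ∀ l ∈ L, tw σ l z = z)
    (h2 : ∀ r ∈ N, ∃ s ∈ N, ∃ t : ℂ, ∀ v, b r v = t • b (s * (z * s⁻¹ * z⁻¹)) v) :
    ∃ ω : SR σ L W, (∀ l ∈ L, It b l (ω l)) ∧ ∀ l ∈ L, σ l = 1 → (∀ r ∈ N, Commute l r) → ∀ v, ω l v = v := by
  have := hb.1
  choose! T hT using h
  have l1 : ∀ r ∈ N, ∀ v, b.lin r v = b r v := fun r hr => b.lin_apply (hN hr)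
  have n0 : Fintype.card Γ ≠ 0 := Fintype.card_ne_zero
  have p1 : ∀ X : End ℂ W, It b z X → ∀ m, It b (z ^ m) ↑(X ^ m) := fun X hX m => by
    induction m with
    | zero => exact ⟨by simp [SL], fun e => (exists_ne (0 : W)).elim fun v c => c congr($e v), by simp, by simp⟩
    | succ m ih => rw [pow_succ, pow_succ]; exact ih.comp hb hX
  obtain ⟨X, x1, x2⟩ : ∃ X : End ℂ W, It b z X ∧ X ^ Fintype.card Γ = 1 := by
    have x1 : It b z (ln (T z)) := by
      convert hT z hz.1; exact AddMonoidHom.ext (ln_apply fun c v => by simp [(hT z hz.1).sl c, show σ z = 1 from hz.2])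
    obtain ⟨c, c1, c2⟩ := (p1 _ x1 (Fintype.card Γ)).scal hb hN (by simp) (by simp)
    obtain ⟨d, rfl⟩ := IsAlgClosed.exists_pow_nat_eq c (Nat.pos_of_ne_zero n0)
    refine ⟨d⁻¹ • ln (T z), x1.smul hN (inv_ne_zero fun e => c1 (by simp [e])), LinearMap.ext fun v => ?_⟩
    simp [smul_pow, show (ln (T z) ^ Fintype.card Γ) v = _ from congr($c2 v), c1]
  obtain ⟨Y, y1, y2, y3⟩ : ∃ Y : End ℂ W, It b z⁻¹ Y ∧ X * Y = 1 ∧ Y * X = 1 := ⟨X ^ (Fintype.card Γ - 1), by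
    simpa [pow_sub _ Fintype.card_pos] using p1 X x1 (Fintype.card Γ - 1), by rw [mul_pow_sub_one n0, x2],
    by rw [pow_sub_one_mul n0, x2]⟩
  have t1 : trace ℂ W X * trace ℂ W Y = 1 := by
    have := hb.sum le_rfl hN y2
    rw [Finset.sum_congr rfl (g := fun _ => trace ℂ W X * trace ℂ W Y) fun r _ => ?_] at this
    · exact mul_left_cancel₀ (SR.cne N) (by simpa using this)
    obtain ⟨s, s1, t, s2⟩ := h2 r r.2
    have c1 : b.lin r * X = t • (b.lin s * X * b.lin s⁻¹) := by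
      ext v
      simp [l1 _ r.2, l1 _ s1, l1 _ (inv_mem s1), s2, b.mul s1 (x1.mem _ (inv_mem s1)),
        show X _ = _ from x1.it _ (inv_mem s1) v]
    have c2 : b.lin s⁻¹ * b.lin s = 1 := b.lin_inv ⟨s1, hN s1⟩
    have c3 : t • (Y * b.lin (r : Γ)⁻¹) = b.lin s * Y * b.lin s⁻¹ := by
      have c4 : b.lin s * Y * b.lin s⁻¹ * (b.lin s * X * b.lin s⁻¹) = 1 := by
        rw [mul_assoc _ X, mul_assoc _ _ (_ * _), ← mul_assoc _ _ (X * _), c2, one_mul, mul_assoc, ← mul_assoc Y, y3,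
          one_mul, mul_eq_one_comm.1 c2]
      rw [← one_mul (t • _), ← c4, mul_assoc, mul_smul_comm, ← smul_mul_assoc, ← c1, mul_assoc (b.lin r), ← mul_assoc X,
        y2, one_mul, mul_eq_one_comm.1 (b.lin_inv ⟨r.2, hN r.2⟩), mul_one]
    rw [c1, map_smul, smul_eq_mul, mul_comm t, mul_assoc, ← smul_eq_mul t, ← map_smul, c3, trace_mul_cycle, c2,
      trace_mul_cycle _ _ Y, c2, one_mul, one_mul]
  obtain ⟨w, w1, w2⟩ := trace_eig n0 x2
  obtain ⟨m, m1, m2, m3⟩ := w2 1 (mul_one 1) (.one_left _)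
  obtain ⟨e, he⟩ : ∃ e : Fin (Fintype.card Γ) → ℤ, ∑ i, e i * m i = 1 := by
    rw [← Ideal.mem_span_range_iff_exists_fun]
    obtain ⟨d, hd⟩ := (IsPrincipalIdealRing.principal (Ideal.span (.range fun i : Fin (Fintype.card Γ) => (m i : ℤ)))).1
    have c1 := fun i : Fin (Fintype.card Γ) => Ideal.mem_span_singleton.1 (hd.le (Ideal.subset_span ⟨i, rfl⟩))
    choose q hq using c1
    rw [hd]
    refine Ideal.mem_span_singleton.2 ((dvd_mul_right d d).trans (dvd_of_int (y := (∑ i : Fin _, w i * q i) *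
      ∑ i : Fin _, (w i)⁻¹ * q i) (.mul (.sum _ fun i _ => (int_root n0 (w1 i)).mul (isIntegral_intCast _))
        (.sum _ fun i _ => (int_root n0 (by rw [inv_pow, w1, inv_one])).mul (isIntegral_intCast _))) ?_))
    have c2 : ∀ i : Fin _, (m i : ℂ) = d * q i := fun i => by exact_mod_cast hq i
    rw [Int.cast_one, ← t1, ← mul_one X, ← mul_one Y, m1, m2 Y y3, Int.cast_mul, mul_mul_mul_comm]
    simp only [Finset.sum_range, c2, Finset.mul_sum, mul_left_comm]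
  have pr : ∀ l ∈ L, ∀ S, It b l S → ∀ i, ∀ v ∈ X.eigenspace (w i), S v ∈ X.eigenspace (w i) := fun l hl S hS i v hv => by
    obtain ⟨S', s1, s2, s3⟩ := hS.inv hb hN (hT _ (inv_mem (hL hl)))
    have c1 : It b (z * l) (S.comp ↑(if σ l = 1 then X else Y)) := by
      rw [← hz' l hl, tw, inv_mul_cancel_right]; split_ifs; exacts [hS.comp hb x1, hS.comp hb y1]
    obtain ⟨c, -, c2⟩ := (x1.comp hb hS).uniq hb hN c1 (hT _ (inv_mem (mul_mem hz.1 (hL hl))))
    have c3 := trace_semi hS.sl s1.sl s2 (f := if σ l = 1 then X else Y) (g := c • X) fun v => by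
      simpa [s3] using congr($c2 (S' v)).symm
    have c4 := (trace_int n0 x2 (mul_one 1) (.one_left _) y3).2
    obtain rfl : c = 1 := by
      refine mul_right_cancel₀ (left_ne_zero_of_mul_eq_one t1) (((map_smul _ c X).symm.trans c3).trans ?_)
      split_ifs with d
      · simp [d]
      · simpa [hσ.conj d] using congr(conj $c4)
    rw [End.mem_eigenspace_iff] at hv ⊢
    rw [show X (S v) = S ((if σ l = 1 then X else Y) v) by simpa using congr($c2 v).symm]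
    have c5 := Complex.norm_eq_one_of_pow_eq_one (w1 i) n0
    split_ifs with d
    · simp [hv, hS.sl _, d]
    · rw [show Y v = (w i)⁻¹ • v by
        rw [eq_inv_smul_iff₀ (by rintro e; simp [e] at c5), ← map_smul, ← hv, ← End.mul_apply, y3, End.one_apply]]
      simp [hS.sl _, hσ.conj d, Complex.inv_eq_conj c5]
  let χ : Γ → (W →+ W) → ℂ := fun l S => ∏ i : Fin _, sd σ l (rs S (X.eigenspace (w i))) ^ e i
  have χ1 : ∀ x ∈ L, ∀ y ∈ L, ∀ S S', It b x S → It b y S' → χ (x * y) (S.comp S') = χ x S * σ x (χ y S') :=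
    fun x hx y hy S S' c d => by
      simp only [χ, map_prod, map_zpow₀, ← Finset.prod_mul_distrib, ← mul_zpow, ← sd_mul (c.sl.rs _) (d.sl.rs _)]
      congr! 3 with i
      ext; simp [rs_apply (pr _ hx _ c i), rs_apply (pr _ hy _ d i), rs_apply (pr _ (mul_mem hx hy) _ (c.comp hb d) i)]
  have χ2 : ∀ x ∈ L, ∀ S, It b x S → ∀ c : ℂ, c ≠ 0 → (χ x (c • S))⁻¹ • c • S = (χ x S)⁻¹ • S := fun x hx S d c hc => by
    have : χ x (c • S) = c * χ x S := by
      have c1 : ∀ s : Finset (Fin _), c ^ ∑ i ∈ s, e i * m i = ∏ i ∈ s, (c ^ m i) ^ e i := fun s => by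
        induction s using Finset.induction with
        | empty => simp
        | insert i s h ih => rw [Finset.sum_insert h, Finset.prod_insert h, zpow_add₀ hc, ih, mul_comm (e i), zpow_mul,
            zpow_natCast]
      nth_rw 2 [← zpow_one c]
      rw [← he, c1]
      simp only [χ, ← Finset.prod_mul_distrib, ← mul_zpow, m3 rfl, ← sd_smul (d.sl.rs _)]
      congr! 3 with i
      ext; simp [rs_apply (pr _ hx _ d i), rs_apply (pr _ hx _ (d.smul hN hc) i)]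
    simp [this, smul_smul, hc, mul_assoc]
  have χ3 : ∀ x, σ x = 1 → χ x (.id W) = 1 := fun x hx => Finset.prod_eq_one fun i _ => by
    rw [show rs (.id W) _ = .id _ by ext; simp [rs_apply], sd_id hx, one_zpow]
  have χ4 : ∀ x ∈ L, ∀ S, It b x S → (χ x (T x))⁻¹ • T x = (χ x S)⁻¹ • S := fun x hx S d => by
    obtain ⟨c, c1, rfl⟩ := (hT x (hL hx)).uniq hb hN d (hT _ (inv_mem (hL hx)))
    exact (χ2 x hx _ (hT x (hL hx)) c c1).symm
  have χ5 : ∀ l ∈ L, σ l = 1 → (∀ r ∈ N, Commute l r) → ∀ v, ((χ l (T l))⁻¹ • T l) v = v := fun l hl c d v => by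
    rw [χ4 l hl (.id W) ⟨by simp [SL, c], (p1 X x1 0).ne, (hT l (hL hl)).mem, fun r hr => by simp [(d r hr).eq]⟩, χ3 l c]
    simp
  refine ⟨⟨fun l => if l ∈ L then (χ l (T l))⁻¹ • T l else 0, by simpa using χ5 1 L.one_mem (by simp) (by simp),
    fun {x y} hx hy v => ?_, fun x c v => ?_⟩, fun l hl => ?_, by simpa +contextual using χ5⟩
  · rw [if_pos hx, if_pos hy, if_pos (mul_mem hx hy), χ4 _ (mul_mem hx hy) _ ((hT x (hL hx)).comp hb (hT y (hL hy))),
      χ1 x hx y hy _ _ (hT x (hL hx)) (hT y (hL hy)), mul_comm]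
    simp [(hT x (hL hx)).sl _, smul_smul]
  · split_ifs with hx
    · simp [(hT x (hL hx)).sl _, smul_comm (σ x c)]
    · simp
  · obtain ⟨S, s1, -, s2⟩ := (hT l (hL hl)).inv hb hN (hT _ (inv_mem (hL hl)))
    have := χ1 l hl _ (inv_mem hl) _ _ (hT l (hL hl)) s1
    rw [show (T l).comp S = .id W from AddMonoidHom.ext s2, χ3 _ (by simp [← map_mul])] at this
    simpa [hl] using (hT l (hL hl)).smul hN (inv_ne_zero (left_ne_zero_of_mul_eq_one this.symm))

theorem weil (hσ : Sg σ) (a : SR σ K V) (hs : a.Simp (K ⊓ σ.ker)) (hk : ∃ k ∈ K, σ k ≠ 1) (hζ : ∀ v, a ζ v = -v)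
    (hN : N ≤ K ⊓ σ.ker) (hn : ∀ k ∈ K, ∀ n ∈ N, k * n * k⁻¹ ∈ N) (hL : L ≤ K)
    (hKL : ∀ x ∈ K, ∃ n ∈ N, ∃ l ∈ L, x = n * l) (hζL : ζ ∈ L ⊓ σ.ker) (hζN : ∀ n ∈ N, Commute ζ n)
    (hz : z ∈ K ⊓ σ.ker) (hz' : ∀ l ∈ L, tw σ l z = z)
    (h1 : ∀ x ∈ N, (∃ t : ℂ, ∀ v, a x v = t • v) ∨ ∃ y ∈ N, ∃ t : ℂ, t ≠ 1 ∧ ∀ v, a (y * x * y⁻¹) v = t • a x v)
    (h2 : ∀ r ∈ N, ∃ s ∈ N, ∃ t : ℂ, ∀ v, a r v = t • a (s * (z * s⁻¹ * z⁻¹)) v) : ¬TT σ ζ L := fun h => by
  have := hs.1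
  have hN' := hN.trans inf_le_left
  obtain ⟨p, -, p1, p2, p3⟩ := (a.res hN').ex_min (N := N) (p := ⊤) (fun _ _ _ _ => mem_top) top_ne_bot
  have hb := (a.res hN').sub_simp p1 le_rfl p2 p3
  set b := (a.res hN').sub p p1
  have b1 : ∀ r ∈ N, ∀ v : p, (b r v : V) = a r v := fun r hr => SR.sub_apply _ _ hr
  obtain ⟨ω, ω1, ω2⟩ := It.ext hσ hb (hN.trans inf_le_right) (fun k => It.ex a hN hn h1 p1 p2) hL hz hz' fun r hr => by
    obtain ⟨s, s1, t, s2⟩ := h2 r hr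
    exact ⟨s, s1, t, fun v => Subtype.ext (by simp [b1 r hr, b1 _ (mul_mem s1 (hn z hz.1 _ (inv_mem s1))), s2])⟩
  let M : Submodule ℂ (p →ₗ[ℂ] V) := ⟨⟨⟨{f | ∀ r ∈ N, ∀ v, f (b r v) = a r (f v)}, fun c d r hr v => by
    simp [c r hr, d r hr]⟩, by simp⟩, fun c f d r hr v => by simp [d r hr, a.sm, show σ r = 1 from (hN hr).2]⟩
  have m1 : (ω.hom (a.res hL)).Inv L M := fun l hl f hf r hr v => by
    have := hn _ (inv_mem (hL hl)) r hr
    simp only [SR.hom_apply, SR.cj_apply, SR.res_apply, (ω1 _ (inv_mem hl)).it r hr, hf _ this, a.cjm (hL hl) (hN' this)]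
    simp [mul_assoc]
  obtain ⟨k, k1, k2⟩ := hk
  obtain ⟨n, n1, l, l1, rfl⟩ := hKL k k1
  refine h M (.sub _ M m1) ⟨l, l1, by simpa [show σ n = 1 from (hN n1).2] using k2⟩ (SR.sub_neg _ _ fun f => by
    ext v; simp [hζ, ω2 _ (inv_mem hζL.1) (sg_inv_one hζL.2) fun r hr => (hζN r hr).inv_left])
    (SR.sub_simp _ _ inf_le_left (M.ne_bot_iff.2 ⟨p.subtype, b1, fun e => p2 (by simpa using congrArg range e)⟩)
      fun U u1 u2 => or_iff_not_imp_left.2 fun u3 => u2.antisymm fun f hf => ?_)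
  obtain ⟨m, g, g1⟩ := Submodule.fg_iff_exists_fin_generating_family.1 (IsNoetherian.noetherian U)
  have g2 : ∀ i, g i ∈ U := fun i => g1 ▸ subset_span ⟨i, rfl⟩
  let Φ : (Fin m → p) →ₗ[ℂ] V := ∑ i, g i ∘ₗ .proj i
  have Φ1 : ∀ f ∈ U, ∀ v, f v ∈ range Φ := fun f hf v => by
    obtain ⟨c, rfl⟩ := (mem_span_range_iff_exists_fun ℂ).1 (g1.ge hf)
    exact ⟨fun i => c i • v, by simp [Φ]⟩
  have Φ2 : range Φ = ⊤ := (hs.2 _ fun x hx => by
    rintro _ ⟨v, rfl⟩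
    obtain ⟨n, n1, l, l1, rfl⟩ := hKL x hx.1
    simp only [Φ, LinearMap.sum_apply, map_sum, a.mul (hN' n1) (hL l1), comp_apply]
    refine sum_mem fun i _ => ?_
    have c := u1 l ⟨l1, by simpa [show σ n = 1 from (hN n1).2] using hx.2⟩ _ (g2 i)
    have d := Φ1 _ c (b n (ω l (v i)))
    rw [u2 c n n1] at d
    simpa only [SR.hom_apply, SR.cj_apply, SR.res_apply, ω.inv_l l1, Φ, proj_apply] using d).resolve_left fun e =>
      u3 (eq_bot_iff.2 fun f hf => LinearMap.ext fun v => e.le (Φ1 f hf v))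
  obtain ⟨s, hs'⟩ := Module.projective_lifting_property Φ f (range_eq_top.1 Φ2)
  have s1 := fun i => hb.schur ((b.hom b).avg N (.proj i ∘ₗ s))
    (fun r hr => (b.hom_fix b hr).1 (SR.avg_fix _ le_rfl hr _)) fun r hr => (hN hr).2
  choose c hc using s1
  rw [show f = ∑ i, c i • g i from LinearMap.ext fun v => ?_]
  · exact sum_mem fun i _ => U.smul_mem _ (g2 i)
  simp only [LinearMap.sum_apply, LinearMap.smul_apply, ← map_smul, ← hc, SR.avg_hom, map_smul (g _), map_sum, ← Finset.smul_sum,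
    fun i (r : N) => u2 (g2 i) r r.2]
  rw [Finset.sum_comm, SR.avg_of fun r : N => ?_]
  rw [← map_sum, ← b.inv_r r.2 v, hf _ r.2, b.inv_l r.2, ← hs']
  simp [Φ]

end H11.FS
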