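import Cfsg.Agent.H11.FS5

/-! Orthogonal geometry in characteristic two over a commutative algebra with involution. -/

set_option autoImplicit false
set_option linter.unusedSectionVars false

namespace H11.FS

open Module Submodule LinearMap
open scoped Classical

universe u

variable {F V : Type u} [Field F] [CharP F 2] [AddCommGroup V] [Module F V] {Q : QuadraticForm F V} {x y : V}

variable (Q) in
/-- the polar form -/
def bf : V →ₗ[F] V →ₗ[F] F := Q.polarBilin

local notation "B" => bf Q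

theorem bf_comm (x y : V) : B x y = B y x := QuadraticMap.polar_comm _ _ _

theorem q_add (x y : V) : Q (x + y) = Q x + Q y + B x y := QuadraticMap.map_add _ _ _

@[simp] theorem bf_self (x : V) : B x x = 0 := by simp [bf, CharTwo.two_eq_zero]

theorem q_smul (c : F) (x : V) : Q (c • x) = c * c * Q x := Q.map_smul c x

variable (F) in
include F in
theorem a2 (x : V) : x + x = 0 := by rw [← two_smul F, CharTwo.two_eq_zero, zero_smul]

variable (F) in
include F in
theorem s2 (x y : V) : x - y = x + y := by rw [sub_eq_add_neg, neg_eq_of_add_eq_zero_left (a2 F y)]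

theorem bf_map {g : End F V} (h : ∀ x, Q (g x) = Q x) (x y : V) : B (g x) (g y) = B x y := by
  simpa [q_add, h] using h (x + y)

variable (Q) in
/-- nondegenerate subspaces -/
def ND (Y : Submodule F V) : Prop := ∀ x ∈ Y, (∀ y ∈ Y, B y x = 0) → x = 0

theorem ND.of {Y Y' : Submodule F V} (h : ND Q Y) (h1 : Y' ≤ Y) (h2 : ∀ y ∈ Y, ∃ y' ∈ Y', ∀ x ∈ Y', B y x = B y' x) :
    ND Q Y' := fun x hx e => h x (h1 hx) fun y hy => by
  obtain ⟨y', c, d⟩ := h2 y hy; rw [d x hx, e y' c]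

variable [Finite F] [Finite V]

instance : FiniteDimensional F V := .of_finite

instance : Finite (End F V) := DFunLike.finite _

theorem solve {X : Type*} [AddCommGroup X] [Module F X] (f : X →ₗ[F] V) (Y : Submodule F V) (β : X →ₗ[F] F)
    (h : ∀ x, (∀ y ∈ Y, B (f x) y = 0) → β x = 0) : ∃ y ∈ Y, ∀ x, B (f x) y = β x := by
  obtain ⟨y, hy⟩ : β ∈ range ((bf Q).compl₁₂ f Y.subtype).flip := dualAnnihilator_ker_eq_range_flip.le
    ((mem_dualAnnihilator β).2 fun x hx => h x fun y hy => congr($hx ⟨y, hy⟩))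
  exact ⟨y, y.2, fun x => congr($hy x)⟩

theorem ND.sep {Y : Submodule F V} (h : ND Q Y) (hx : x ∈ Y) (hy : y ∈ Y) (h1 : x ∉ F ∙ y) :
    ∃ u ∈ Y, B x u = 1 ∧ B y u = 0 := by
  obtain ⟨φ, c1, c2⟩ := exists_dual_map_eq_bot_of_notMem h1 inferInstance
  obtain ⟨u, c3, c4⟩ := solve (Q := Q) Y.subtype Y ((φ x)⁻¹ • φ ∘ₗ Y.subtype) fun x e => by
    simp [h x x.2 fun y hy => (bf_comm _ _).trans (e y hy)]
  exact ⟨u, c3, by simpa [c1] using c4 ⟨x, hx⟩, by
    simpa [show φ y = 0 from c2.le (mem_map_of_mem (mem_span_singleton_self y))] using c4 ⟨y, hy⟩⟩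

theorem ND.pj {Y : Submodule F V} (h : ND Q Y) : ∃ θ : End F V, (∀ x, θ x ∈ Y) ∧ (∀ x, ∀ y ∈ Y, B y (θ x) = B y x) ∧
    ∀ x, ∀ w ∈ Y, (∀ y ∈ Y, B y w = B y x) → θ x = w := by
  choose θ h1 h2 using fun x => solve (Q := Q) Y.subtype Y ((bf Q).flip x ∘ₗ Y.subtype) fun x e => by
    simp [h x x.2 fun y hy => (bf_comm _ _).trans (e y hy)]
  replace h2 : ∀ x, ∀ y ∈ Y, B y (θ x) = B y x := fun x y hy => h2 x ⟨y, hy⟩
  have h3 : ∀ x, ∀ w ∈ Y, (∀ y ∈ Y, B y w = B y x) → θ x = w := fun x w c d =>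
    sub_eq_zero.1 (h _ (sub_mem (h1 x) c) fun y hy => by simp [h2 x y hy, d y hy])
  exact ⟨⟨⟨θ, fun x y => h3 _ _ (add_mem (h1 x) (h1 y)) fun z hz => by simp [h2 _ z hz]⟩,
    fun c x => h3 _ _ (smul_mem _ _ (h1 x)) fun z hz => by simp [h2 _ z hz]⟩, h1, h2, h3⟩

theorem char_rep (A : Submodule F V) (hV : ND Q ⊤) (μ : V → ℂ) (h0 : μ 0 = 1)
    (h1 : ∀ u ∈ A, ∀ v ∈ A, μ (u + v) = μ u * μ v) : ∃ ψ : F → ℂ, (∀ t, ψ t = 1 ∨ ψ t = -1) ∧
      (∀ s t, (∀ c, ψ (c * s) = ψ (c * t)) → s = t) ∧ ∃ x, ∀ u ∈ A, μ u = ψ (B u x) := by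
  obtain ⟨ψ, hψ⟩ := (AddChar.exists_apply_ne_zero (a := (1 : F))).2 one_ne_zero
  have h2 : ∀ s t, (∀ c, ψ (c * s) = ψ (c * t)) → s = t := fun s t e => AddChar.to_mulShift_inj_of_isPrimitive
    (.of_ne_one (ψ := ψ) fun e => hψ (by simp [e])) (DFunLike.ext _ _ fun c => by simpa only [AddChar.mulShift_apply, mul_comm] using e c)
  have := Fintype.ofFinite A
  obtain ⟨φ, hφ⟩ := ((Nat.bijective_iff_injective_and_card fun φ : Dual F A => ψ.compAddMonoidHom φ.toAddMonoidHom).2
    ⟨fun φ φ' e => LinearMap.ext fun u => h2 _ _ fun c => by simpa using congr($e (c • u)), by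
      rw [Nat.card_eq_fintype_card (α := AddChar A ℂ), AddChar.card_eq, ← Nat.card_eq_fintype_card,
        natCard_eq_pow_finrank (K := F), natCard_eq_pow_finrank (K := F) (V := A), Subspace.dual_finrank_eq]⟩).2
    ⟨fun u => μ u, h0, fun u v => h1 _ u.2 _ v.2⟩
  obtain ⟨x, -, hx⟩ := solve (Q := Q) A.subtype ⊤ φ fun x e => by
    simp [show x = 0 from Subtype.ext (hV x trivial fun y hy => (bf_comm _ _).trans (e y hy))]
  exact ⟨ψ, fun t => mul_self_eq_one_iff.1 (by simp [← AddChar.map_add_eq_mul, CharTwo.add_self_eq_zero]), h2, x,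
    fun u hu => congr($hφ ⟨u, hu⟩).symm.trans congr(ψ $(hx ⟨u, hu⟩)).symm⟩

variable [hQ : Fact (ND Q ⊤)]

theorem bf_ext (h : ∀ z, B z x = B z y) : x = y := sub_eq_zero.1 (hQ.1 _ trivial fun z _ => by simp [h])

theorem ex_ad (e : End F V) : ∃ f : End F V, ∀ x y, B x (f y) = B (e x) y := by
  choose f _ h using fun y => solve (Q := Q) .id ⊤ ((bf Q).flip y ∘ₗ e) fun x c => by
    simp [hQ.1 x trivial fun y hy => (bf_comm _ _).trans (c y hy)]
  replace h : ∀ x y, B x (f y) = B (e x) y := fun x y => h y x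
  exact ⟨⟨⟨f, fun x y => bf_ext (Q := Q) fun z => by simp [h]⟩, fun c x => bf_ext (Q := Q) fun z => by simp [h]⟩, h⟩

variable (Q) in
/-- the adjoint -/
noncomputable def ad (e : End F V) : End F V := (ex_ad (Q := Q) e).choose

@[simp] theorem bf_ad (e : End F V) (x y : V) : B x (ad Q e y) = B (e x) y := (ex_ad e).choose_spec x y

@[simp] theorem ad_bf (e : End F V) (x y : V) : B (ad Q e x) y = B x (e y) := by rw [bf_comm, bf_ad, bf_comm]

theorem ad_eq {e f : End F V} (h : ∀ x y, B x (f y) = B (e x) y) : ad Q e = f :=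
  LinearMap.ext fun _ => bf_ext fun _ => by rw [bf_ad, h]

theorem ad_add (e f : End F V) : ad Q (e + f) = ad Q e + ad Q f := ad_eq (by simp)

theorem ad_mul (e f : End F V) : ad Q (e * f) = ad Q f * ad Q e := ad_eq (by simp)

variable (Q) in
/-- commutative algebras with involution -/
structure Al where
  /-- the algebra -/
  R : Subalgebra F (End F V)
  comm : ∀ e ∈ R, ∀ f ∈ R, e * f = f * e
  adm : ∀ e ∈ R, ad Q e ∈ R

namespace Al

variable (d : Al Q)

instance : CommRing d.R := { (inferInstance : Ring d.R) with mul_comm := fun e f => Subtype.ext (d.comm _ e.2 _ f.2) }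

instance : SMulCommClass F d.R V := ⟨fun c e v => (map_smul e.1 c v).symm⟩

instance : SMulCommClass d.R F V := .symm ..

theorem two : (2 : d.R) = 0 := by rw [← one_add_one_eq_two, a2 F]

/-- the involution -/
noncomputable def s : d.R →ₐ[F] d.R where
  toFun e := ⟨ad Q e, d.adm _ e.2⟩
  map_one' := Subtype.ext (ad_eq fun _ _ => rfl)
  map_mul' e f := .trans (Subtype.ext (ad_mul _ _)) (mul_comm _ _)
  map_zero' := Subtype.ext (ad_eq (by simp))
  map_add' e f := Subtype.ext (ad_add _ _)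
  commutes' c := Subtype.ext (ad_eq (by simp))

theorem bf_s (e : d.R) (x y : V) : B x (d.s e • y) = B (e • x) y := bf_ad _ _ _

theorem s_bf (e : d.R) (x y : V) : B (d.s e • x) y = B x (e • y) := ad_bf _ _ _

@[simp] theorem s_s (e : d.R) : d.s (d.s e) = e := Subtype.ext (ad_eq fun _ _ => (ad_bf _ _ _).symm)

theorem s_z {z : d.R} (h : ∀ x, Q (z • x) = Q x) : d.s z * z = 1 := Subtype.ext (LinearMap.ext fun _ => bf_ext fun _ =>
  (bf_ad _ _ _).trans (bf_map (g := z.1) h _ _))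

end Al

variable (Q) in
/-- commutative semisimple algebras with involution -/
structure Alg extends Al Q where
  sep : ∀ e ∈ R, ∃ j, e ^ 2 ^ (j + 1) = e

variable (Q) in
/-- the data of the recursion -/
structure Dat extends Alg Q where
  /-- the orthogonal part -/
  p : R
  pp : p * p = p
  s_p : toAlg.s p = p
  ps : ∀ e : R, ∃ c : F, e * p = c • p
  /-- a unitary element -/
  z : R
  /-- a partial inverse -/
  y : R
  zq : ∀ x, Q (z • x) = Q x
  yz : y * (z + 1) = 1 + p

attribute [simp] Dat.s_p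

theorem Dat.y_s (d : Dat Q) {π : d.R} (h : π * d.p = 0) : π * (d.y + d.s d.y) = π := by
  have h1 := congrArg d.s d.yz
  simp only [map_mul, map_add, map_one, d.s_p] at h1
  grind [d.yz, d.s_z d.zq, d.two]

end H11.FS
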