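import Cfsg.Agent.H11.FS6

/-! The extended isometry groups and their unipotent elements. -/

set_option autoImplicit false
set_option linter.unusedSectionVars false

namespace H11.FS

open Module Submodule LinearMap Multiplicative
open scoped Classical

universe u

/-- the cyclic group of order four -/
abbrev C4 := Multiplicative (ZMod 4)

/-- the action on the scalars -/
noncomputable def sg (G : Type u) [Group G] : G × C4 →* (ℂ →+* ℂ) where
  toFun c := starRingEnd ℂ ^ (toAdd c.2).val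
  map_one' := by simp
  map_mul' a b := by
    rw [Prod.snd_mul, toAdd_mul, ZMod.val_add, ← pow_eq_pow_mod _ (by ext; simp [pow_succ]), pow_add]

/-- the central involution -/
def zt (G : Type u) [Group G] : G × C4 := (1, ofAdd 2)

theorem cj_ne : starRingEnd ℂ ≠ 1 := fun e => by
  simpa [Complex.ext_iff, show (-1 : ℝ) ≠ 1 by norm_num] using congr($e Complex.I)

theorem sg_cases {G : Type u} [Group G] (x : G × C4) :
    sg G x = 1 ∧ (x.2 = 1 ∨ x.2 = ofAdd 2) ∨ sg G x = starRingEnd ℂ ∧ x.2 * x.2 = ofAdd 2 := by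
  obtain h | h | h | h := (by decide : ∀ c : C4, c = 1 ∨ c = ofAdd 1 ∨ c = ofAdd 2 ∨ c = ofAdd 3) x.2 <;>
    simp only [sg, h, MonoidHom.coe_mk, OneHom.coe_mk]
  exacts [.inl ⟨rfl, by simp⟩, .inr ⟨pow_one _, rfl⟩, .inl ⟨RingHom.ext Complex.conj_conj, by simp⟩,
    .inr ⟨RingHom.ext fun x => Complex.conj_conj _, rfl⟩]

theorem sg_sg {G : Type u} [Group G] : Sg (sg G) := fun x => (sg_cases x).imp And.left And.left

theorem sg_of {G : Type u} [Group G] {x : G × C4} (h : x.2 = 1) : sg G x = 1 := by simp [sg, h]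

@[simp] theorem sg_zt {G : Type u} [Group G] : sg G (zt G) = 1 := RingHom.ext Complex.conj_conj

theorem zt_comm {G : Type u} [Group G] (x : G × C4) : Commute (zt G) x := Prod.ext (by simp [zt]) (mul_comm _ _)

variable {F V : Type u} [Field F] [CharP F 2] [AddCommGroup V] [Module F V] {Q : QuadraticForm F V}
  [Finite F] [Finite V] [hQ : Fact (ND Q ⊤)]

variable (F V) in
/-- the ambient group -/
abbrev Gm := (End F V)ˣ × C4

/-- the natural action -/
def ro : Gm F V →* End F V := (Units.coeHom _).comp (.fst ..)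

local notation "B" => bf Q
local notation "σ" => sg (End F V)ˣ
local notation "ζ" => zt (End F V)ˣ

noncomputable instance : Fintype (Gm F V) := .ofFinite _

variable {x y : Gm F V}

@[simp] theorem ro_inv (v : V) : ro x (ro x⁻¹ v) = v := by rw [← End.mul_apply, ← map_mul]; simp

@[simp] theorem inv_ro (v : V) : ro x⁻¹ (ro x v) = v := by rw [← End.mul_apply, ← map_mul]; simp

@[simp] theorem ro_zt : ro (ζ) = 1 := rfl

theorem gm_ext (h : ∀ v, ro x v = ro y v) (h' : x.2 = y.2) : x = y := Prod.ext (Units.ext (LinearMap.ext h)) h'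

theorem ex_gm {r : End F V} (h : ∀ v, Q (r v) = Q v) : ∃ x : Gm F V, ro x = r ∧ x.2 = 1 :=
  ⟨(((isUnit_iff_ker_eq_bot r).2 (ker_eq_bot'.2 fun v e => bf_ext (Q := Q) fun z => by
    simp [← bf_map h z, e])).unit, 1), rfl, rfl⟩

namespace Dat

variable (d : Dat Q) {S : Set V} {v v' v₀ w u : V} {π e : d.R}

/-- the twisted involution -/
noncomputable def t (x : Gm F V) : d.R →ₐ[F] d.R := if σ x = 1 then .id _ _ else d.s

theorem t_one (h : σ x = 1) : d.t x e = e := by simp [t, h]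

theorem t_fix (h : d.s e = e) : d.t x e = e := by unfold t; split_ifs <;> simp [h]

@[simp] theorem t_t : d.t x (d.t x e) = e := by unfold t; split_ifs <;> simp

theorem t_mul : d.t (x * y) e = d.t x (d.t y e) := by
  by_cases h : σ x = 1 <;> by_cases h' : σ y = 1
  iterate 3 simp [t, h, h']
  simp [t, h, h', -map_mul, sg_sg.mul h h']

theorem t_inv : d.t x⁻¹ e = d.t x e := by
  rw [← d.t_t (x := x) (e := d.t x⁻¹ e), ← d.t_mul (y := x⁻¹), d.t_one (x := _ * _) (by simp)]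

/-- the defining conditions -/
structure In (S : Set V) (v₀ w : V) (x : Gm F V) : Prop where
  q : ∀ v, Q (ro x v) = Q v
  r : ∀ (e : d.R) v, ro x (e • v) = d.t x e • ro x v
  f : ∀ s ∈ S, ro x s = s
  f0 : ro x v₀ = v₀
  fw : ro x w - w ∈ F ∙ v₀

/-- the groups of the recursion -/
def K (S : Set V) (v₀ w : V) : Subgroup (Gm F V) where
  carrier := {x | d.In S v₀ w x}
  one_mem' := ⟨by simp, by simp [t], by simp, by simp, by simp⟩
  mul_mem' {x y} a b := ⟨by simp [a.q, b.q], by simp [a.r, b.r, t_mul], fun s c => by simp [a.f s c, b.f s c],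
    by simp [a.f0, b.f0], by
      obtain ⟨c, e⟩ := mem_span_singleton.1 b.fw
      simpa [eq_add_of_sub_eq e.symm, a.f0, add_sub_assoc] using add_mem (smul_mem _ c (mem_span_singleton_self _)) a.fw⟩
  inv_mem' {x} a := ⟨fun v => by rw [← a.q, ro_inv], fun e v => by
      nth_rw 1 [← ro_inv (x := x) v, ← d.t_t (x := x) (e := e)]; rw [← a.r, inv_ro, t_inv],
    fun s c => by nth_rw 1 [← a.f s c, inv_ro], by nth_rw 1 [← a.f0, inv_ro], by
      obtain ⟨c, e⟩ := mem_span_singleton.1 a.fw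
      refine mem_span_singleton.2 ⟨-c, ?_⟩
      nth_rw 2 [← inv_ro (x := x) w]
      rw [← map_sub, ← neg_sub, ← e, ← neg_smul]; nth_rw 2 [← a.f0]; rw [← map_smul, inv_ro]⟩

/-- the free part -/
def W (S : Set V) : Submodule F V where
  carrier := {v | ∀ s ∈ S, ∀ e : d.R, B (e • s) v = 0}
  add_mem' a b s c e := by simp [a s c, b s c]
  zero_mem' := by simp
  smul_mem' c v a s h e := by simp [a s h]

variable {d}

theorem In.b (a : d.In S v₀ w x) (u v : V) : B (ro x u) (ro x v) = B u v := bf_map a.q u v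

theorem In.b' (a : x ∈ d.K S v₀ w) (u v : V) : B u (ro x v) = B (ro x⁻¹ u) v := by rw [← a.b (ro x⁻¹ u), ro_inv]

theorem W_map {S'} (a : x ∈ d.K S v₀ w) (h : S' ⊆ S) (hv : v ∈ d.W S') : ro x v ∈ d.W S' := fun s c e => by
  rw [In.b' a, (inv_mem a).r, (inv_mem a).f s (h c), hv s c]

theorem W_sub {S'} (a : x ∈ d.K S v₀ w) (h : S' ⊆ S) (h' : σ x = 1) (v : V) : ro x v - v ∈ d.W S' := fun s c e => by
  rw [map_sub, In.b' a, (inv_mem a).r, (inv_mem a).f s (h c), d.t_one (sg_inv_one h'), sub_self]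

theorem W_smul (hv : v ∈ d.W S) (e : d.R) : e • v ∈ d.W S := fun s c f => by rw [← d.s_bf, ← mul_smul, hv s c]

theorem W_ins : v ∈ d.W (insert u S) ↔ (∀ e : d.R, B (e • u) v = 0) ∧ v ∈ d.W S := Set.forall_mem_insert

theorem W_one : v ∈ d.W {u} ↔ ∀ e : d.R, B (e • u) v = 0 := forall_eq

theorem K_ins : x ∈ d.K (insert u S) v₀ w ↔ ro x u = u ∧ x ∈ d.K S v₀ w :=
  ⟨fun a => ⟨a.f u (.inl rfl), a.q, a.r, fun s c => a.f s (.inr c), a.f0, a.fw⟩,
    fun ⟨b, a⟩ => ⟨a.q, a.r, Set.forall_mem_insert.2 ⟨b, a.f⟩, a.f0, a.fw⟩⟩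

theorem zt_mem : ζ ∈ d.K S v₀ w := ⟨by simp, by simp [t], by simp, by simp, by simp⟩

theorem p_smul (h : d.p • v = v) (e : d.R) : ∃ c : F, e • v = c • v ∧ d.s e • v = c • v := by
  obtain ⟨c, hc⟩ := d.ps e
  have := congrArg d.s hc
  rw [map_mul, map_smul, s_p] at this
  exact ⟨c, by rw [← h, ← mul_smul, hc, smul_assoc], by rw [← h, ← mul_smul, this, smul_assoc]⟩

variable (d) in
/-- totally singular -/
def TS (v : V) : Prop := ∀ e : d.R, Q (e • v) = 0

theorem TS.b (h : d.TS v) (e f : d.R) : B (e • v) (f • v) = 0 := by simpa [add_smul, q_add, h e, h f] using h (e + f)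

theorem ts_of (hπ : π * d.p = 0) (hv : π • v = v) (h : ∀ e : d.R, B (e • v) v = 0) : d.TS v := fun e => by
  rw [show e • v = d.z • (d.y * e) • v + (d.y * e) • v by
    rw [← hv]; simp only [← mul_smul, ← add_smul]; congr 1; grind [d.yz], q_add, d.zq, CharTwo.add_self_eq_zero,
    zero_add, ← d.s_bf, ← mul_smul, ← mul_smul, h]

/-- perfectly paired vectors -/
structure HP (π : d.R) (v v' : V) : Prop where
  pp : π * π = π
  sp : d.s π = π
  pv : π • v = v
  pv' : π • v' = v'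
  nd : ∀ e : d.R, (∀ f : d.R, B (f • v) (e • v') = 0) → π * e = 0

theorem HP.symm (h : HP π v v') : HP π v' v := ⟨h.pp, h.sp, h.pv', h.pv, fun e c => by
  simpa [h.sp] using congrArg d.s (h.nd (d.s e) fun f => by
    rw [d.bf_s, ← mul_smul, mul_comm, mul_smul, ← d.bf_s, bf_comm, c])⟩

theorem zero_of (hu : π • u = u) (h : π * e = 0) : e • u = 0 := by rw [← hu, ← mul_smul, mul_comm, h, zero_smul]

variable (d) in
/-- evaluation -/
def ev (v : V) : d.R →ₗ[F] V := (toSpanSingleton d.R V v).restrictScalars F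

@[simp] theorem ev_apply : d.ev v e = e • v := rfl

theorem HP.sol (h : HP π v v') (β : d.R →ₗ[F] F) (hβ : ∀ e, π * e = 0 → β e = 0) :
    ∃ t : d.R, ∀ e : d.R, B (e • v) (t • v') = β e := by
  obtain ⟨_, ⟨t, rfl⟩, c⟩ := solve (Q := Q) (d.ev v) (range (d.ev v')) β fun e c =>
    hβ e (h.symm.nd e fun f => (bf_comm _ _).trans (c _ ⟨f, rfl⟩))
  exact ⟨t, c⟩

theorem HP.dec (h : HP π v v') (x : V) : ∃ t : d.R, ∀ e : d.R, B (e • v) (t • v') = B (e • v) x :=
  h.sol ((bf Q).flip x ∘ₗ d.ev v) fun e c => by simp [zero_of h.pv c]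

theorem HP.dec' (h : HP π v v') (x : V) : ∃ x₀ ∈ d.W {v}, ∃ t : d.R, x = x₀ + t • v' := by
  obtain ⟨t, ht⟩ := h.dec x
  exact ⟨x - t • v', W_one.2 fun e => by simp [ht], t, by simp⟩

theorem HP.dm (h : HP π v v') (hu : π • u = u) : ∃ D : End F V, ∀ x ∈ d.W {v}, ∀ e : d.R, D (x + e • v') = e • u := by
  choose α hα using h.dec
  have h1 : ∀ x (e : d.R), (∀ f : d.R, B (f • v) (e • v') = B (f • v) x) → α x • u = e • u := fun x e c => by
    rw [← sub_eq_zero, ← sub_smul]; exact zero_of hu (h.nd _ fun f => by simp [sub_smul, c, hα])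
  exact ⟨⟨⟨fun x => α x • u, fun x y => (h1 _ _ fun f => by simp [add_smul, hα]).trans (add_smul _ _ _)⟩,
    fun c x => (h1 _ _ fun f => by simp [hα]).trans (smul_assoc c _ _)⟩, fun x c e => h1 _ _ fun f => by
      simp [W_one.1 c]⟩

theorem HP.eich (h : HP π v v') (hv : d.TS v) (hv' : d.TS v') (hu : d.TS (v' + u)) (h1 : π • u = u)
    (h2 : u ∈ d.W {v}) : ∃ r : Gm F V, r.2 = 1 ∧ (∀ x, Q (ro r x) = Q x) ∧ (∀ (e : d.R) x, ro r (e • x) = e • ro r x) ∧
      ro r v' = v' + u ∧ (∀ x ∈ d.W {v}, ∃ e : d.R, ro r x = x + e • v) ∧ ∀ x ∈ d.W {v}, x ∈ d.W {u} → ro r x = x := by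
  obtain ⟨D, hD⟩ := h.dm h1
  obtain ⟨P, hP⟩ := h.dm h.pv'
  have c0 : ∀ x ∈ d.W {v}, D x = 0 := fun x c => by simpa using hD x c 0
  have c1 : ∀ (e : d.R) x, D (e • x) = e • D x ∧ P (e • x) = e • P x := fun e x => by
    obtain ⟨x, c, t, rfl⟩ := h.dec' x
    simp only [smul_add, ← mul_smul, hD _ c, hP _ c, hD _ (W_smul c e), hP _ (W_smul c e), and_self]
  have c2 : ∀ x, ∃ f : d.R, ad Q D x = f • v := fun x => (h.symm.dec (ad Q D x)).imp fun f hf => bf_ext (Q := Q) fun z => by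
    obtain ⟨z, c, t, rfl⟩ := h.dec' z
    rw [map_add, LinearMap.add_apply, LinearMap.add_apply, hf, bf_ad, c0 z c, bf_comm z, W_one.1 c, map_zero, LinearMap.zero_apply]
  have c3 : ∀ x ∈ d.W {v}, ∀ e : d.R, (1 + D + ad Q D * (1 + P)) (x + e • v') = x + ad Q D x + e • (v' + u) :=
    fun x c e => by
      simp only [LinearMap.add_apply, End.mul_apply, End.one_apply, hD x c, hP x c, add_assoc x, a2 F, add_zero, smul_add]
      abel
  have c4 : ∀ x, Q ((1 + D + ad Q D * (1 + P)) x) = Q x := fun x => by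
    obtain ⟨x, c, t, rfl⟩ := h.dec' x
    obtain ⟨f, hf⟩ := c2 x
    have : B (f • v) (t • v') = B x (t • u) := by rw [← hf, ad_bf, ← zero_add (t • v'), hD _ (zero_mem _)]
    rw [c3 x c, hf, q_add, q_add, q_add, hu, hv, hv', bf_comm x, W_one.1 c]
    simp [this, W_one.1 (W_smul h2 t), add_assoc, CharTwo.add_self_eq_zero]
  obtain ⟨r, r1, r2⟩ := ex_gm c4
  refine ⟨r, r2, r1 ▸ c4, fun e x => ?_, by simpa [r1] using c3 0 (zero_mem _) 1, fun x c => ?_, fun x c c' => ?_⟩
  · simp only [r1, LinearMap.add_apply, End.mul_apply, End.one_apply, c1, ← smul_add]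
    rw [smul_add e (_ + _)]; congr 1
    exact bf_ext (Q := Q) fun z => by rw [bf_ad, ← d.s_bf, ← d.s_bf, bf_ad, (c1 _ _).1]
  · exact (c2 x).imp fun f hf => by simpa [r1, ← hf] using c3 x c 0
  · rw [r1, ← add_zero x, ← zero_smul d.R v', c3 x c, show ad Q D x = 0 from bf_ext (Q := Q) fun z => ?_]
    · simp
    obtain ⟨z, c, t, rfl⟩ := h.dec' z
    rw [bf_ad, hD z c, W_one.1 c', map_zero]

theorem HP.mk_ts (h : HP π v v') (hπ : π * d.p = 0) (hv : d.TS v) : ∃ c : d.R, d.TS (v' + c • v) := by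
  obtain ⟨t, ht⟩ := h.symm.sol ((bf Q).flip v' ∘ₗ d.ev v') fun e c => by simp [zero_of h.pv' c]
  refine ⟨d.y * t, ts_of hπ (by rw [smul_add, h.pv', smul_comm, h.pv]) fun e => ?_⟩
  have h1 : ∀ e : d.R, B (e • v') ((d.y * t) • v) = B ((d.s d.y * e) • v') v' := fun e => by
    rw [mul_smul, ← d.s_bf, ← mul_smul, ht]; rfl
  have h2 : B (e • (d.y * t) • v) v' = B ((d.y * e) • v') v' := by
    rw [bf_comm, ← d.s_bf, h1, ← d.s_s d.y, ← map_mul, d.s_bf, d.s_s, bf_comm]
  have h3 : B ((e + d.y * e + d.s d.y * e) • v') v' = 0 := by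
    rw [zero_of h.pv' (by grind [d.y_s hπ, d.two]), map_zero, LinearMap.zero_apply]
  rw [smul_add, map_add, map_add, LinearMap.add_apply, LinearMap.add_apply, h1, h2, ← mul_smul e, hv.b, add_zero]
  simpa only [add_smul, map_add, LinearMap.add_apply] using h3

end Dat

end H11.FS
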