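import Cfsg.Agent.H11.FS7

/-! The parabolic step of the recursion. -/

set_option autoImplicit false
set_option linter.unusedSectionVars false

namespace H11.FS

open Module Submodule LinearMap Multiplicative
open scoped Classical

universe u

theorem SR.Simp.central {Γ : Type u} [Group Γ] {σ : Γ →* (ℂ →+* ℂ)} {K : Subgroup Γ} {V : Type} [AddCommGroup V]
    [Module ℂ V] [FiniteDimensional ℂ V] {a : SR σ K V} (hs : a.Simp (K ⊓ σ.ker)) {b : Γ} (hb : b ∈ K ⊓ σ.ker)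
    (h : ∀ y ∈ K ⊓ σ.ker, Commute b y) : ∃ t : ℂ, ∀ v, a b v = t • v := by
  obtain ⟨t, ht⟩ := hs.schur (a.lin b) (fun y hy v => by
    simp only [a.lin_apply hb.2, ← a.mul hb.1 hy.1, ← a.mul hy.1 hb.1, (h y hy).eq]) fun _ h => h.2
  exact ⟨t, fun v => by rw [← ht, a.lin_apply hb.2]⟩

variable {F V : Type u} [Field F] [CharP F 2] [AddCommGroup V] [Module F V] {Q : QuadraticForm F V}
  [Finite F] [Finite V] [hQ : Fact (ND Q ⊤)]

local notation "B" => bf Q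
local notation "σ" => sg (End F V)ˣ
local notation "ζ" => zt (End F V)ˣ

namespace Dat

variable {d : Dat Q} {S : Set V} {v v' v₀ w u : V} {π e : d.R} {x y : Gm F V}

theorem W_swap (hv : v ∈ d.W S) (h : u ∈ S) : u ∈ d.W {v} := W_one.2 fun e => by rw [← d.bf_s, bf_comm, hv u h]

theorem pi_map (a : x ∈ d.K S v₀ w) (h : d.s π = π) (hv : π • v = v) : π • ro x v = ro x v := by
  rw [← d.t_fix (x := x) h, ← a.r, hv]

theorem TS.map (h : d.TS v) (a : x ∈ d.K S v₀ w) : d.TS (ro x v) := fun e => by rw [← d.t_t (e := e), ← a.r, a.q, h]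

theorem In.r1 (a : d.In S v₀ w x) (h : σ x = 1) (e : d.R) (v : V) : ro x (e • v) = e • ro x v := by rw [a.r, d.t_one h]

theorem pi_bf (h : d.s π = π) (u v : V) : B u (π • v) = B (π • u) v := by rw [← d.bf_s, h]

theorem HP.ndW (h : HP π v v') (hv : ∀ e f : d.R, B (e • v) (f • v) = 0) (hv' : ∀ e f : d.R, B (e • v') (f • v') = 0) (wv : v ∈ d.W S) (wv' : v' ∈ d.W S) (hW : ND Q (d.W S)) :
    ND Q (d.W (insert v' (insert v S))) := hW.of (fun _ c => (W_ins.1 (W_ins.1 c).2).2) fun y hy => by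
  obtain ⟨t, c⟩ := h.dec y
  obtain ⟨t', c'⟩ := h.symm.dec y
  exact ⟨y - t • v' - t' • v, W_ins.2 ⟨fun e => by simp [c', hv'], W_ins.2 ⟨fun e => by simp [c, hv],
    sub_mem (sub_mem hy (W_smul wv' _)) (W_smul wv _)⟩⟩, fun x a => by simp [(W_ins.1 a).1, (W_ins.1 (W_ins.1 a).2).1]⟩

variable (d) in
/-- the unipotent radical -/
def N (S : Set V) (v v₀ : V) : Subgroup (Gm F V) where
  carrier := {x | x ∈ d.K (insert v S) v₀ 0 ∧ x.2 = 1 ∧ ∀ a ∈ d.W {v}, ∃ e : d.R, ro x a = a + e • v}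
  one_mem' := ⟨one_mem _, rfl, fun a _ => ⟨0, by simp⟩⟩
  mul_mem' {x y} a b := ⟨mul_mem a.1 b.1, by simp [a.2.1, b.2.1], fun c hc => by
    obtain ⟨e, he⟩ := a.2.2 c hc
    obtain ⟨f, hf⟩ := b.2.2 c hc
    exact ⟨e + f, by simp [he, hf, a.1.r1 (sg_of a.2.1), (K_ins.1 a.1).1, add_smul, add_assoc]⟩⟩
  inv_mem' {x} a := ⟨inv_mem a.1, by simp [a.2.1], fun c hc => by
    obtain ⟨e, he⟩ := a.2.2 _ (W_map (inv_mem a.1) (by simp) hc)
    exact ⟨-e, by rw [neg_smul, ← sub_eq_add_neg, eq_sub_iff_add_eq, ← he, ro_inv]⟩⟩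

theorem N_le : d.N S v v₀ ≤ d.K (insert v S) v₀ 0 ⊓ (σ).ker := fun _ a => ⟨a.1, sg_of a.2.1⟩

theorem N_cj (k) (hk : k ∈ d.K (insert v S) v₀ 0) (n) (hn : n ∈ d.N S v v₀) : k * n * k⁻¹ ∈ d.N S v v₀ :=
  ⟨mul_mem (mul_mem hk hn.1) (inv_mem hk), by simp [hn.2.1], fun c hc => by
    obtain ⟨e, he⟩ := hn.2.2 _ (W_map (inv_mem hk) (by simp) hc)
    exact ⟨d.t k e, by simp [he, hk.r, (K_ins.1 hk).1]⟩⟩

/-- primitive idempotents -/
def Prim (π : d.R) : Prop := π * d.p = 0 ∧ ∀ e, π * e = 0 ∨ ∃ a c, π = a * e + c * d.s e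

theorem parab (h : HP π v v') (hv : d.TS v) (hv' : d.TS v') (sy : ∀ e : d.R, B (d.s e • v) v' = B (e • v) v')
    (wv : v ∈ d.W S) (wv' : v' ∈ d.W S) (hW : ND Q (d.W S)) (w0 : v₀ ∈ d.W (insert v' (insert v S)))
    (p0 : d.p • v₀ = v₀) (hs : ∀ u ∈ d.W (insert v' (insert v S)), π • u = u → ∃ c : d.R, d.TS (v' + (u + c • v)))
    (hc : (∀ c : d.R, d.TS (v' + c • v) → c • v = 0) ∨ Prim π)
    (ih : ∀ w ∈ d.W (insert v' (insert v S)), π • w = w → TT σ ζ (d.K (insert v' (insert v S)) v₀ w)) :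
    TT σ ζ (d.K (insert v S) v₀ 0) := by
  have hW' := h.ndW hv.b hv'.b wv wv' hW
  obtain ⟨θ, θ1, θ2, θ3⟩ := hW'.pj
  set W' := d.W (insert v' (insert v S))
  set K := d.K (insert v S) v₀ 0
  set L := d.K (insert v' (insert v S)) v₀ 0
  set N := d.N S v v₀
  intro U _ _ _ a hk hζ ha
  have v0 : ∀ e : d.R, B (e • v') v' = 0 := fun e => by simpa using hv'.b e 1
  have hL : L ≤ K := fun _ c => (K_ins.1 c).2
  have w1 : ∀ u ∈ W', u ∈ d.W {v} := fun u c => W_one.2 (W_ins.1 (W_ins.1 c).2).1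
  have w2 : ∀ e : d.R, e • v ∈ d.W {v} := fun e => W_one.2 fun f => hv.b f e
  have θ4 : ∀ u ∈ W', θ u = u := fun u c => θ3 u u c fun _ _ => rfl
  have θ5 : ∀ s ∈ insert v' (insert v S), ∀ e : d.R, θ (e • s) = 0 := fun s c e => θ3 _ _ (zero_mem _) fun y hy => by
    rw [map_zero, bf_comm, hy s c]
  have θ6 : ∀ (e : d.R) x, θ (e • x) = e • θ x := fun e x => θ3 _ _ (W_smul (θ1 x) e) fun y hy => by
    rw [← d.s_bf, ← d.s_bf, θ2 _ _ (W_smul hy _)]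
  have θ7 : ∀ l ∈ L, ∀ x, θ (ro l x) = ro l (θ x) := fun l c x => θ3 _ _ (W_map c le_rfl (θ1 x)) fun y hy => by
    rw [In.b' c, In.b' c, θ2 _ _ (W_map (inv_mem c) le_rfl hy)]
  have θv : θ v = 0 := by simpa using θ5 v (by simp) 1
  have θv' : θ v' = 0 := by simpa using θ5 v' (by simp) 1
  have b0 : ∀ (e : d.R) u, B v₀ u = 0 → B v₀ (e • u) = 0 := fun e u c => by
    obtain ⟨t, -, ht⟩ := p_smul p0 e
    simp [← d.s_bf, ht, c]
  have k1 : ∀ k ∈ K, ro k v' - v' ∈ d.W (insert v S) := fun k c => W_ins.2 ⟨fun e => by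
    rw [map_sub, In.b' c, (inv_mem c).r, (K_ins.1 (inv_mem c)).1, t]; split_ifs <;> simp [sy],
    sub_mem (W_map c (by simp) wv') wv'⟩
  have k2 : ∀ k ∈ K, B v₀ (ro k v') = 0 := fun k c => by
    rw [In.b' c, (inv_mem c).f0, bf_comm, ← one_smul d.R v', (W_ins.1 w0).1]
  have exN : ∀ u ∈ d.W (insert v S), π • u = u → B v₀ u = 0 → d.TS (v' + u) → ∃ r ∈ N, ro r v' = v' + u :=
    fun u c1 c2 c3 c4 => by
      obtain ⟨r, r1, r2, r3, r4, r5, r6⟩ := h.eich hv hv' c4 c2 (W_one.2 (W_ins.1 c1).1)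
      refine ⟨r, ⟨⟨r2, by simpa [d.t_one (sg_of r1)] using r3, fun s c => r6 s ?_ (W_swap c1 c), r6 _ (w1 _ w0)
        (W_one.2 fun e => by rw [bf_comm, b0 e u c3]), by simp⟩, r1, r5⟩, r4⟩
      obtain rfl | c := c
      exacts [by simpa using w2 1, W_swap wv c]
  have hKL : ∀ x ∈ K, ∃ n ∈ N, ∃ l ∈ L, x = n * l := fun k c => by
    obtain ⟨r, r1, r2⟩ := exN _ (k1 k c) (by rw [smul_sub, pi_map c h.sp h.pv', h.pv'])
      (by simpa [k2 k c] using k2 1 (one_mem _)) (by simpa using hv'.map c)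
    exact ⟨r, r1, r⁻¹ * k, K_ins.2 ⟨by rw [add_sub_cancel] at r2; simp [← r2], mul_mem (inv_mem r1.1) c⟩, by simp⟩
  let ν : Gm F V → V := fun r => θ (ro r v')
  have n1 : ∀ k ∈ K, ∃ e : d.R, ro k v' = v' + ν k + e • v := fun k c => by
    obtain ⟨x, c1, t, c2⟩ := h.symm.dec' (ro k v' - v')
    have c3 : x ∈ W' := W_ins.2 ⟨W_one.1 c1, eq_sub_of_add_eq c2.symm ▸ sub_mem (k1 k c)
      (W_ins.2 ⟨W_one.1 (w2 t), W_smul wv t⟩)⟩
    rw [sub_eq_iff_eq_add'] at c2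
    exact ⟨t, by simp [ν, c2, θv, θv', θ6, θ4 x c3, add_assoc]⟩
  have n2 : ∀ k ∈ K, π • ν k = ν k := fun k c => by rw [← θ6, pi_map c h.sp h.pv']
  have n3 : ∀ r ∈ N, ∀ k ∈ K, ν (r * k) = ν r + ν k := fun r c k c' => by
    obtain ⟨e, he⟩ := n1 k c'
    obtain ⟨f, hf⟩ := c.2.2 _ (add_mem (w1 _ (θ1 (ro k v'))) (w2 e))
    simp only [ν] at he ⊢
    rw [map_mul, End.mul_apply, he, add_assoc, map_add, hf]
    simp [θ6, θv, θv']
  have n4 : ∀ l ∈ L, ∀ r, ν (l * r * l⁻¹) = ro l (ν r) := fun l c r => by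
    simp [ν, (K_ins.1 (inv_mem c)).1, θ7 l c]
  have n5 : ∀ r ∈ N, ν r⁻¹ = ν r := fun r c => by
    rw [← add_right_inj (ν r), ← n3 r c _ (inv_mem c.1), a2 F]; simp [ν, θv']
  have n6 : ∀ u ∈ W', π • u = u → B v₀ u = 0 → ∃ r ∈ N, ν r = u := fun u c1 c2 c3 => by
    obtain ⟨c, c4⟩ := hs u c1 c2
    obtain ⟨r, r1, r2⟩ := exN _ (add_mem (W_ins.1 c1).2 (W_ins.2 ⟨W_one.1 (w2 c), W_smul wv c⟩))
      (by rw [smul_add, c2, smul_comm, h.pv]) (by rw [map_add, c3, bf_comm, W_one.1 (w1 _ w0), add_zero]) c4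
    exact ⟨r, r1, by simp [ν, r2, θv, θv', θ6, θ4 u c1]⟩
  have n7 : ∀ r ∈ N, ∀ r' ∈ N, ν r = ν r' → ∃ c ∈ N, ν c = 0 ∧ r = c * r' := fun r c r' c' e =>
    ⟨r * r'⁻¹, mul_mem c (inv_mem c'), by rw [n3 r c _ (inv_mem c'.1), n5 _ c', e, a2 F], by simp⟩
  have n8 : ∀ r ∈ N, ∀ x ∈ d.W {v}, ∀ e : d.R, B (e • v') (ro r x) = B (e • v') x + B (e • ν r) x := fun r c x c' e => by
    obtain ⟨f, hf⟩ := n1 _ (inv_mem c.1)
    rw [In.b' c.1, (inv_mem c.1).r1 (N_le (inv_mem c)).2, hf, n5 r c]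
    simp [← mul_smul, W_one.1 c']
  have z1 : ∀ r ∈ N, ν r = 0 → ∀ x ∈ d.W {v}, ro r x = x := fun r c e x c' => by
    obtain ⟨f, hf⟩ := c.2.2 x c'
    rw [hf, zero_of h.pv (h.symm.nd f fun g => by simpa [hf, e] using n8 r c x c' g), add_zero]
  have z2 : ∀ r ∈ N, ν r = 0 → ∃ t : ℂ, ∀ w, a r w = t • w := fun r c e => ha.central (N_le c) fun g hg =>
    gm_ext (fun x => by
      obtain ⟨x, c1, t, rfl⟩ := h.dec' x
      obtain ⟨f, hf⟩ := n1 r c.1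
      have := z1 r c e _ (W_one.2 (W_ins.1 (k1 g hg.1)).1)
      rw [map_sub, sub_eq_iff_eq_add] at this
      simp [z1 r c e _ c1, z1 r c e _ (W_map hg.1 (by simp) c1), In.r1 hg.1 hg.2, c.1.r1 (N_le c).2, this, hf, e,
        (K_ins.1 hg.1).1, smul_sub, ← add_assoc]) (mul_comm _ _)
  let φ : d.R → Gm F V → F := fun e r => B (e • v') (ro r v')
  have f1 : ∀ e, ∀ r ∈ N, ∀ r' ∈ N, φ e (r * r') = φ e r + φ e r' + B (e • ν r) (ν r') := fun e r c r' c' => by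
    obtain ⟨f, hf⟩ := n1 r' c'.1
    simp only [φ]
    rw [map_mul, End.mul_apply, hf, add_assoc v', map_add, map_add, n8 r c _ (add_mem (w1 _ (θ1 _)) (w2 f))]
    simp [bf_comm _ (f • v), W_one.1 (w1 _ (W_smul (θ1 _) _)), v0, ν]
    ring
  have f2 : ∀ r ∈ N, ∀ r' ∈ N, ν r = ν r' → (∀ e, φ e r = φ e r') → r = r' := fun r c r' c' e1 e2 => by
    obtain ⟨z, c1, c2, rfl⟩ := n7 r c r' c' e1
    obtain ⟨f, hf⟩ := n1 z c1.1
    rw [show z = 1 from gm_ext (fun x => ?_) c1.2.1, one_mul]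
    obtain ⟨x, c3, t, rfl⟩ := h.dec' x
    simp [z1 z c1 c2 x c3, c1.1.r1 (N_le c1).2, hf, c2, zero_of h.pv (h.symm.nd f fun e => by
      simpa [f1 e z c1 r' c', c2, φ, hf, v0] using e2 e)]
  by_cases hZ : ∀ r ∈ N, ν r = 0 → ∀ w, a r w = w
  · have a1 : ∀ r ∈ N, ∀ r' ∈ N, ν r = ν r' → ∀ w, a r w = a r' w := fun r c r' c' e w => by
      obtain ⟨z, c1, c2, rfl⟩ := n7 r c r' c' e
      rw [a.mul c1.1 c'.1, hZ z c1 c2]
    obtain ⟨μ, ⟨w₀, m0, m1⟩, m2, m3, m4⟩ := clifford a ha hk hζ (N := N) (fun _ c => c.1) (fun _ c => (N_le c).2) N_cj hL hKL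
      fun n c m c' w => by
        rw [← a.mul c.1 c'.1, ← a.mul c'.1 c.1, a1 _ (mul_mem c c') _ (mul_mem c' c) (by rw [n3 _ c _ c'.1, n3 _ c' _ c.1,
          add_comm])]
    have m5 : ∀ r ∈ N, ∀ r' ∈ N, ν r = ν r' → μ r = μ r' := fun r c r' c' e =>
      smul_left_injective ℂ m0 (by simp only [← m1 r c, ← m1 r' c', a1 r c r' c' e])
    choose! s s1 s2 using id n6
    let A := W' ⊓ (eqLocus π.1 .id ⊓ ker (B v₀))
    have s3 : ∀ u ∈ A, s u ∈ N ∧ ν (s u) = u := fun u c => ⟨s1 u c.1 c.2.1 c.2.2, s2 u c.1 c.2.1 c.2.2⟩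
    have s4 : ∀ r ∈ N, ν r ∈ A := fun r c => ⟨θ1 _, n2 r c.1, (θ2 _ _ w0).trans (k2 r c.1)⟩
    obtain ⟨ψ, ψ1, ψ2, x, ψ3⟩ := char_rep A hQ.1 (fun u => μ (s u))
      (m3 ▸ m5 _ (s3 0 (zero_mem _)).1 _ (one_mem _) ((s3 0 (zero_mem _)).2.trans θv'.symm)) fun u c u' c' => by
        rw [← m2 _ (s3 u c).1 _ (s3 u' c').1]
        exact m5 _ (s3 _ (add_mem c c')).1 _ (mul_mem (s3 u c).1 (s3 u' c').1) (by
          rw [n3 _ (s3 u c).1 _ (s3 u' c').1.1, (s3 u c).2, (s3 u' c').2, (s3 _ (add_mem c c')).2])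
    have ψ4 : ∀ r ∈ N, μ r = ψ (B (ν r) (π • θ x)) := fun r c => by
      rw [pi_bf h.sp, n2 r c.1, θ2 _ _ (θ1 _), ← ψ3 _ (s4 r c), m5 _ c _ (s3 _ (s4 r c)).1 (s3 _ (s4 r c)).2.symm]
    have ψ5 : π • π • θ x = π • θ x := by rw [← mul_smul, h.pp]
    have ψ6 := W_smul (θ1 x) π
    generalize π • θ x = w at *
    refine m4 _ (fun l => ?_) (ih w ψ6 ψ5)
    have ψ7 : ∀ t, σ l (ψ t) = ψ t := fun t => by obtain e | e := ψ1 t <;> simp [e]
    refine ⟨fun c => ?_, fun ⟨c, c'⟩ => ⟨c.q, c.r, c.f, c.f0, by_contra fun e => ?_⟩⟩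
    · have c1 : l ∈ L := ⟨c.q, c.r, c.f, c.f0, by simp⟩
      obtain ⟨t, ht⟩ := mem_span_singleton.1 c.fw
      refine ⟨c1, fun n hn => ?_⟩
      rw [ψ4 _ hn, ψ4 _ (N_cj _ (hL c1) _ hn), ψ7, n4 _ c1, ← c.b (ν n) w, eq_add_of_sub_eq ht.symm, map_add, map_smul,
        ← c.f0, c.b, bf_comm _ v₀, (s4 n hn).2.2, smul_zero, zero_add]
    · obtain ⟨u, u1, u2, u3⟩ := hW'.sep (sub_mem (W_map c le_rfl ψ6) ψ6) w0 e
      have u4 : ro l⁻¹ (π • u) ∈ A := ⟨W_map (inv_mem c) le_rfl (W_smul u1 π),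
        pi_map (inv_mem c) h.sp (by rw [← mul_smul, h.pp]), mem_ker.2 (by
          rw [In.b' (inv_mem c), inv_inv, c.f0, b0 _ _ u3])⟩
      have := ψ2 (B (π • u) w) (B (ro l⁻¹ (π • u)) w) fun t => by
        have := c' _ (s3 _ (smul_mem _ t u4)).1
        simpa [ψ4 _ (s3 _ (smul_mem _ t u4)).1, ψ4 _ (N_cj _ (hL c) _ (s3 _ (smul_mem _ t u4)).1), ψ7, n4 _ c,
          (s3 _ (smul_mem _ t u4)).2] using this
      rw [← In.b' c, ← sub_eq_zero, ← neg_eq_zero, neg_sub, ← map_sub, ← pi_bf h.sp, smul_sub, pi_map c h.sp ψ5, ψ5,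
        bf_comm, u2] at this
      exact one_ne_zero this
  push Not at hZ
  obtain ⟨c₀, c1, c2, w₀, c3⟩ := hZ
  obtain ⟨t₀, c4⟩ := n1 c₀ c1.1
  rw [c2, add_zero] at c4
  obtain hc | ⟨q1, q2⟩ := hc
  · rw [hc t₀ (c4 ▸ hv'.map c1.1), add_zero] at c4
    exact c3 (by rw [f2 c₀ c1 1 (one_mem _) (c2.trans θv'.symm) (by simp [φ, c4]), a.one])
  have q3 : π • v₀ = 0 := by rw [← p0, ← mul_smul, q1, zero_smul]
  have q4 : ∀ u, B v₀ (π • u) = 0 := fun u => by simp [pi_bf h.sp, q3]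
  have zq : ∀ x, Q ((1 + ((d.z + 1) * π).1 * θ) x) = Q x := fun x => by
    have e1 : ∀ u ∈ W', π • u = u → B (x + π • θ x) u = 0 := fun u c c' => by
      rw [map_add, LinearMap.add_apply, ← pi_bf h.sp, c', bf_comm x, ← θ2 x u c, bf_comm, a2 F]
    have e2 : π • π • θ x = π • θ x := by rw [← mul_smul, h.pp]
    rw [show (1 + ((d.z + 1) * π).1 * θ) x = x + π • θ x + d.z • π • θ x from
      show x + ((d.z + 1) * π) • θ x = _ by module, q_add, d.zq, e1 _ (W_smul (W_smul (θ1 x) _) _) (by rw [smul_comm, e2]),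
      ← e1 _ (W_smul (θ1 x) _) e2, ← q_add, add_assoc, a2 F, add_zero]
  obtain ⟨z, z3, z4⟩ := ex_gm zq
  rw [← z3] at zq
  replace z3 : ∀ x, ro z x = x + ((d.z + 1) * π) • θ x := fun x => congr($z3 x)
  have z5 : ∀ s, π • θ s = 0 → ro z s = s := fun s c => by rw [z3, mul_smul, c, smul_zero, add_zero]
  have z6 : z ∈ L := ⟨zq, fun e x => by rw [d.t_one (sg_of z4), z3, z3, θ6, smul_add, smul_comm],
    fun s c => z5 s (by simp [show θ s = 0 by simpa using θ5 s c 1]), z5 _ (by rw [θ4 _ w0, q3]), by simp⟩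
  refine weil sg_sg a ha hk hζ N_le N_cj hL hKL ⟨zt_mem, sg_zt⟩ (fun n _ => zt_comm n) ⟨hL z6, sg_of z4⟩ (fun l c => ?_)
    (fun x c => ?_) (fun r c => ?_) (ih 0 (zero_mem _) (smul_zero _))
  · rw [tw, mul_inv_eq_iff_eq_mul]
    split_ifs with e
    · exact gm_ext (fun x => by simp [z3, c.r1 e, θ7 l c]) (mul_comm _ _)
    · rw [mul_inv_eq_iff_eq_mul]
      refine gm_ext (fun x => ?_) (by simp [z4])
      simp only [map_mul, End.mul_apply, z3, map_add, c.r, θ6, θ7 l c, t, if_neg e, map_one, h.sp, θ4 _ (θ1 _), smul_add,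
        ← mul_smul, add_assoc, ← add_smul]
      rw [show (d.z + 1) * π + ((d.s d.z + 1) * π + (d.z + 1) * π * ((d.s d.z + 1) * π)) = 0 by
        grind [h.pp, d.s_z d.zq, d.two], zero_smul, add_zero]
  · by_cases e : ν x = 0
    · exact .inl (z2 x c e)
    have β1 : ∀ e, φ (d.s e) c₀ = φ e c₀ := fun e => by
      have := (hv'.map c1.1).b e 1
      simp only [c4, one_smul, smul_add, map_add, LinearMap.add_apply, v0, ← mul_smul, hv.b, zero_add, add_zero] at this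
      simp only [φ, c4, map_add, v0, zero_add]
      rw [d.s_bf, bf_comm, ← mul_smul, CharTwo.add_eq_zero.1 this, one_mul]
    obtain ⟨u, u1, u2⟩ := solve (Q := Q) (d.ev (ν x) ∘ₗ (.id + d.s.toLinearMap)) W' ((bf Q).flip (ro c₀ v') ∘ₗ d.ev v')
      fun f c' => by
        have e1 : (f + d.s f) • ν x = 0 := hW' _ (W_smul (θ1 _) _) fun y hy => (bf_comm _ _).trans (c' y hy)
        have e2 : π * (f + d.s f) = 0 := (q2 _).resolve_right fun ⟨a, b, e2⟩ => e (by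
          rw [← n2 x c.1, e2, map_add, d.s_s, add_comm (d.s f), ← add_mul, mul_smul, e1, smul_zero])
        have e3 := β1 (π * f * d.s d.y)
        simp only [φ, map_mul, h.sp, d.s_s] at e3
        show B (f • v') (ro c₀ v') = 0
        rw [← h.pv', ← mul_smul, show f * π = π * f * d.y + π * f * d.s d.y by grind [d.y_s q1], add_smul, map_add,
          LinearMap.add_apply, h.pv', ← e3, ← LinearMap.add_apply, ← map_add, ← add_smul,
          show π * f * d.y + π * d.s f * d.y = 0 by grind, zero_smul, map_zero, LinearMap.zero_apply]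
    obtain ⟨y, y1, y2⟩ := n6 _ (W_smul u1 π) (by rw [← mul_smul, h.pp]) (q4 u)
    obtain ⟨t, ht⟩ := z2 c₀ c1 c2
    refine .inr ⟨y, y1, t, fun e => c3 (by simp [ht, e]), fun w => ?_⟩
    rw [f2 (y * x) (mul_mem y1 c) (c₀ * (x * y)) (mul_mem c1 (mul_mem c y1)) (by
      rw [n3 _ y1 _ c.1, n3 _ c1 _ (mul_mem c y1).1, n3 _ c _ y1.1, c2, zero_add, add_comm]) fun f => ?_, mul_assoc,
      mul_inv_cancel_right, a.mul c1.1 c.1, ht]
    have e1 : B ((f + d.s f) • ν x) (π • u) = φ f c₀ := by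
      rw [pi_bf h.sp, smul_comm, n2 x c.1]; exact u2 f
    rw [f1 _ _ y1 _ c, f1 _ _ c1 _ (mul_mem c y1), f1 _ _ c _ y1, c2, ← e1, y2, ← d.bf_s f, bf_comm (π • u)]
    simp only [add_smul, map_add, LinearMap.add_apply, smul_zero, map_zero, LinearMap.zero_apply]
    grind
  · obtain ⟨s, s1, s2⟩ := n6 (d.y • ν r) (W_smul (θ1 _) _) (by rw [smul_comm, n2 r c.1]) (by rw [← n2 r c.1, smul_comm, q4])
    have s3 := N_cj _ (hL z6) _ (inv_mem s1)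
    obtain ⟨z', e1, e2, e3⟩ := n7 r c _ (mul_mem s1 s3) (by
      rw [n3 _ s1 _ s3.1, n4 _ z6, n5 _ s1, s2, z3, ← add_assoc, a2 F, zero_add, θ6, θ4 _ (θ1 _), ← mul_smul, ← n2 r c.1]
      congr 1; grind [d.yz])
    obtain ⟨t, ht⟩ := z2 z' e1 e2
    exact ⟨s, s1, t, fun w => by rw [e3, a.mul e1.1 (mul_mem s1 s3).1, ht]⟩

end Dat

end H11.FS
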