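import Cfsg.Agent.H11.FS8

/-! The stabilizer steps of the recursion. -/

set_option autoImplicit false
set_option linter.unusedSectionVars false

namespace H11.FS

open Module Submodule LinearMap Multiplicative
open scoped Classical

universe u

variable {F V : Type u} [Field F] [CharP F 2] [AddCommGroup V] [Module F V] {Q : QuadraticForm F V}
  [Finite F] [Finite V] [hQ : Fact (ND Q ⊤)]

local notation "B" => bf Q
local notation "σ" => sg (End F V)ˣ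
local notation "ζ" => zt (End F V)ˣ

namespace Dat

variable {d : Dat Q} {S S' : Set V} {v v' v₀ w u : V} {π e : d.R} {x y : Gm F V}

variable (d) in
/-- admissible states -/
structure Ad (S : Set V) (v₀ : V) : Prop where
  nd : ND Q (d.W S)
  w : v₀ ∈ d.W S
  p : d.p • v₀ = v₀
  q : v₀ = 0 ∨ Q v₀ ≠ 0

/-- admissible idempotents -/
def Id (π : d.R) : Prop := π = d.p ∨ π * π = π ∧ d.s π = π ∧ Prim π

variable (d) in
/-- the inductive claim -/
def XX (S : Set V) (v₀ : V) : Prop := ∀ π : d.R, ∀ w ∈ d.W S, Id π → π • w = w → TT σ ζ (d.K S v₀ w)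

theorem W_lt (h : S ⊆ S') (hv : v ∈ d.W S) (hu : u ∈ S') (h' : B (e • u) v ≠ 0) :
    finrank F (d.W S') < finrank F (d.W S) :=
  finrank_lt_finrank_of_lt (lt_of_le_not_ge (fun _ c s hs => c s (h hs)) fun c => h' (c hv u hu e))

theorem p_bf (hv : d.p • v = v) (h : B v u = 0) (e : d.R) : B (e • v) u = 0 := by
  obtain ⟨c, hc, -⟩ := p_smul hv e; simp [hc, h]

theorem iso_p (hv : d.p • v = v) (e f : d.R) : B (e • v) (f • v) = 0 :=
  p_bf hv (by rw [bf_comm, p_bf hv (bf_self v)]) e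

theorem ts_p (hv : d.p • v = v) (h : Q v = 0) : d.TS v := fun e => by
  obtain ⟨c, hc, -⟩ := p_smul hv e; simp [hc, q_smul, h]

theorem hp_p (hv : d.p • v = v) (hv' : d.p • v' = v') (h : B v v' ≠ 0) : HP d.p v v' :=
  ⟨d.pp, d.s_p, hv, hv', fun e c => by
    obtain ⟨t, ht⟩ := d.ps e
    have := c 1
    rw [← hv', ← mul_smul, ht, smul_assoc, hv', one_smul, map_smul, smul_eq_mul, mul_eq_zero_iff_right h] at this
    rw [mul_comm, ht, this, zero_smul]⟩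

theorem HP.add (h : HP π v v') (hu : u ∈ d.W {v}) (h' : π • u = u) : HP π v (v' + u) :=
  ⟨h.pp, h.sp, h.pv, by rw [smul_add, h.pv', h'], fun e c => h.nd e fun f => by
    simpa [W_one.1 (W_smul hu e)] using c f⟩

theorem stepS (ih : ∀ S' v₀', finrank F (d.W S') < finrank F (d.W S) → d.Ad S' v₀' → d.XX S' v₀') (h : d.Ad S v₀)
    (wv : v ∈ d.W S) (pv : d.p • v = v) (h1 : v ∉ F ∙ v₀) (h2 : B v₀ v = 0) (h3 : Q v = 0) :
    TT σ ζ (d.K (insert v S) v₀ 0) := by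
  obtain ⟨u, u1, u2, u3⟩ := h.nd.sep wv h.w h1
  obtain ⟨v', c1, c2, c3, c4, c5⟩ : ∃ v' ∈ d.W S, d.p • v' = v' ∧ B v v' = 1 ∧ B v₀ v' = 0 ∧ Q v' = 0 :=
    ⟨d.p • u + Q (d.p • u) • v, add_mem (W_smul u1 _) (smul_mem _ _ wv), by
      rw [smul_add, ← mul_smul, d.pp, smul_comm, pv], by simp [pi_bf d.s_p, pv, u2], by simp [pi_bf d.s_p, h.p, u3, h2],
      by simp [q_add, q_smul, h3, bf_comm (d.p • u), pi_bf d.s_p, pv, u2, CharTwo.add_self_eq_zero]⟩
  have hp := hp_p pv c2 (c3.trans_ne one_ne_zero)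
  have w0 : v₀ ∈ d.W (insert v' (insert v S)) :=
    W_ins.2 ⟨p_bf c2 ((bf_comm _ _).trans c4), W_ins.2 ⟨p_bf pv ((bf_comm _ _).trans h2), h.w⟩⟩
  refine parab hp (ts_p pv h3) (ts_p c2 c5) (fun e => ?_) wv c1 h.nd w0 h.p (fun u c c' => ⟨algebraMap F _ (Q u), ts_p
    (by rw [smul_add, smul_add, c2, c', smul_comm, pv]) ?_⟩) (.inl fun c e => ?_) fun w c => ih _ _
      (W_lt (e := 1) (fun _ c => .inr (.inr c)) wv (.inl rfl) (by simp [bf_comm v', c3]))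
      ⟨hp.ndW (iso_p pv) (iso_p c2) wv c1 h.nd, w0, h.p, h.q⟩ _ w c (.inl rfl)
  · obtain ⟨t, a, b⟩ := p_smul pv e; rw [a, b]
  · simp [q_add, q_smul, h3, c5, bf_comm v' v, c3, CharTwo.add_self_eq_zero, bf_comm u v,
      show B v u = 0 by simpa using (W_ins.1 (W_ins.1 c).2).1 1, show B v' u = 0 by simpa using (W_ins.1 c).1 1]
  · obtain ⟨t, a, -⟩ := p_smul pv c
    simp [a, show t = 0 by simpa [a, q_add, q_smul, h3, c5, bf_comm v', c3] using e 1]

theorem stepP (ih : ∀ S' v₀', finrank F (d.W S') < finrank F (d.W S) → d.Ad S' v₀' → d.XX S' v₀') (h : d.Ad S v₀)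
    (ww : w ∈ d.W S) (pw : d.p • w = w) (h2 : B v₀ w ≠ 0) : TT σ ζ (d.K S v₀ w) := by
  have h3 : Q v₀ ≠ 0 := h.q.resolve_left fun e => h2 (by simp [e])
  have tq : ∀ x, Q ((1 + smulRight ((Q v₀)⁻¹ • B v₀) v₀ : End F V) x) = Q x := fun x => by
    simp only [LinearMap.add_apply, End.one_apply, smulRight_apply, q_add, q_smul, map_smul, LinearMap.smul_apply,
      smul_eq_mul, bf_comm x]
    grind [CharTwo.two_eq_zero]
  obtain ⟨t, t1, t2⟩ := ex_gm tq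
  rw [← t1] at tq
  replace t1 : ∀ x, ro t x = x + ((Q v₀)⁻¹ * B v₀ x) • v₀ := fun x => congr($t1 x)
  have t3 : t ∈ d.K S v₀ w := ⟨tq, fun e x => by
      obtain ⟨c, a, b⟩ := p_smul h.p e
      rw [d.t_one (sg_of t2), t1, t1, ← d.s_bf, b, smul_add, smul_comm e, a]; simp [smul_smul]; ring_nf,
    fun s c => by simp [t1, bf_comm v₀, show B s v₀ = 0 by simpa using h.w s c 1], by simp [t1],
    by simp [t1, smul_mem, mem_span_singleton_self]⟩
  refine (ih (insert w (insert v₀ S)) 0 (W_lt (e := 1) (fun _ c => .inr (.inr c)) h.w (.inl rfl) (by simpa [bf_comm w]))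
    ⟨(hp_p h.p pw h2).ndW (iso_p h.p) (iso_p pw) h.w ww h.nd, zero_mem _, smul_zero _, .inl rfl⟩ _ 0 (zero_mem _)
    (.inl rfl) (smul_zero _)).of_scal (fun x c => ⟨c.q, c.r, fun s e => c.f s (.inr (.inr e)), c.f _ (by simp),
      by simp [c.f w]⟩) fun x c => ?_
  have h4 : ∀ x ∈ d.K S v₀ w, ro x w = w → x ∈ d.K (insert w (insert v₀ S)) 0 0 := fun x c e =>
    K_ins.2 ⟨e, K_ins.2 ⟨c.f0, c.q, c.r, c.f, by simp, by simp⟩⟩
  obtain ⟨a, ha⟩ := mem_span_singleton.1 c.fw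
  replace ha := (eq_add_of_sub_eq' ha.symm)
  have h5 := c.q w
  rw [ha, q_add, q_smul, map_smul, smul_eq_mul, bf_comm w] at h5
  obtain rfl | h6 : a = 0 ∨ a = (Q v₀)⁻¹ * B v₀ w := by grind [CharTwo.two_eq_zero]
  · exact ⟨1, one_mem _, x, h4 x c (by simpa using ha), by simp⟩
  · exact ⟨t, t3, t⁻¹ * x, h4 _ (mul_mem (inv_mem t3) c) (by simp [ha, h6, ← t1]), by simp, sg_of t2, fun y c _ =>
      gm_ext (fun v => by simp only [map_mul, End.mul_apply, t1, map_add, map_smul, c.f0]; rw [← c.b v₀ v, c.f0])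
        (mul_comm _ _)⟩

theorem stepU (ih : ∀ S' v₀', finrank F (d.W S') < finrank F (d.W S) → d.Ad S' v₀' → d.XX S' v₀') (h : d.Ad S v₀)
    (h1 : π * π = π) (h2 : d.s π = π) (h3 : Prim π) (ww : w ∈ d.W S) (pw : π • w = w) (h4 : w ≠ 0) :
    TT σ ζ (d.K (insert w S) v₀ 0) := fun U _ _ _ a ⟨k, k1, k2⟩ => by
  refine (?_ : TT σ ζ _) U a ⟨k, k1, k2⟩
  have c0 : ∀ (e : d.R) u, π • u = u → B (e • u) v₀ = 0 := fun e u c => by
    rw [← c, smul_comm, ← pi_bf h2, ← h.p, ← mul_smul, h3.1, zero_smul, map_zero]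
  by_cases iso : ∀ e : d.R, B (e • w) w = 0
  swap
  · have hp : HP π w w := ⟨h1, h2, pw, pw, fun e c => (h3.2 e).resolve_right fun ⟨a, b, c'⟩ => iso fun g => by
      have c2 : ∀ f : d.R, B (f • w) (d.s e • w) = 0 := fun f => by rw [d.bf_s, bf_comm, smul_comm, ← d.s_bf, c]
      nth_rw 2 [← pw]
      rw [c', add_smul, map_add, mul_smul, mul_smul, ← d.s_bf a, ← d.s_bf b, ← mul_smul, ← mul_smul, c, c2, add_zero]⟩
    obtain ⟨e, he⟩ := not_forall.1 iso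
    exact ih _ _ (W_lt (Set.subset_insert _ _) ww (.inl rfl) he) ⟨h.nd.of (fun _ c => (W_ins.1 c).2) fun y hy => by
      obtain ⟨t, c⟩ := hp.dec y
      exact ⟨y - t • w, W_ins.2 ⟨fun e => by simp [c], sub_mem hy (W_smul ww _)⟩, fun x a => by simp [(W_ins.1 a).1]⟩,
      W_ins.2 ⟨fun e => c0 e w pw, h.w⟩, h.p, h.q⟩ _ 0 (zero_mem _) (.inl rfl) (smul_zero _)
  have tw := ts_of h3.1 pw iso
  obtain ⟨u, u1, u2, -⟩ := h.nd.sep ww (zero_mem _) (by simpa)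
  have c1 : ∀ e : d.R, B (e • w) (π • u + ro k⁻¹ (π • u)) = B ((e + d.s e) • w) u := fun e => by
    rw [map_add, In.b' (inv_mem k1), inv_inv, k1.r, (K_ins.1 k1).1, t, if_neg k2, pi_bf h2, pi_bf h2, smul_comm, pw,
      smul_comm, pw, add_smul, map_add, LinearMap.add_apply]
  have c2 : π • π • u = π • u := by rw [← mul_smul, h1]
  have hp : HP π w (π • u + ro k⁻¹ (π • u)) := ⟨h1, h2, pw, by rw [smul_add, c2, pi_map (inv_mem k1) h2 c2],
    fun e c => (h3.2 e).resolve_right fun ⟨a, b, c'⟩ => by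
      simp only [← d.s_bf, ← mul_smul, c1, map_mul, d.s_s] at c
      have c6 : π = d.s a * d.s e + d.s b * e := by rw [← h2, c']; simp
      rw [← pw, ← d.y_s h3.1, show π * (d.y + d.s d.y) = (d.s e * d.s (a * d.y) + e * d.s (d.s (a * d.y))) +
        (d.s e * (b * d.y) + e * d.s (b * d.y)) by
          simp only [map_mul, d.s_s]; linear_combination d.y * c' + d.s d.y * c6, add_smul, map_add] at u2
      simp only [LinearMap.add_apply, c, add_zero, zero_ne_one] at u2⟩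
  obtain ⟨c, hc⟩ := hp.mk_ts h3.1 tw
  have c3 : c • w ∈ d.W {w} := W_one.2 fun e => tw.b e c
  have hp' := hp.add c3 (by rw [smul_comm, pw])
  have c4 := add_mem (add_mem (W_smul u1 π) (W_map (K_ins.1 (inv_mem k1)).2 le_rfl (W_smul u1 π))) (W_smul ww c)
  have w0 := W_ins.2 ⟨fun e => c0 e _ hp'.pv', W_ins.2 ⟨fun e => c0 e w pw, h.w⟩⟩
  refine parab hp' tw hc (fun e => by rw [map_add, map_add (B (e • w)), c1, c1, d.s_s, add_comm e, tw.b, tw.b]) ww c4 h.nd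
    w0 h.p (fun u c c' => by simpa [add_assoc] using (hp'.add (W_one.2 (W_ins.1 (W_ins.1 c).2).1) c').mk_ts h3.1 tw)
    (.inr h3) fun w' c => ih _ _ (W_lt (e := d.s d.y) (fun _ c => .inr (.inr c)) ww (.inl rfl) ?_)
      ⟨hp'.ndW tw.b hc.b ww c4 h.nd, w0, h.p, h.q⟩ _ w' c (.inr ⟨h1, h2, h3⟩)
  rw [d.s_bf, bf_comm, map_add, c1, tw.b, ← pw, ← mul_smul, mul_comm, d.y_s h3.1, pw, u2, add_zero]
  exact one_ne_zero

theorem stepA (ih : ∀ S' v₀', finrank F (d.W S') < finrank F (d.W S) → d.Ad S' v₀' → d.XX S' v₀') (h : d.Ad S v₀)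
    (hM : v₀ = 0 → ∀ w ≠ 0, d.Ad S w → TT σ ζ (d.K S w 0)) (hπ : Id π) (ww : w ∈ d.W S) (pw : π • w = w)
    (h1 : w ∉ F ∙ v₀) : TT σ ζ (d.K S v₀ w) := by
  obtain rfl | ⟨h2, h3, h4⟩ := hπ
  swap
  · convert stepU ih h h2 h3 h4 ww pw fun e => h1 (e ▸ zero_mem _) using 1
    refine Subgroup.ext fun x => ⟨fun c => K_ins.2 ⟨?_, c.q, c.r, c.f, c.f0, by simp⟩, fun c =>
      ⟨c.q, c.r, (K_ins.1 c).2.f, c.f0, by simp [(K_ins.1 c).1]⟩⟩
    obtain ⟨a, ha⟩ := mem_span_singleton.1 c.fw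
    rw [← sub_eq_zero, show ro x w - w = π • (ro x w - w) by rw [smul_sub, pi_map c h3 pw, pw], ← ha, smul_comm, ← h.p,
      ← mul_smul, h4.1, zero_smul, smul_zero]
  by_cases h2 : B v₀ w = 0
  swap
  · exact stepP ih h ww pw h2
  by_cases h3 : v₀ = 0 ∧ Q w ≠ 0
  · obtain ⟨rfl, h3⟩ := h3
    convert hM rfl w (fun e => h3 (by simp [e])) ⟨h.nd, ww, pw, .inr h3⟩ using 1
    exact Subgroup.ext fun x => ⟨fun c => ⟨c.q, c.r, c.f, by simpa [sub_eq_zero] using c.fw, by simp⟩,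
      fun c => ⟨c.q, c.r, c.f, by simp, by simp [c.f0]⟩⟩
  obtain ⟨a, ha⟩ : ∃ a : F, Q (w + a • v₀) = 0 := by
    obtain rfl | h4 := h.q
    · exact ⟨0, by simpa using h3⟩
    · obtain ⟨a, ha⟩ := FiniteField.isSquare_of_char_two (ringChar.eq F 2) (Q w / Q v₀)
      exact ⟨a, by simp [q_add, q_smul, ← ha, h4, bf_comm w, h2, CharTwo.add_self_eq_zero]⟩
  convert stepS ih h (add_mem ww (smul_mem _ a h.w)) (by rw [smul_add, pw, smul_comm, h.p])
    (by rwa [Submodule.add_mem_iff_left _ (smul_mem _ _ (mem_span_singleton_self _))]) (by simp [h2]) ha using 1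
  refine Subgroup.ext fun x => ⟨fun c => K_ins.2 ⟨?_, c.q, c.r, c.f, c.f0, by simp⟩, fun c =>
    ⟨c.q, c.r, (K_ins.1 c).2.f, c.f0, by simp [show ro x w = w by simpa [c.f0] using (K_ins.1 c).1]⟩⟩
  obtain ⟨t, ht⟩ := mem_span_singleton.1 c.fw
  have h5 : ro x (w + a • v₀) = w + a • v₀ + t • v₀ := by rw [ht, map_add, map_smul, c.f0]; abel
  have h6 := c.q (w + a • v₀)
  rw [h5, q_add, ha, q_smul] at h6
  obtain rfl | h4 := h.q
  · simpa using h5
  · simpa [show t = 0 by simpa [h4, bf_comm w, h2] using h6] using h5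

end Dat

end H11.FS
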