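import Cfsg.Agent.H11.Min1
import Cfsg.Agent.H14.TwG2

/-! # Representations of `G₂(q)`: weight spaces of root subgroups -/

set_option autoImplicit false
set_option linter.unusedSectionVars false
set_option maxRecDepth 100000

namespace H11.G2m

open Finset Module H11.Mn H14 Cfsg.Lie
open scoped InnerProductSpace

variable {F Γ : Type*} [Field F] [Fintype F] [DecidableEq F] [Group Γ] [Fintype Γ] (V : Type*) [NormedAddCommGroup V]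
  [InnerProductSpace ℂ V] [DistribMulAction Γ V] [SMulCommClass Γ ℂ V] [Uni Γ V] [FiniteDimensional ℂ V]
  (S : St goodG2.C F Γ) (ψ : AddChar F ℂ)

/-- root indices -/
abbrev I := Fin chevG2.nroots

/-- joint eigenspaces -/
def W (l : List (I × F)) : Submodule ℂ V := ⨅ p ∈ l, Eg V ψ (S.x p.1) p.2

/-- their dimensions -/
noncomputable def D (l : List (I × F)) : ℕ := finrank ℂ (W V S ψ l)

variable {V}

theorem xx (r s : I) (L : List (I × ℤ × ℕ × ℕ)) (h : s.val ≠ chevG2.neg r ∧ chevG2.commTerms r s = L.map fun c => (c.1.val, c.2))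
    (t u : F) (v : V) : S.x s u • S.x r t • v = S.x r t • S.x s u • (L.map fun c => S.x c.1 (PreChev.tval t u c)).prod • v := by
  rw [← mul_smul, S.comm' (fun e => h.1 (by rw [e, goodG2.neg])), goodG2.terms_eq h.2, mul_smul, mul_smul]

theorem mv0 (t u : F) (v : V) :
    (S.x 1 u • S.x 0 t • v = S.x 0 t • S.x 1 u • v) ∧
    (S.x 2 u • S.x 0 t • v = S.x 0 t • S.x 2 u • v) ∧
    (S.x 3 u • S.x 0 t • v = S.x 0 t • S.x 3 u • v) ∧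
    (S.x 4 u • S.x 0 t • v = S.x 0 t • S.x 4 u • v) ∧
    (S.x 5 u • S.x 0 t • v = S.x 0 t • S.x 5 u • v) ∧
    (S.x 6 u • S.x 0 t • v = S.x 0 t • S.x 6 u • S.x 1 (-(t * u)) • v) ∧
    (S.x 7 u • S.x 0 t • v = S.x 0 t • S.x 7 u • v) ∧
    (S.x 8 u • S.x 0 t • v = S.x 0 t • S.x 8 u • S.x 2 (-(t * u)) • S.x 4 (-(t * u ^ 2)) • S.x 6 (t * u ^ 3) • S.x 1 (-(2 * t ^ 2 * u ^ 3)) • v) ∧
    (S.x 9 u • S.x 0 t • v = S.x 0 t • S.x 9 u • S.x 3 (t * u) • S.x 7 (t * u ^ 2) • S.x 10 (t * u ^ 3) • S.x 5 (2 * t ^ 2 * u ^ 3) • v) ∧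
    (S.x 10 u • S.x 0 t • v = S.x 0 t • S.x 10 u • S.x 5 (t * u) • v) := by
  refine ⟨(xx S 0 1 [] (by decide +kernel) t u v).trans ?_, (xx S 0 2 [] (by decide +kernel) t u v).trans ?_, (xx S 0 3 [] (by decide +kernel) t u v).trans ?_, (xx S 0 4 [] (by decide +kernel) t u v).trans ?_, (xx S 0 5 [] (by decide +kernel) t u v).trans ?_, (xx S 0 6 [(1, 1, 1, 1)] (by decide +kernel) t u v).trans ?_, (xx S 0 7 [] (by decide +kernel) t u v).trans ?_, (xx S 0 8 [(2, 1, 1, 1), (4, 1, 1, 2), (6, -1, 1, 3), (1, -2, 2, 3)] (by decide +kernel) t u v).trans ?_, (xx S 0 9 [(3, -1, 1, 1), (7, -1, 1, 2), (10, -1, 1, 3), (5, 2, 2, 3)] (by decide +kernel) t u v).trans ?_, (xx S 0 10 [(5, -1, 1, 1)] (by decide +kernel) t u v).trans ?_⟩ <;>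
    simp [PreChev.tval, mul_smul, Odd.neg_pow (show Odd 3 by decide)]

theorem mv1 (t u : F) (v : V) :
    (S.x 0 u • S.x 1 t • v = S.x 1 t • S.x 0 u • v) ∧
    (S.x 2 u • S.x 1 t • v = S.x 1 t • S.x 2 u • v) ∧
    (S.x 3 u • S.x 1 t • v = S.x 1 t • S.x 3 u • v) ∧
    (S.x 4 u • S.x 1 t • v = S.x 1 t • S.x 4 u • v) ∧
    (S.x 5 u • S.x 1 t • v = S.x 1 t • S.x 5 u • S.x 0 (-(t * u)) • v) ∧
    (S.x 6 u • S.x 1 t • v = S.x 1 t • S.x 6 u • v) ∧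
    (S.x 7 u • S.x 1 t • v = S.x 1 t • S.x 7 u • S.x 2 (-(t * u)) • S.x 3 (t * u ^ 2) • S.x 5 (-(t * u ^ 3)) • S.x 0 (2 * t ^ 2 * u ^ 3) • v) ∧
    (S.x 8 u • S.x 1 t • v = S.x 1 t • S.x 8 u • v) ∧
    (S.x 9 u • S.x 1 t • v = S.x 1 t • S.x 9 u • S.x 4 (t * u) • S.x 8 (-(t * u ^ 2)) • S.x 11 (-(t * u ^ 3)) • S.x 6 (-(2 * t ^ 2 * u ^ 3)) • v) ∧
    (S.x 11 u • S.x 1 t • v = S.x 1 t • S.x 11 u • S.x 6 (t * u) • v) := by
  refine ⟨(xx S 1 0 [] (by decide +kernel) t u v).trans ?_, (xx S 1 2 [] (by decide +kernel) t u v).trans ?_, (xx S 1 3 [] (by decide +kernel) t u v).trans ?_, (xx S 1 4 [] (by decide +kernel) t u v).trans ?_, (xx S 1 5 [(0, 1, 1, 1)] (by decide +kernel) t u v).trans ?_, (xx S 1 6 [] (by decide +kernel) t u v).trans ?_, (xx S 1 7 [(2, 1, 1, 1), (3, -1, 1, 2), (5, 1, 1, 3), (0, 2, 2, 3)] (by decide +kernel) t u v).trans ?_, (xx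 S 1 8 [] (by decide +kernel) t u v).trans ?_, (xx S 1 9 [(4, -1, 1, 1), (8, 1, 1, 2), (11, 1, 1, 3), (6, -2, 2, 3)] (by decide +kernel) t u v).trans ?_, (xx S 1 11 [(6, -1, 1, 1)] (by decide +kernel) t u v).trans ?_⟩ <;>
    simp [PreChev.tval, mul_smul, Odd.neg_pow (show Odd 3 by decide)]

theorem mv4 (t u : F) (v : V) :
    (S.x 0 u • S.x 4 t • v = S.x 4 t • S.x 0 u • v) ∧
    (S.x 1 u • S.x 4 t • v = S.x 4 t • S.x 1 u • v) ∧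
    (S.x 2 u • S.x 4 t • v = S.x 4 t • S.x 2 u • S.x 1 (3 * t * u) • v) ∧
    (S.x 3 u • S.x 4 t • v = S.x 4 t • S.x 3 u • S.x 2 (-(2 * t * u)) • S.x 1 (-(3 * t ^ 2 * u)) • S.x 0 (-(3 * t * u ^ 2)) • v) ∧
    (S.x 5 u • S.x 4 t • v = S.x 4 t • S.x 5 u • S.x 3 (-(t * u)) • S.x 2 (t ^ 2 * u) • S.x 1 (t ^ 3 * u) • S.x 0 (-(t ^ 3 * u ^ 2)) • v) ∧
    (S.x 6 u • S.x 4 t • v = S.x 4 t • S.x 6 u • v) ∧
    (S.x 8 u • S.x 4 t • v = S.x 4 t • S.x 8 u • S.x 6 (3 * t * u) • v) ∧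
    (S.x 9 u • S.x 4 t • v = S.x 4 t • S.x 9 u • S.x 8 (2 * t * u) • S.x 6 (3 * t ^ 2 * u) • S.x 11 (3 * t * u ^ 2) • v) ∧
    (S.x 10 u • S.x 4 t • v = S.x 4 t • S.x 10 u • S.x 9 (-(t * u)) • S.x 8 (-(t ^ 2 * u)) • S.x 6 (-(t ^ 3 * u)) • S.x 11 (t ^ 3 * u ^ 2) • v) ∧
    (S.x 11 u • S.x 4 t • v = S.x 4 t • S.x 11 u • v) := by
  refine ⟨(xx S 4 0 [] (by decide +kernel) t u v).trans ?_, (xx S 4 1 [] (by decide +kernel) t u v).trans ?_, (xx S 4 2 [(1, -3, 1, 1)] (by decide +kernel) t u v).trans ?_, (xx S 4 3 [(2, 2, 1, 1), (1, -3, 2, 1), (0, 3, 1, 2)] (by decide +kernel) t u v).trans ?_, (xx S 4 5 [(3, 1, 1, 1), (2, 1, 2, 1), (1, -1, 3, 1), (0, 1, 3, 2)] (by decide +kernel) t u v).trans ?_, (xx S 4 6 [] (by decide +kernel) t u v).trans ?_, (xx S 4 8 [(6, -3, 1, 1)] (by decide +kernel) t u v).trans ?_, (xx S 4 9 [(8, -2, 1, 1), (6, 3, 2, 1),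 (11, -3, 1, 2)] (by decide +kernel) t u v).trans ?_, (xx S 4 10 [(9, 1, 1, 1), (8, -1, 2, 1), (6, 1, 3, 1), (11, -1, 3, 2)] (by decide +kernel) t u v).trans ?_, (xx S 4 11 [] (by decide +kernel) t u v).trans ?_⟩ <;>
    simp [PreChev.tval, mul_smul, Odd.neg_pow (show Odd 3 by decide)]

theorem mv5 (t u : F) (v : V) :
    (S.x 0 u • S.x 5 t • v = S.x 5 t • S.x 0 u • v) ∧
    (S.x 1 u • S.x 5 t • v = S.x 5 t • S.x 1 u • S.x 0 (t * u) • v) ∧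
    (S.x 2 u • S.x 5 t • v = S.x 5 t • S.x 2 u • v) ∧
    (S.x 3 u • S.x 5 t • v = S.x 5 t • S.x 3 u • v) ∧
    (S.x 4 u • S.x 5 t • v = S.x 5 t • S.x 4 u • S.x 3 (t * u) • S.x 2 (-(t * u ^ 2)) • S.x 1 (-(t * u ^ 3)) • S.x 0 (-(2 * t ^ 2 * u ^ 3)) • v) ∧
    (S.x 7 u • S.x 5 t • v = S.x 5 t • S.x 7 u • v) ∧
    (S.x 8 u • S.x 5 t • v = S.x 5 t • S.x 8 u • S.x 7 (-(t * u)) • S.x 9 (t * u ^ 2) • S.x 11 (-(t * u ^ 3)) • S.x 10 (2 * t ^ 2 * u ^ 3) • v) ∧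
    (S.x 9 u • S.x 5 t • v = S.x 5 t • S.x 9 u • v) ∧
    (S.x 10 u • S.x 5 t • v = S.x 5 t • S.x 10 u • v) ∧
    (S.x 11 u • S.x 5 t • v = S.x 5 t • S.x 11 u • S.x 10 (-(t * u)) • v) := by
  refine ⟨(xx S 5 0 [] (by decide +kernel) t u v).trans ?_, (xx S 5 1 [(0, -1, 1, 1)] (by decide +kernel) t u v).trans ?_, (xx S 5 2 [] (by decide +kernel) t u v).trans ?_, (xx S 5 3 [] (by decide +kernel) t u v).trans ?_, (xx S 5 4 [(3, -1, 1, 1), (2, 1, 1, 2), (1, 1, 1, 3), (0, -2, 2, 3)] (by decide +kernel) t u v).trans ?_, (xx S 5 7 [] (by decide +kernel) t u v).trans ?_, (xx S 5 8 [(7, 1, 1, 1), (9, -1, 1, 2), (11, 1, 1, 3), (10, 2, 2, 3)] (by decide +kernel) t u v).trans ?_, (xx S 5 9 [] (by decide +kernel) t u v).trans ?_, (xx S 5 10 [] (by decide +kernel) t u v).trans ?_, (xx S 5 11 [(10, 1, 1, 1)] (by decide +kernel) t u v).trans ?_⟩ <;>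
    simp [PreChev.tval, mul_smul, Odd.neg_pow (show Odd 3 by decide)]

theorem mv6 (t u : F) (v : V) :
    (S.x 0 u • S.x 6 t • v = S.x 6 t • S.x 0 u • S.x 1 (t * u) • v) ∧
    (S.x 1 u • S.x 6 t • v = S.x 6 t • S.x 1 u • v) ∧
    (S.x 2 u • S.x 6 t • v = S.x 6 t • S.x 2 u • v) ∧
    (S.x 3 u • S.x 6 t • v = S.x 6 t • S.x 3 u • S.x 4 (t * u) • S.x 2 (t * u ^ 2) • S.x 0 (t * u ^ 3) • S.x 1 (2 * t ^ 2 * u ^ 3) • v) ∧
    (S.x 4 u • S.x 6 t • v = S.x 6 t • S.x 4 u • v) ∧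
    (S.x 7 u • S.x 6 t • v = S.x 6 t • S.x 7 u • S.x 8 (-(t * u)) • S.x 9 (-(t * u ^ 2)) • S.x 10 (t * u ^ 3) • S.x 11 (-(2 * t ^ 2 * u ^ 3)) • v) ∧
    (S.x 8 u • S.x 6 t • v = S.x 6 t • S.x 8 u • v) ∧
    (S.x 9 u • S.x 6 t • v = S.x 6 t • S.x 9 u • v) ∧
    (S.x 10 u • S.x 6 t • v = S.x 6 t • S.x 10 u • S.x 11 (-(t * u)) • v) ∧
    (S.x 11 u • S.x 6 t • v = S.x 6 t • S.x 11 u • v) := by
  refine ⟨(xx S 6 0 [(1, -1, 1, 1)] (by decide +kernel) t u v).trans ?_, (xx S 6 1 [] (by decide +kernel) t u v).trans ?_, (xx S 6 2 [] (by decide +kernel) t u v).trans ?_, (xx S 6 3 [(4, -1, 1, 1), (2, -1, 1, 2), (0, -1, 1, 3), (1, 2, 2, 3)] (by decide +kernel) t u v).trans ?_, (xx S 6 4 [] (by decide +kernel) t u v).trans ?_, (xx S 6 7 [(8, 1, 1, 1), (9, 1, 1, 2), (10, -1, 1, 3), (11, -2, 2, 3)] (by decide +kernel) t u v).trans ?_, (xx S 6 8 [] (by decide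 +kernel) t u v).trans ?_, (xx S 6 9 [] (by decide +kernel) t u v).trans ?_, (xx S 6 10 [(11, 1, 1, 1)] (by decide +kernel) t u v).trans ?_, (xx S 6 11 [] (by decide +kernel) t u v).trans ?_⟩ <;>
    simp [PreChev.tval, mul_smul, Odd.neg_pow (show Odd 3 by decide)]

theorem mv7 (t u : F) (v : V) :
    (S.x 0 u • S.x 7 t • v = S.x 7 t • S.x 0 u • v) ∧
    (S.x 1 u • S.x 7 t • v = S.x 7 t • S.x 1 u • S.x 2 (t * u) • S.x 3 (-(t ^ 2 * u)) • S.x 5 (t ^ 3 * u) • S.x 0 (t ^ 3 * u ^ 2) • v) ∧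
    (S.x 2 u • S.x 7 t • v = S.x 7 t • S.x 2 u • S.x 3 (-(2 * t * u)) • S.x 5 (3 * t ^ 2 * u) • S.x 0 (3 * t * u ^ 2) • v) ∧
    (S.x 3 u • S.x 7 t • v = S.x 7 t • S.x 3 u • S.x 5 (-(3 * t * u)) • v) ∧
    (S.x 5 u • S.x 7 t • v = S.x 7 t • S.x 5 u • v) ∧
    (S.x 6 u • S.x 7 t • v = S.x 7 t • S.x 6 u • S.x 8 (t * u) • S.x 9 (t ^ 2 * u) • S.x 10 (-(t ^ 3 * u)) • S.x 11 (-(t ^ 3 * u ^ 2)) • v) ∧
    (S.x 8 u • S.x 7 t • v = S.x 7 t • S.x 8 u • S.x 9 (2 * t * u) • S.x 10 (-(3 * t ^ 2 * u)) • S.x 11 (-(3 * t * u ^ 2)) • v) ∧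
    (S.x 9 u • S.x 7 t • v = S.x 7 t • S.x 9 u • S.x 10 (-(3 * t * u)) • v) ∧
    (S.x 10 u • S.x 7 t • v = S.x 7 t • S.x 10 u • v) ∧
    (S.x 11 u • S.x 7 t • v = S.x 7 t • S.x 11 u • v) := by
  refine ⟨(xx S 7 0 [] (by decide +kernel) t u v).trans ?_, (xx S 7 1 [(2, -1, 1, 1), (3, -1, 2, 1), (5, -1, 3, 1), (0, -1, 3, 2)] (by decide +kernel) t u v).trans ?_, (xx S 7 2 [(3, 2, 1, 1), (5, 3, 2, 1), (0, -3, 1, 2)] (by decide +kernel) t u v).trans ?_, (xx S 7 3 [(5, 3, 1, 1)] (by decide +kernel) t u v).trans ?_, (xx S 7 5 [] (by decide +kernel) t u v).trans ?_, (xx S 7 6 [(8, -1, 1, 1), (9, 1, 2, 1), (10, 1, 3, 1), (11, 1, 3, 2)] (by decide +kernel) t u v).trans ?_, (xx S 7 8 [(9, -2, 1, 1), (10, -3, 2, 1), (11, 3, 1, 2)] (by decide +kernel) t u v).trans ?_, (xx S 7 9 [(10, 3, 1, 1)] (by decide +kernel) t u v).trans ?_, (xx S 7 10 [] (by decide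 +kernel) t u v).trans ?_, (xx S 7 11 [] (by decide +kernel) t u v).trans ?_⟩ <;>
    simp [PreChev.tval, mul_smul, Odd.neg_pow (show Odd 3 by decide)]

theorem mv8 (t u : F) (v : V) :
    (S.x 0 u • S.x 8 t • v = S.x 8 t • S.x 0 u • S.x 2 (t * u) • S.x 4 (t ^ 2 * u) • S.x 6 (-(t ^ 3 * u)) • S.x 1 (-(t ^ 3 * u ^ 2)) • v) ∧
    (S.x 1 u • S.x 8 t • v = S.x 8 t • S.x 1 u • v) ∧
    (S.x 2 u • S.x 8 t • v = S.x 8 t • S.x 2 u • S.x 4 (2 * t * u) • S.x 6 (-(3 * t ^ 2 * u)) • S.x 1 (-(3 * t * u ^ 2)) • v) ∧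
    (S.x 4 u • S.x 8 t • v = S.x 8 t • S.x 4 u • S.x 6 (-(3 * t * u)) • v) ∧
    (S.x 5 u • S.x 8 t • v = S.x 8 t • S.x 5 u • S.x 7 (t * u) • S.x 9 (-(t ^ 2 * u)) • S.x 11 (t ^ 3 * u) • S.x 10 (t ^ 3 * u ^ 2) • v) ∧
    (S.x 6 u • S.x 8 t • v = S.x 8 t • S.x 6 u • v) ∧
    (S.x 7 u • S.x 8 t • v = S.x 8 t • S.x 7 u • S.x 9 (-(2 * t * u)) • S.x 11 (3 * t ^ 2 * u) • S.x 10 (3 * t * u ^ 2) • v) ∧
    (S.x 9 u • S.x 8 t • v = S.x 8 t • S.x 9 u • S.x 11 (-(3 * t * u)) • v) ∧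
    (S.x 10 u • S.x 8 t • v = S.x 8 t • S.x 10 u • v) ∧
    (S.x 11 u • S.x 8 t • v = S.x 8 t • S.x 11 u • v) := by
  refine ⟨(xx S 8 0 [(2, -1, 1, 1), (4, 1, 2, 1), (6, 1, 3, 1), (1, 1, 3, 2)] (by decide +kernel) t u v).trans ?_, (xx S 8 1 [] (by decide +kernel) t u v).trans ?_, (xx S 8 2 [(4, -2, 1, 1), (6, -3, 2, 1), (1, 3, 1, 2)] (by decide +kernel) t u v).trans ?_, (xx S 8 4 [(6, 3, 1, 1)] (by decide +kernel) t u v).trans ?_, (xx S 8 5 [(7, -1, 1, 1), (9, -1, 2, 1), (11, -1, 3, 1), (10, -1, 3, 2)] (by decide +kernel) t u v).trans ?_, (xx S 8 6 [] (by decide +kernel) t u v).trans ?_, (xx S 8 7 [(9, 2, 1, 1), (11, 3, 2, 1), (10, -3, 1, 2)] (by decide +kernel) t u v).trans ?_, (xx S 8 9 [(11, 3, 1, 1)] (by decide +kernel) t u v).trans ?_, (xx S 8 10 [] (by decide +kernel) t u v).trans ?_, (xx S 8 11 [] (by decide +kernel) t u v).trans ?_⟩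 <;>
    simp [PreChev.tval, mul_smul, Odd.neg_pow (show Odd 3 by decide)]

theorem mv9 (t u : F) (v : V) :
    (S.x 0 u • S.x 9 t • v = S.x 9 t • S.x 0 u • S.x 3 (-(t * u)) • S.x 7 (-(t ^ 2 * u)) • S.x 10 (-(t ^ 3 * u)) • S.x 5 (t ^ 3 * u ^ 2) • v) ∧
    (S.x 1 u • S.x 9 t • v = S.x 9 t • S.x 1 u • S.x 4 (-(t * u)) • S.x 8 (t ^ 2 * u) • S.x 11 (t ^ 3 * u) • S.x 6 (-(t ^ 3 * u ^ 2)) • v) ∧
    (S.x 3 u • S.x 9 t • v = S.x 9 t • S.x 3 u • S.x 7 (2 * t * u) • S.x 10 (3 * t ^ 2 * u) • S.x 5 (3 * t * u ^ 2) • v) ∧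
    (S.x 4 u • S.x 9 t • v = S.x 9 t • S.x 4 u • S.x 8 (-(2 * t * u)) • S.x 11 (-(3 * t ^ 2 * u)) • S.x 6 (-(3 * t * u ^ 2)) • v) ∧
    (S.x 5 u • S.x 9 t • v = S.x 9 t • S.x 5 u • v) ∧
    (S.x 6 u • S.x 9 t • v = S.x 9 t • S.x 6 u • v) ∧
    (S.x 7 u • S.x 9 t • v = S.x 9 t • S.x 7 u • S.x 10 (3 * t * u) • v) ∧
    (S.x 8 u • S.x 9 t • v = S.x 9 t • S.x 8 u • S.x 11 (3 * t * u) • v) ∧
    (S.x 10 u • S.x 9 t • v = S.x 9 t • S.x 10 u • v) ∧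
    (S.x 11 u • S.x 9 t • v = S.x 9 t • S.x 11 u • v) := by
  refine ⟨(xx S 9 0 [(3, 1, 1, 1), (7, -1, 2, 1), (10, 1, 3, 1), (5, -1, 3, 2)] (by decide +kernel) t u v).trans ?_, (xx S 9 1 [(4, 1, 1, 1), (8, 1, 2, 1), (11, -1, 3, 1), (6, 1, 3, 2)] (by decide +kernel) t u v).trans ?_, (xx S 9 3 [(7, -2, 1, 1), (10, 3, 2, 1), (5, -3, 1, 2)] (by decide +kernel) t u v).trans ?_, (xx S 9 4 [(8, 2, 1, 1), (11, -3, 2, 1), (6, 3, 1, 2)] (by decide +kernel) t u v).trans ?_, (xx S 9 5 [] (by decide +kernel) t u v).trans ?_, (xx S 9 6 [] (by decide +kernel) t u v).trans ?_, (xx S 9 7 [(10, -3, 1, 1)] (by decide +kernel) t u v).trans ?_, (xx S 9 8 [(11, -3, 1, 1)] (by decide +kernel) t u v).trans ?_, (xx S 9 10 [] (by decide +kernel) t u v).trans ?_, (xx S 9 11 [] (by decide +kernel) t u v).trans ?_⟩ <;>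
    simp [PreChev.tval, mul_smul, Odd.neg_pow (show Odd 3 by decide)]

theorem mv10 (t u : F) (v : V) :
    (S.x 0 u • S.x 10 t • v = S.x 10 t • S.x 0 u • S.x 5 (-(t * u)) • v) ∧
    (S.x 2 u • S.x 10 t • v = S.x 10 t • S.x 2 u • S.x 7 (-(t * u)) • S.x 3 (-(t * u ^ 2)) • S.x 0 (t * u ^ 3) • S.x 5 (-(2 * t ^ 2 * u ^ 3)) • v) ∧
    (S.x 3 u • S.x 10 t • v = S.x 10 t • S.x 3 u • v) ∧
    (S.x 4 u • S.x 10 t • v = S.x 10 t • S.x 4 u • S.x 9 (t * u) • S.x 8 (t * u ^ 2) • S.x 6 (t * u ^ 3) • S.x 11 (2 * t ^ 2 * u ^ 3) • v) ∧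
    (S.x 5 u • S.x 10 t • v = S.x 10 t • S.x 5 u • v) ∧
    (S.x 6 u • S.x 10 t • v = S.x 10 t • S.x 6 u • S.x 11 (t * u) • v) ∧
    (S.x 7 u • S.x 10 t • v = S.x 10 t • S.x 7 u • v) ∧
    (S.x 8 u • S.x 10 t • v = S.x 10 t • S.x 8 u • v) ∧
    (S.x 9 u • S.x 10 t • v = S.x 10 t • S.x 9 u • v) ∧
    (S.x 11 u • S.x 10 t • v = S.x 10 t • S.x 11 u • v) := by
  refine ⟨(xx S 10 0 [(5, 1, 1, 1)] (by decide +kernel) t u v).trans ?_, (xx S 10 2 [(7, 1, 1, 1), (3, 1, 1, 2), (0, -1, 1, 3), (5, -2, 2, 3)] (by decide +kernel) t u v).trans ?_, (xx S 10 3 [] (by decide +kernel) t u v).trans ?_, (xx S 10 4 [(9, -1, 1, 1), (8, -1, 1, 2), (6, -1, 1, 3), (11, 2, 2, 3)] (by decide +kernel) t u v).trans ?_, (xx S 10 5 [] (by decide +kernel) t u v).trans ?_, (xx S 10 6 [(11, -1, 1, 1)] (by decide +kernel) t u v).trans ?_, (xx S 10 7 [] (by decide +kernel) t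 u v).trans ?_, (xx S 10 8 [] (by decide +kernel) t u v).trans ?_, (xx S 10 9 [] (by decide +kernel) t u v).trans ?_, (xx S 10 11 [] (by decide +kernel) t u v).trans ?_⟩ <;>
    simp [PreChev.tval, mul_smul, Odd.neg_pow (show Odd 3 by decide)]

theorem mv11 (t u : F) (v : V) :
    (S.x 1 u • S.x 11 t • v = S.x 11 t • S.x 1 u • S.x 6 (-(t * u)) • v) ∧
    (S.x 2 u • S.x 11 t • v = S.x 11 t • S.x 2 u • S.x 8 (-(t * u)) • S.x 4 (t * u ^ 2) • S.x 1 (-(t * u ^ 3)) • S.x 6 (2 * t ^ 2 * u ^ 3) • v) ∧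
    (S.x 3 u • S.x 11 t • v = S.x 11 t • S.x 3 u • S.x 9 (t * u) • S.x 7 (-(t * u ^ 2)) • S.x 5 (-(t * u ^ 3)) • S.x 10 (-(2 * t ^ 2 * u ^ 3)) • v) ∧
    (S.x 4 u • S.x 11 t • v = S.x 11 t • S.x 4 u • v) ∧
    (S.x 5 u • S.x 11 t • v = S.x 11 t • S.x 5 u • S.x 10 (t * u) • v) ∧
    (S.x 6 u • S.x 11 t • v = S.x 11 t • S.x 6 u • v) ∧
    (S.x 7 u • S.x 11 t • v = S.x 11 t • S.x 7 u • v) ∧
    (S.x 8 u • S.x 11 t • v = S.x 11 t • S.x 8 u • v) ∧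
    (S.x 9 u • S.x 11 t • v = S.x 11 t • S.x 9 u • v) ∧
    (S.x 10 u • S.x 11 t • v = S.x 11 t • S.x 10 u • v) := by
  refine ⟨(xx S 11 1 [(6, 1, 1, 1)] (by decide +kernel) t u v).trans ?_, (xx S 11 2 [(8, 1, 1, 1), (4, -1, 1, 2), (1, 1, 1, 3), (6, 2, 2, 3)] (by decide +kernel) t u v).trans ?_, (xx S 11 3 [(9, -1, 1, 1), (7, 1, 1, 2), (5, 1, 1, 3), (10, -2, 2, 3)] (by decide +kernel) t u v).trans ?_, (xx S 11 4 [] (by decide +kernel) t u v).trans ?_, (xx S 11 5 [(10, -1, 1, 1)] (by decide +kernel) t u v).trans ?_, (xx S 11 6 [] (by decide +kernel) t u v).trans ?_, (xx S 11 7 [] (by decide +kernel) t u v).trans ?_, (xx S 11 8 [] (by decide +kernel) t u v).trans ?_, (xx S 11 9 [] (by decide +kernel) t u v).trans ?_, (xx S 11 10 [] (by decide +kernel) t u v).trans ?_⟩ <;>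
    simp [PreChev.tval, mul_smul, Odd.neg_pow (show Odd 3 by decide)]

/-- signs -/
noncomputable def e (F : Type*) [Field F] (r s : I) : F := goodG2.C.eta r (goodG2.R.refl r s)

theorem e_ne (r s : I) : e F r s ≠ 0 := St.eta_ne _ _ _ _

theorem nx (r s k : I) (h : goodG2.R.cf k = goodG2.R.cf s - goodG2.R.pair r s • goodG2.R.cf r) (u : F) (v : V) :
    S.x s u • S.n r 1 • v = S.n r 1 • S.x k (e F r s * u) • v := by
  replace h := goodG2.R.cf_inj ((goodG2.R.cf_refl r s).trans h.symm)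
  have := S.nconj r k 1 one_ne_zero (e F r s * u)
  rw [← h, RootSys.refl_refl, one_zpow, mul_one, ← mul_assoc, show _ * e F r s = 1 from St.eta_sq _ _ _ _, one_mul] at this
  rw [← mul_smul, ← this, mul_smul, h]

theorem n7 (u : F) (v : V) : S.x 6 u • S.n 7 1 • v = S.n 7 1 • S.x 10 (e F 7 6 * u) • v ∧
    S.x 10 u • S.n 7 1 • v = S.n 7 1 • S.x 6 (e F 7 10 * u) • v ∧ S.x 8 u • S.n 7 1 • v = S.n 7 1 • S.x 9 (e F 7 8 * u) • v ∧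
    S.x 9 u • S.n 7 1 • v = S.n 7 1 • S.x 8 (e F 7 9 * u) • v ∧ S.x 11 u • S.n 7 1 • v = S.n 7 1 • S.x 11 (e F 7 11 * u) • v ∧
    S.x 5 u • S.n 7 1 • v = S.n 7 1 • S.x 1 (e F 7 5 * u) • v ∧ S.x 4 u • S.n 7 1 • v = S.n 7 1 • S.x 7 (e F 7 4 * u) • v := by
  refine ⟨?_, ?_, ?_, ?_, ?_, ?_, ?_⟩ <;> exact nx S _ _ _ (by decide +kernel) u v

theorem n6 (u : F) (v : V) : S.x 7 u • S.n 6 1 • v = S.n 6 1 • S.x 8 (e F 6 7 * u) • v ∧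
    S.x 8 u • S.n 6 1 • v = S.n 6 1 • S.x 7 (e F 6 8 * u) • v ∧ S.x 9 u • S.n 6 1 • v = S.n 6 1 • S.x 9 (e F 6 9 * u) • v ∧
    S.x 10 u • S.n 6 1 • v = S.n 6 1 • S.x 11 (e F 6 10 * u) • v ∧ S.x 11 u • S.n 6 1 • v = S.n 6 1 • S.x 10 (e F 6 11 * u) • v ∧
    S.x 5 u • S.n 6 1 • v = S.n 6 1 • S.x 6 (e F 6 5 * u) • v ∧ S.x 6 u • S.n 6 1 • v = S.n 6 1 • S.x 5 (e F 6 6 * u) • v ∧
    S.x 0 u • S.n 6 1 • v = S.n 6 1 • S.x 1 (e F 6 0 * u) • v ∧ S.x 1 u • S.n 6 1 • v = S.n 6 1 • S.x 0 (e F 6 1 * u) • v := by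
  refine ⟨?_, ?_, ?_, ?_, ?_, ?_, ?_, ?_, ?_⟩ <;> exact nx S _ _ _ (by decide +kernel) u v

/-- torus elements -/
noncomputable def T (a b : F) : Γ := (S.h 7 (a ^ 2 * b) * S.h 6 (a ^ 3 * b ^ 2))⁻¹

theorem tx {a b : F} (ha : a ≠ 0) (hb : b ≠ 0) (r : I) (i j : ℤ) (h : goodG2.R.pair 7 r = 2 * i - 3 * j ∧ goodG2.R.pair 6 r = 2 * j - i)
    (u : F) (v : V) : S.x r u • T S a b • v = T S a b • S.x r (a ^ i * b ^ j * u) • v := by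
  rw [T, eq_inv_smul_iff, ← mul_smul, mul_assoc, S.h_mul_x _ _ (by simp [*]), ← mul_assoc, S.h_mul_x _ _ (by simp [*]), mul_assoc,
    mul_smul, smul_inv_smul, h.1, h.2]
  congr 2
  simp only [mul_zpow, ← zpow_natCast, ← zpow_mul, ← mul_assoc]
  rw [show a ^ i = a ^ (((2 : ℕ) : ℤ) * (2 * i - 3 * j)) * a ^ (((3 : ℕ) : ℤ) * (2 * j - i)) by rw [← zpow_add₀ ha]; congr 1; push_cast; ring,
    show b ^ j = b ^ (2 * i - 3 * j) * b ^ (((2 : ℕ) : ℤ) * (2 * j - i)) by rw [← zpow_add₀ hb]; congr 1; push_cast; ring]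
  ring

theorem tt {a b : F} (ha : a ≠ 0) (hb : b ≠ 0) (u : F) (v : V) : S.x 6 u • T S a b • v = T S a b • S.x 6 (b * u) • v ∧
    S.x 7 u • T S a b • v = T S a b • S.x 7 (a * u) • v ∧ S.x 8 u • T S a b • v = T S a b • S.x 8 (a * b * u) • v ∧
    S.x 9 u • T S a b • v = T S a b • S.x 9 (a ^ 2 * b * u) • v ∧ S.x 10 u • T S a b • v = T S a b • S.x 10 (a ^ 3 * b * u) • v ∧
    S.x 11 u • T S a b • v = T S a b • S.x 11 (a ^ 3 * b ^ 2 * u) • v ∧ S.x 5 u • T S a b • v = T S a b • S.x 5 (b⁻¹ * u) • v ∧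
    S.x 0 u • T S a b • v = T S a b • S.x 0 ((a ^ 3 * b ^ 2)⁻¹ * u) • v ∧
    S.x 1 u • T S a b • v = T S a b • S.x 1 ((a ^ 3 * b)⁻¹ * u) • v := by
  refine ⟨(tx S ha hb 6 0 1 (by decide +kernel) u v).trans ?_, (tx S ha hb 7 1 0 (by decide +kernel) u v).trans ?_,
    (tx S ha hb 8 1 1 (by decide +kernel) u v).trans ?_, (tx S ha hb 9 2 1 (by decide +kernel) u v).trans ?_,
    (tx S ha hb 10 3 1 (by decide +kernel) u v).trans ?_, (tx S ha hb 11 3 2 (by decide +kernel) u v).trans ?_,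
    (tx S ha hb 5 0 (-1) (by decide +kernel) u v).trans ?_, (tx S ha hb 0 (-3) (-2) (by decide +kernel) u v).trans ?_,
    (tx S ha hb 1 (-3) (-1) (by decide +kernel) u v).trans ?_⟩ <;> simp [zpow_ofNat, mul_comm]

variable {S ψ} {l l' : List (I × F)} {v w : V} {r : I} {c : F}

theorem mem_W : v ∈ W V S ψ l ↔ ∀ p ∈ l, ∀ t, S.x p.1 t • v = ψ (p.2 * t) • v := by
  simp only [W, Submodule.mem_iInf]; rfl

theorem mem_cons : v ∈ W V S ψ ((r, c) :: l) ↔ (∀ t, S.x r t • v = ψ (c * t) • v) ∧ v ∈ W V S ψ l := by simp [mem_W]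

theorem mem_nil : v ∈ W V S ψ [] ↔ True := by simp [mem_W]

theorem sc (g : Γ) (c : ℂ) (v : V) : g • c • v = c • g • v := smul_comm g c v

theorem ss (a b : ℂ) (v : V) : a • b • v = (a * b) • v := smul_smul a b v

theorem D_le (g : Γ) (h : ∀ v ∈ W V S ψ l, g • v ∈ W V S ψ l') : D V S ψ l ≤ D V S ψ l' := finrank_le_of_smul h

theorem D_mono (h : ∀ v ∈ W V S ψ l, v ∈ W V S ψ l') : D V S ψ l ≤ D V S ψ l' := Submodule.finrank_mono h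

theorem D_perm (h : ∀ p, p ∈ l ↔ p ∈ l') : D V S ψ l = D V S ψ l' := by
  rw [D, D, show W V S ψ l = W V S ψ l' by ext; simp [mem_W, h]]

theorem dec' (hψ : ψ ≠ 1) {E : Submodule ℂ V} (r : I) (h : ∀ t, Inv E (S.x r t)) :
    finrank ℂ E = ∑ c, finrank ℂ ↥(E ⊓ Eg V ψ (S.x r) c) := by
  refine le_antisymm ?_ (sum_finrank_le univ _ (fun c _ c' _ h => (eg_ortho hψ h (S.x_add r)).mono inf_le_right inf_le_right)
    fun _ _ => inf_le_left)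
  have h1 : E ≤ ⨆ c ∈ (univ : Finset F), E ⊓ Eg V ψ (S.x r) c := fun v hv => by
    rw [← Submodule.smul_mem_iff _ (Nat.cast_ne_zero.2 Fintype.card_ne_zero : (Fintype.card F : ℂ) ≠ 0), ← sum_pj hψ (S.x_zero r)]
    exact Submodule.sum_mem _ fun c hc => Submodule.mem_iSup_of_mem c (Submodule.mem_iSup_of_mem hc
      ⟨Inv.pj h c hv, pj_mem (S.x_add r) c v⟩)
  refine (Submodule.finrank_mono h1).trans ?_
  generalize (univ : Finset F) = s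
  induction s using Finset.induction_on with
  | empty => simp
  | insert a s ha ih =>
    rw [Finset.iSup_insert, sum_insert ha]
    exact (Submodule.finrank_add_le_finrank_add_finrank _ _).trans (add_le_add le_rfl ih)

theorem dec (hψ : ψ ≠ 1) (r : I) (h : ∀ t, ∀ v ∈ W V S ψ l, S.x r t • v ∈ W V S ψ l) :
    D V S ψ l = ∑ c, D V S ψ ((r, c) :: l) := by
  rw [D, dec' hψ r h]
  refine sum_congr rfl fun c _ => ?_
  rw [D, show W V S ψ ((r, c) :: l) = W V S ψ l ⊓ Eg V ψ (S.x r) c from Submodule.ext fun v => mem_cons.trans and_comm]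

theorem D_pos : 0 < D V S ψ l ↔ ∃ v ∈ W V S ψ l, v ≠ 0 := by
  rw [D, pos_iff_ne_zero, Ne, Submodule.finrank_eq_zero]; exact Submodule.ne_bot_iff _

theorem sum_split {f : F → ℕ} {m : ℕ} (h : ∀ c, c ≠ 0 → f c = m) : ∑ c, f c = f 0 + (Fintype.card F - 1) * m := by
  rw [← add_sum_erase _ _ (mem_univ 0), sum_congr rfl fun c hc => h c (ne_of_mem_erase hc)]; simp

theorem ex (hψ : ψ ≠ 1) (r : I) (h : ∀ t, ∀ v ∈ W V S ψ l, S.x r t • v ∈ W V S ψ l) (h0 : 0 < D V S ψ l) :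
    ∃ c, 0 < D V S ψ ((r, c) :: l) := by
  rw [dec hψ r h] at h0
  by_contra! H
  simp [fun c => Nat.le_zero.1 (H c)] at h0

theorem two_le (hψ : ψ ≠ 1) (r : I) (h : ∀ t, ∀ v ∈ W V S ψ l, S.x r t • v ∈ W V S ψ l) {c c' : F} (hc : c ≠ c')
    (h1 : 0 < D V S ψ ((r, c) :: l)) (h2 : 0 < D V S ψ ((r, c') :: l)) : 2 ≤ D V S ψ l := by
  have := sum_le_sum_of_subset (f := fun c => D V S ψ ((r, c) :: l)) (subset_univ {c, c'})
  rw [sum_pair hc, ← dec hψ r h] at this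
  omega

theorem heis (hψ : ψ ≠ 1) (r : I) (h : ∀ t, ∀ v ∈ W V S ψ l, S.x r t • v ∈ W V S ψ l)
    (h' : ∀ c c', D V S ψ ((r, c) :: l) ≤ D V S ψ ((r, c') :: l)) (c : F) :
    D V S ψ l = Fintype.card F * D V S ψ ((r, c) :: l) := by
  rw [dec hψ r h, sum_congr rfl fun c' _ => (h' c' c).antisymm (h' c c')]; simp

theorem spl (hψ : ψ ≠ 1) (r : I) (h : ∀ t, ∀ v ∈ W V S ψ l, S.x r t • v ∈ W V S ψ l)
    (h' : ∀ c c', c ≠ 0 → c' ≠ 0 → D V S ψ ((r, c) :: l) ≤ D V S ψ ((r, c') :: l)) (hc : c ≠ 0) :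
    D V S ψ l = D V S ψ ((r, 0) :: l) + (Fintype.card F - 1) * D V S ψ ((r, c) :: l) := by
  rw [dec hψ r h, sum_split fun c' h => (h' c' c h hc).antisymm (h' c c' hc h)]

theorem fix_of (hψ : ψ ≠ 1) (r : I) (h : ∀ t, ∀ v ∈ W V S ψ l, S.x r t • v ∈ W V S ψ l)
    (h' : ∀ c, c ≠ 0 → D V S ψ ((r, c) :: l) = 0) (hv : v ∈ W V S ψ l) : v ∈ W V S ψ ((r, 0) :: l) := by
  have : D V S ψ l ≤ D V S ψ ((r, 0) :: l) := by rw [dec hψ r h, sum_split h']; simp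
  exact (Submodule.eq_of_le_of_finrank_le (fun v hv => (mem_cons.1 hv).2) this).ge hv

theorem eq_of_eig (hψ : ψ ≠ 1) {a b : F} (h0 : v ≠ 0) (h : ∀ t, ψ (a * t) • v = ψ (b * t) • v) : a = b := by
  by_contra e
  obtain ⟨t, ht⟩ := exists_psi_ne hψ (sub_ne_zero.2 e)
  refine ht ?_
  rw [sub_mul, AddChar.map_sub_eq_div, smul_left_injective ℂ h0 (h t), div_self (ψ.val_isUnit _).ne_zero]

/-- transport of weight vectors -/
macro "g2w" "[" a:Lean.Parser.Tactic.simpLemma,* "]" : tactic => `(tactic| (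
  intro v hv
  simp only [mem_cons, mem_nil, and_true] at hv ⊢
  simp only [$a,*, hv, sc, ss, ← AddChar.map_add_eq_mul]
  and_intros <;> intro t <;> first | trivial | (congr 2 <;> first | ring1 | (field_simp; done) | (field_simp; ring1) | skip)))

end H11.G2m
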