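import Cfsg.Agent.H11.G5c
import Cfsg.Agent.S0813
import Cfsg.Agent.S0815
import Cfsg.Agent.S2060
import Cfsg.Agent.H15.Mathieu
import Cfsg.Agent.H11.SUBasic

/-! Orders of the almost simple maximal subgroups of `SL₅(q)` and `SU₅(q)`. -/

set_option autoImplicit false
set_option linter.style.haveILetI false
set_option linter.unusedSectionVars false

namespace H11.G5

open Matrix Cfsg Cfsg.Geo H27.Asch Module H27 H4
open scoped commutatorElement MatrixGroups

variable {F : Type*} [Field F] [Fintype F] {q : ℕ} {H P : Subgroup (G5 F)}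

local notation "SL5" => specialLinear (Fin 5) F

theorem res_card (hc : IsResidualCore H P) (hH : H ≤ SL5) {G : Type*} [Group G]
    (e : Nonempty ((P ⧸ (scalars (Fin 5) F).subgroupOf P) ≃* G)) : Nat.card H ∣ 5 * Nat.card (MulAut G) := by
  obtain ⟨e⟩ := e
  rw [← Nat.card_congr (MulAut.congr e).toEquiv]
  let ψ : H →* MulAut P := P.normalizerMonoidHom.comp (Subgroup.inclusion fun h hh =>
    Subgroup.mem_normalizer_fintype (hc.normal h hh))
  have a : ∀ h : H, ((scalars (Fin 5) F).subgroupOf P).map (ψ h : P →* P) = (scalars (Fin 5) F).subgroupOf P := fun h => by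
    refine Subgroup.eq_of_le_of_card_ge ?_ (Subgroup.card_map_of_injective (ψ h).injective).ge
    rintro _ ⟨x, hx, rfl⟩
    exact scalars_normal.conj_mem _ hx h.1
  let φ : H →* MulAut (P ⧸ (scalars (Fin 5) F).subgroupOf P) :=
    .mk' (fun h => QuotientGroup.congr _ _ (ψ h) (a h)) fun g h => MulEquiv.ext fun x => by
      obtain ⟨x, rfl⟩ := QuotientGroup.mk_surjective x
      exact congrArg QuotientGroup.mk (MulEquiv.congr_fun (map_mul ψ g h) x)
  have b : ∀ h ∈ φ.ker, h.1 ∈ scalars _ F := fun h hh => hc.centralizer_scalar _ h.2 fun x hx => by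
    have c : ((ψ h ⟨x, hx⟩ : P) : P ⧸ (scalars (Fin 5) F).subgroupOf P) = (⟨x, hx⟩ : P) :=
      MulEquiv.congr_fun hh (⟨x, hx⟩ : P)
    have : x⁻¹ * (h * x * h.1⁻¹) ∈ scalars _ F := Subgroup.mem_subgroupOf.1 (QuotientGroup.eq.1 c.symm)
    simpa [mul_assoc] using scalars_normal.conj_mem _ this x
  haveI : IsCyclic (scalars (Fin 5) F) := isCyclic_of_surjective _ (MonoidHom.rangeRestrict_surjective _)
  haveI : IsCyclic φ.ker := isCyclic_of_injective ((H.subtype.comp φ.ker.subtype).codRestrict _ fun x => b x x.2)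
    fun a b e => Subtype.ext (Subtype.ext (congrArg (fun z : scalars (Fin 5) F => z.1) e))
  rw [← Subgroup.card_mul_index φ.ker, Subgroup.index_ker]
  refine Nat.mul_dvd_mul ?_ (Subgroup.card_subgroup_dvd_card _)
  rw [← IsCyclic.exponent_eq_card]
  exact Monoid.exponent_dvd_of_forall_pow_eq_one fun x =>
    Subtype.ext (Subtype.ext (five_of_scalar (b x x.2) (mem_SL.1 (hH x.1.2))))

theorem aut_L11 : Nat.card (MulAut PSL(2, ZMod 11)) = 1320 := by
  haveI : Fact (Nat.Prime 11) := ⟨by decide⟩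
  rw [Cfsg.Agent.S0813.result 11 1 le_rfl (by simp) 2 le_rfl (by decide), H11.card_pgl_eq_card_sl, H11.card_sl_two, ZMod.card]
  rfl

theorem aut_U42 {K : Type} [Field K] [Fintype K] (hK : Fintype.card K = 4) : Nat.card (MulAut (PSU 4 K 2)) = 51840 := by
  have := H11.card_psu (q := 2) hK (n := 4) (by decide)
  rw [Cfsg.Agent.S0815.result 2 1 le_rfl (q := 2) rfl hK 4 (by decide) (by decide)]
  simp [Finset.prod_range_succ, Nat.even_iff] at this ⊢
  omega

theorem aut_M11 : Nat.card (MulAut Spor.M11) ∣ 7920 := by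
  rw [← H15.card_M11, ← Subgroup.card_mul_index (MulAut.conj (G := Spor.M11)).range,
    show (MulAut.conj (G := Spor.M11)).range.index = 1 from Cfsg.Agent.S2060.result, mul_one]
  exact Subgroup.card_range_dvd _

variable (F) in
/-- the statement on the residual class in `SL₅(q)` -/
def ResL : Prop := ∀ H : Subgroup (G5 F), IsMaximalIn SL5 H → InLinearResidualClass H →
  ∃ (P : Subgroup (G5 F)) (p : ℕ), IsResidualCore H P ∧ p.Prime ∧ Fintype.card F = p ∧
    ((Nonempty ((P ⧸ (scalars (Fin 5) F).subgroupOf P) ≃* PSL(2, ZMod 11)) ∧ p ≠ 3 ∧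
      (p % 11 = 1 ∨ p % 11 = 3 ∨ p % 11 = 4 ∨ p % 11 = 5 ∨ p % 11 = 9)) ∨
     (Spor.IsoM11 (P ⧸ (scalars (Fin 5) F).subgroupOf P) ∧ p = 3) ∨
     ((∃ (K : Type) (_ : Field K) (_ : Fintype K), Fintype.card K = 4 ∧
       Nonempty ((P ⧸ (scalars (Fin 5) F).subgroupOf P) ≃* PSU 4 K 2)) ∧ p % 6 = 1))

variable (F q) in
/-- the statement on the residual class in `SU₅(q)` -/
def ResU : Prop := ∀ H : Subgroup (G5 F), IsMaximalIn (SU5 F q) H → InUnitaryResidualClass H →
  ∃ P : Subgroup (G5 F), IsResidualCore H P ∧ q.Prime ∧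
    ((Nonempty ((P ⧸ (scalars (Fin 5) F).subgroupOf P) ≃* PSL(2, ZMod 11)) ∧
      (q % 11 = 2 ∨ q % 11 = 6 ∨ q % 11 = 7 ∨ q % 11 = 8 ∨ q % 11 = 10)) ∨
     ((∃ (K : Type) (_ : Field K) (_ : Fintype K), Fintype.card K = 4 ∧
       Nonempty ((P ⧸ (scalars (Fin 5) F).subgroupOf P) ≃* PSU 4 K 2)) ∧ q % 6 = 5))

theorem ResL.card (h : ResL F) (hH : IsMaximalIn SL5 H) (hS : InLinearResidualClass H) :
    Nat.card H ∣ 2851200 ∧ (Fintype.card F = 3 → Nat.card H ∣ 39600) := by
  obtain ⟨P, p, hc, -, rfl, ⟨e, a, -⟩ | ⟨e, -⟩ | ⟨⟨K, _, _, hK, e⟩, a⟩⟩ := h H hH hS <;>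
    have := res_card hc hH.1.le e
  · exact ⟨this.trans (by rw [aut_L11]; decide), fun b => absurd b a⟩
  · have := this.trans (Nat.mul_dvd_mul_left 5 aut_M11)
    exact ⟨this.trans (by decide), fun _ => this⟩
  · exact ⟨this.trans (by rw [aut_U42 hK]; decide), fun b => by omega⟩

theorem ResU.card (h : ResU F q) (hH : IsMaximalIn (SU5 F q) H) (hS : InUnitaryResidualClass H) :
    Nat.card H ∣ 2851200 ∧ q ≠ 3 := by
  obtain ⟨P, hc, -, ⟨e, a⟩ | ⟨⟨K, _, _, hK, e⟩, a⟩⟩ := h H hH hS <;>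
    have := res_card hc (hH.1.le.trans inf_le_right) e
  · exact ⟨this.trans (by rw [aut_L11]; decide), by omega⟩
  · exact ⟨this.trans (by rw [aut_U42 hK]; decide), by omega⟩

theorem Has.res {M : Subgroup (G5 F)} {A : Subgroup Fˣ} (h : Has M A) (h3 : 3 ≤ Nat.card A) : ¬ Nat.card M ∣ 2851200 := fun e => by
  have a := h.card_dvd.trans e
  have b := Nat.le_of_dvd (by norm_num) a
  have : Nat.card A < 15 := lt_of_pow_lt_pow_left₀ 4 (by norm_num) (by omega)
  interval_cases Nat.card A <;> omega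

end H11.G5
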