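import Cfsg.Agent.H11.G5d
import Cfsg.Agent.S5793
import Cfsg.Agent.H12.SLList
import Cfsg.Agent.H12.RatSL4
import Cfsg.Agent.H12.U4a

/-! The geometric maximal subgroups of `SL₅(q)`. -/

set_option autoImplicit false
set_option linter.style.haveILetI false
set_option linter.unusedSectionVars false

namespace H11.G5

open Matrix Cfsg Cfsg.Geo H27.Asch Module H27 H4
open scoped commutatorElement MatrixGroups

variable {F : Type*} [Field F] [Fintype F] {q r : ℕ} {H M X Y R : Subgroup (G5 F)} {x y s B : G5 F} {σ : F →+* F}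
  {F₀ : Subfield F}

local notation "SL5" => specialLinear (Fin 5) F
local notation "𝐪" => Fintype.card F

section
variable {K : Subalgebra F (M5 F)} (hK : IsFieldSubalgebra 5 K) (hs : s.val ∈ K) (hd : s.val.det = 1)
include hs in
theorem pow_mem' (n : ℕ) : (s ^ n).val ∈ K := (Units.val_pow_eq_pow_val s n).symm ▸ pow_mem hs n

include hd in
theorem sg_sc {n : ℕ} (h : s ^ n ∈ scalars _ F) : orderOf s ∣ n * 5 :=
  orderOf_dvd_of_pow_eq_one (pow_mul s n 5 ▸ five_of_scalar h (det_pow' hd n))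

include hK hs hd

theorem sg_dec {D : Fin 5 → Submodule F (Fin 5 → F)} (hD : IsMDecomposition 1 D) (h : s ∈ decompositionStabilizer D) :
    orderOf s ∣ 600 := by
  obtain ⟨v, c, a, b⟩ := dec_eig hD h
  exact sg_sc hd (n := 120) (mem_scalars.2 ⟨c, fld_eig hK (pow_mem' hs 120) a b⟩)

theorem sg_orth (h2 : (2 : F) ≠ 0) {Φ : Frm (Fin 5) (.id F)} (h : s ∈ similarityGroup Φ.f) : orderOf s ∣ 5 :=
  orderOf_dvd_of_pow_eq_one (fld_orth hK h2 (pow_mem' hs 5) (det_pow' hd 5) (sim_five h hd))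

end

variable (hR : ResL F)
include hR

theorem sl_max (h0 : ¬ SL5 ≤ X) (hM : M = X ⊓ SL5) (h1 : Irr M)
    (h2 : 5 ≤ 𝐪 → ∀ D : Fin 5 → _, IsMDecomposition 1 D → M ≤ decompositionStabilizer D →
      Nat.card (decompositionStabilizer D ⊓ SL5 :) ≤ Nat.card M)
    (h3 : ∀ K, IsFieldSubalgebra 5 K → M ≤ subalgebraNormalizer K → Nat.card (subalgebraNormalizer K ⊓ SL5 :) ≤ Nat.card M)
    (h5 : ∀ F₁ : Subfield F, ∀ r B, r.Prime → 𝐪 = Nat.card F₁ ^ r → ¬ M ≤ subfieldSubgroup F₁ B)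
    (h6 : (𝐪).Prime → 𝐪 % 5 = 1 → ∀ R, C6 R → M ≤ subgroupNormalizer R → Nat.card (subgroupNormalizer R ⊓ SL5 :) ≤ Nat.card M)
    (h7 : Odd 𝐪 → ∀ Φ : Frm _ (.id F), Φ.ε = 1 → M ≤ similarityGroup Φ.f → Nat.card (similarityGroup Φ.f ⊓ SL5 :) ≤ Nat.card M)
    (h8 : ∀ q (hF : 𝐪 = q ^ 2) (Φ : Frm _ (H11.frob hF)), ¬ M ≤ similarityGroup Φ.f)
    (h9 : Nat.card M ∣ 2851200 → (𝐪 = 3 → Nat.card M ∣ 39600) → False) : IsMaximalIn SL5 M := by
  refine max_of (hM ▸ inf_lt h0) fun H hH e => ?_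
  rcases Cfsg.Agent.S5793.result H hH with ⟨W, a, b, rfl⟩ | ⟨a, D, b, rfl⟩ | ⟨K, b, rfl⟩ | ⟨F₁, r, B, a, b, rfl⟩ |
    ⟨⟨p, a, rfl, b⟩, R, c, rfl⟩ | ⟨a, Q, b, rfl⟩ | ⟨τ, f, a, rfl⟩ | h
  · exact absurd (e.trans inf_le_left) (not_stab h1 a b)
  · exact h2 a D b (e.trans inf_le_left)
  · exact h3 K b (e.trans inf_le_left)
  · exact absurd (e.trans inf_le_left) (h5 F₁ r B a b)
  · exact h6 a b R (c6_of c.1 c.2) (e.trans inf_le_left)
  · obtain ⟨Φ, c, d⟩ := quad_eq (two_ne_of_odd_card a) b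
    exact d ▸ h7 a Φ c (d ▸ e.trans inf_le_left)
  · obtain ⟨q, hF, Φ, c, rfl⟩ := unit_eq a
    exact absurd (e.trans inf_le_left) (h8 q hF Φ)
  · have a := Subgroup.card_dvd_of_le e
    exact (h9 (a.trans (hR.card hH h).1) fun b => a.trans ((hR.card hH h).2 b)).elim

theorem row2 (hq : 5 ≤ 𝐪) {D : Fin 5 → Submodule F (Fin 5 → F)} (hD : IsMDecomposition 1 D) :
    IsMaximalIn SL5 (decompositionStabilizer D ⊓ SL5) := by
  obtain ⟨B, hB⟩ := nf_dec hD
  refine max_cj' (cjP_SL B) (hB ▸ ?_)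
  have h : Has (Mon ⊓ SL5) ⊤ := ⟨fun _ a => ⟨mono_mem .., pm_mem a⟩, fun _ _ a => ⟨mono_mem .., dg_mem a⟩⟩
  have c := card_top (F := F)
  obtain ⟨a, ha⟩ := IsCyclic.exists_ofOrder_eq_natCard (α := Fˣ)
  rw [← Subgroup.card_top] at ha
  refine sl_max hR (fun e => (qs_SL (by simp)).not_dec hD (le_of_cjP (cjP_SL B) (hB ▸ e))) rfl
    (irr_of_alg (h.alg (a := a) trivial fun e => by rw [e, orderOf_one] at ha; omega))
    (fun _ D h _ => (nf_dec h).elim fun B e => same (cjP_SL B) e) (fun K hK e => absurd e (h.fld hK))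
    (fun F₁ r B h1 h2 e => ?_) (fun _ _ R h3 e => absurd e (h3.not_has h)) (fun _ Φ _ e => ?_) (fun q hF Φ e => ?_)
    fun e _ => h.res (by omega) e
  · have := h.sub e
    have := sub_small h1.two_le h2 (by omega) (by omega)
    omega
  · have := orderOf_le_of_pow_eq_one two_pos (h.quad e (a := a) trivial)
    omega
  · have := h.unit e
    rw [card_fixS] at this
    have := sub_small le_rfl hF (by omega) (by omega)
    omega

theorem row3 {K : Subalgebra F (M5 F)} (hK : IsFieldSubalgebra 5 K) : IsMaximalIn SL5 (subalgebraNormalizer K ⊓ SL5) := by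
  have q2 := Fintype.one_lt_card (α := F)
  have e0 : 𝐪 ^ 5 - 1 = (𝐪 - 1) * (𝐪 ^ 4 + 𝐪 ^ 3 + 𝐪 ^ 2 + 𝐪 + 1) := by
    obtain ⟨n, hn⟩ := Nat.exists_eq_add_of_lt q2
    rw [hn, Nat.add_sub_cancel]; exact Nat.sub_eq_of_eq_add (by ring)
  obtain ⟨s, hs, ho⟩ := fld_ord hK (N := 𝐪 ^ 4 + 𝐪 ^ 3 + 𝐪 ^ 2 + 𝐪 + 1) (e0 ▸ Dvd.intro_left _ rfl)
  have hd : s.val.det = 1 := by
    have := det_field (ι := Fin 5) hK hs
    rw [Nat.card_eq_fintype_card, Fintype.card_fin, e0, Nat.mul_div_cancel_left _ (by omega), ← ho,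
      ← Units.val_pow_eq_pow_val, pow_orderOf_eq_one] at this
    simpa using congrFun (congrFun this 0) 0
  have hM : s ∈ subalgebraNormalizer K ⊓ SL5 := ⟨fld_mem hK hs, mem_SL.2 hd⟩
  have m : ∀ a, a ≤ 𝐪 → a ^ 4 + a ^ 3 + a ^ 2 + a + 1 ≤ orderOf s := fun a h => by rw [ho]; gcongr
  have N := m 2 q2
  have k5 : s ^ 5 ∉ scalars _ F := fun h => by have := Nat.le_of_dvd (by norm_num) (sg_sc hd h); omega
  have b : ∀ f n, 2 ≤ f → f ^ 2 ≤ 𝐪 → 0 < n → n ≤ f ^ 5 + 1 → ¬ orderOf s ∣ 5 * n := fun f n a b c d e => by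
    have := Nat.le_of_dvd (by omega) e
    have := m _ b
    have : 2 ^ 3 ≤ f ^ 3 := Nat.pow_le_pow_left a 3
    have : 2 ^ 5 ≤ f ^ 5 := Nat.pow_le_pow_left a 5
    nlinarith [show (f ^ 2) ^ 4 = f ^ 3 * f ^ 5 by ring, Nat.zero_le ((f ^ 2) ^ 3), Nat.zero_le ((f ^ 2) ^ 2)]
  refine sl_max hR ((qs_SL (by simp)).not_field Nat.prime_five hK) rfl (fld_irr hK (pow_mem' hs 5) k5 (pow_mem hM 5))
    (fun h1 D h e => ?_) (fun K' h e => ?_) (fun F₁ r B h1 h2 e => ?_) (fun h1 h2 R h3 e => ?_) (fun h Φ _ e => ?_)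
    (fun q hF Φ e => ?_) fun e _ => ?_
  · have := Nat.le_of_dvd (by norm_num) (sg_dec hK hs hd h (e hM))
    have := m 5 h1
    omega
  · rw [fld_eq hK h (pow_mem' hs 5) (fld_five h (e hM)) k5]
  · obtain ⟨n, a1, a2, a3⟩ := sub_ord (e hM) hd
    exact b _ n Finite.one_lt_card (h2 ▸ Nat.pow_le_pow_right Nat.card_pos h1.two_le) a1 (by omega) a3
  · have := Nat.le_of_dvd (by norm_num) (orderOf_dvd_of_pow_eq_one (h3.pow (e hM) hd))
    have : 𝐪 ≠ 6 := fun a => absurd (a ▸ h1) (by decide)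
    have := m 11 (by omega)
    omega
  · have := Nat.le_of_dvd (by norm_num) (sg_orth hK hs hd (two_ne_of_odd_card h) (e hM))
    omega
  · exact b q _ (H11.two_le_of_card_sq hF) hF.ge (by positivity) le_rfl (orderOf_dvd_of_pow_eq_one
      (pow_mul s 5 _ ▸ fld_unit hK hF (pow_mem' hs 5) k5 (sim_five (e hM) hd)))
  · have a := (Subgroup.orderOf_dvd_natCard _ hM).trans e
    have := Nat.le_of_dvd (by norm_num) a
    have : 𝐪 < 42 := by by_contra! c; have := m 42 c; omega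
    rw [ho] at a
    interval_cases 𝐪 <;> omega

theorem row5 (hp : (𝐪).Prime) (h : IsLinearSymplecticTypeData 5 R) : IsMaximalIn SL5 (subgroupNormalizer R ⊓ SL5) := by
  have c := c6_of h.1 h.2
  have l := c.le amb_SL
  refine sl_max hR ((qs_SL (by simp)).not_norm h.1 h.2 fun g _ x hx => (MonoidHom.normal_ker _).conj_mem _ hx g) rfl
    (irr_of_alg (top_unique (c.E.top ▸ alg_mono l))) (fun _ D hD e => absurd e (c.dec amb_SL hD))
    (fun K hK e => absurd e (c.fld amb_SL hK)) (fun F₁ r B h1 h2 => absurd hp (not_prime_pow h1.two_le h2))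
    (fun _ _ R' h' _ => c.same amb_SL h' amb_SL) (fun _ Φ _ e => absurd (l.trans e) c.quad)
    (fun q hF => absurd hp (not_prime_pow le_rfl hF)) fun e _ => ?_
  exact absurd (c.card ▸ (Subgroup.card_dvd_of_le l).trans e) (by decide)

omit hR in
theorem has_emb {K : Type*} [Field K] (ι : K →+* F) (hM : (SI (σ := .id K) fun _ => rfl).map (emb ι 1) ≤ M) :
    Has M (.zpowers (-1)) := by
  have a : ∀ d s, emb ι 1 (monoU d s) = monoU (fun i => Units.map ι.toMonoidHom (d i)) s := fun d s =>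
    Units.ext (by rw [emb_val, cA_one]; ext i j; simp [monoU, mono, apply_ite ι])
  have h : Has (SI (σ := .id K) fun _ => rfl) (.zpowers (-1)) := has_SI (by
    rintro _ ⟨k, rfl⟩
    rw [RingHom.id_apply, ← Units.val_mul, ← mul_zpow]; simp)
  refine ⟨fun s e => hM ⟨_, h.pm s e, (a ..).trans (congrArg (monoU · s) (funext fun _ => map_one _))⟩, fun d b c => ?_⟩
  choose k hk using b
  obtain rfl : (fun i => (-1) ^ k i) = d := funext hk
  have e : ∀ n : ℤ, Units.map ι.toMonoidHom ((-1) ^ n) = (-1) ^ n := fun n => by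
    rw [map_zpow]; congr 1; exact Units.ext (by simp)
  refine hM ⟨_, h.dg (fun i => (-1) ^ k i) (fun i => ⟨_, rfl⟩) (Units.map_injective (f := ι.toMonoidHom) ι.injective ?_),
    (a ..).trans (congrArg (monoU · 1) (funext fun _ => e _))⟩
  simpa only [map_prod, e, map_one] using c

omit hR [Fintype F] in
theorem neg_ne (h2 : (2 : F) ≠ 0) : (-1 : Fˣ) ≠ 1 := fun e => h2 (by
  have := congrArg Units.val e
  simp only [Units.val_neg, Units.val_one] at this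
  linear_combination -this)

theorem row6 (hq : Odd 𝐪) {Q : (Fin 5 → F) → F} (hQ : IsNondegenerateQuadraticForm Q) :
    IsMaximalIn SL5 (quadSimilarityGroup Q ⊓ SL5) := by
  have h2 := two_ne_of_odd_card hq
  obtain ⟨Φ, c, d⟩ := quad_eq h2 hQ
  obtain ⟨B, hB⟩ := Frm.odd_similar h2 (by decide) (Frm.one _ fun _ => rfl) Φ rfl c
  refine max_cj' (cjP_SL B) (d ▸ cjP_sim hB ▸ ?_)
  have hM : (SI (σ := .id F) fun _ => rfl).map (emb (.id F) 1) ≤ similarityGroup (Frm.one (σ := .id F) _ fun _ => rfl).f ⊓ SL5 :=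
    (emb_SI _ fun _ => rfl).trans (inf_le_inf_right _ (Frm.iso_le_sim _))
  have h := has_emb _ hM
  have k := so_D h2 _ hM
  have := card_top (F := F)
  refine sl_max hR (not_SL_le_sim (by simp) _) rfl (irr_of_alg (h.alg (Subgroup.mem_zpowers _) (neg_ne h2)))
    (fun _ D hD e => absurd e (so_dec h2 _ hM (n := 0) (by simp) hD)) (fun K hK e => absurd e (h.fld hK))
    (fun F₁ r B h1 h3 e => ?_) (fun _ _ R h3 e => absurd e (h3.not_has h)) (fun _ Φ h _ => ?_) (fun q hF Φ e => ?_)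
    fun e e' => ?_
  · have := cnt_D1 (A := ⊤) (.id F) fun a _ => (k a).elim fun x h => h.2.2.1 ▸ sub_real (e h.1) h.2.1 h.2.2.2
    exact absurd (sub_small h1.two_le h3 (by omega) Fintype.one_lt_card ▸ hq) (by decide)
  · exact (Frm.odd_similar h2 (by decide) _ Φ rfl h).elim fun B e => same (cjP_SL B) (cjP_sim e)
  · have := cnt_D1 (A := ⊤) (.id F) fun a _ => (k a).elim fun x h => h.2.2.1 ▸ sim_real (e h.1) h.2.1 h.2.2.2
    rw [card_fixS] at this
    exact absurd (sub_small le_rfl hF (by omega) Fintype.one_lt_card ▸ hq) (by decide)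
  · obtain ⟨U, a, b⟩ := so_U h2 _ hM
    have c := b ▸ Subgroup.card_dvd_of_le a
    have d := c.trans e
    have : 𝐪 < 42 := lt_of_pow_lt_pow_left₀ 4 (by norm_num) ((Nat.le_of_dvd (by norm_num) d).trans_lt (by norm_num))
    have := Fintype.one_lt_card (α := F)
    have f := fun h => c.trans (e' h)
    rw [Nat.odd_iff] at hq
    interval_cases 𝐪 <;> omega

theorem s5792 :
    (∀ W : Submodule F (Fin 5 → F), W ≠ ⊥ → W ≠ ⊤ → IsMaximalIn SL5 (subspaceStabilizer W ⊓ SL5)) ∧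
    (5 ≤ 𝐪 → ∀ D : Fin 5 → Submodule F (Fin 5 → F), IsMDecomposition 1 D → IsMaximalIn SL5 (decompositionStabilizer D ⊓ SL5)) ∧
    (∀ K : Subalgebra F (M5 F), IsFieldSubalgebra 5 K → IsMaximalIn SL5 (subalgebraNormalizer K ⊓ SL5)) ∧
    (∀ (F₀ : Subfield F) (r : ℕ) (P : G5 F), r.Prime → 𝐪 = Nat.card F₀ ^ r → IsMaximalIn SL5 (subfieldSubgroup F₀ P ⊓ SL5)) ∧
    ((∃ p : ℕ, p.Prime ∧ 𝐪 = p ∧ (p % 5 = 1)) → ∀ R : Subgroup (G5 F), IsLinearSymplecticTypeData 5 R →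
      IsMaximalIn SL5 (subgroupNormalizer R ⊓ SL5)) ∧
    (Odd 𝐪 → ∀ Q : (Fin 5 → F) → F, IsNondegenerateQuadraticForm Q → IsMaximalIn SL5 (quadSimilarityGroup Q ⊓ SL5)) ∧
    (∀ (σ : F ≃+* F) (f : (Fin 5 → F) → (Fin 5 → F) → F), IsUnitaryForm σ f → IsMaximalIn SL5 (similarityGroup f ⊓ SL5)) :=
  ⟨H12.SLL.sub, fun h _ => row2 hR h, fun _ => row3 hR, H12.sl4_field (by decide), fun ⟨_, a, b, _⟩ _ => row5 hR (b ▸ a),
    fun h _ => row6 hR h, H12.sl4_herm (by decide)⟩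

end H11.G5
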