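import Cfsg.Agent.H11.G5e
import Cfsg.Agent.S5796
import Cfsg.Agent.H12.SUList
import Cfsg.Agent.H12.U4d

/-! The geometric maximal subgroups of `SU₅(q)`. -/

set_option autoImplicit false
set_option linter.style.haveILetI false
set_option linter.unusedSectionVars false

namespace H11.G5

open Matrix Cfsg Cfsg.Geo H27.Asch Module H27 H4
open scoped commutatorElement MatrixGroups

variable {F : Type*} [Field F] [Fintype F] {q r : ℕ} {H M X Y R : Subgroup (G5 F)} {x y s B : G5 F}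
  {F₀ : Subfield F} (hF : Fintype.card F = q ^ 2) (hR : ResU F q)

local notation "𝔟" => H11.frob hF

include hF hR

theorem su_max (h0 : ¬ SU5 F q ≤ X) (hM : M = X ⊓ SU5 F q) (h1 : Irr M)
    (h2 : ∀ D : Fin 5 → _, IsNondegenerateMDecomposition (hermForm 5 F q) 1 D → M ≤ decompositionStabilizer D →
      Nat.card (decompositionStabilizer D ⊓ SU5 F q :) ≤ Nat.card M)
    (h3 : ∀ K, IsFieldSubalgebra 5 K → M ≤ subalgebraNormalizer K →
      Nat.card (subalgebraNormalizer K ⊓ SU5 F q :) ≤ Nat.card M)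
    (h5 : ∀ (F₁ : Subfield F) (r n : ℕ) B, 3 ≤ r → Odd r → 2 ≤ n → Nat.card F₁ = n ^ 2 → q = n ^ r → n ^ 3 ≤ q →
      ¬ M ≤ subfieldSubgroup F₁ B)
    (h6 : Odd q → ∀ B, IsFormRationalStructure (hermForm 5 F q) (fixS 𝔟) 1 B → M ≤ subfieldSubgroup (fixS 𝔟) B →
      ∀ Ψ : Frm (Fin 5) (.id F), M ≤ similarityGroup Ψ.f →
      Nat.card (subfieldSubgroup (fixS 𝔟) B ⊓ SU5 F q :) ≤ Nat.card M)
    (h7 : q = 4 ∨ 9 ≤ q → ∀ R, C6 R → Amb (SU5 F q) R → M ≤ subgroupNormalizer R →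
      Nat.card (subgroupNormalizer R ⊓ SU5 F q :) ≤ Nat.card M)
    (h9 : Nat.card M ∣ 2851200 → q ≠ 3 → False) : IsMaximalIn (SU5 F q) M := by
  refine max_of (hM ▸ inf_lt h0) fun H hH e => ?_
  rcases Cfsg.Agent.S5796.result q hF H hH with ⟨W, a, b, rfl⟩ | ⟨W, a, b, c, rfl⟩ | ⟨D, b, rfl⟩ | ⟨-, K, b, -, rfl⟩ |
    ⟨F₁, r, B, a, b, c, d, rfl⟩ | ⟨a, F₁, B, c, d, rfl⟩ | ⟨p, R, a, -, b, c, d, f, -, -, rfl⟩ | h
  · refine absurd (e.trans inf_le_left) (not_stab h1 a ?_)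
    rintro rfl
    simpa [hermForm, Fin.sum_univ_five] using b (Pi.single 0 1) trivial (Pi.single 0 1) trivial
  · exact absurd (e.trans inf_le_left) (not_stab h1 a (by rintro rfl; simp at c))
  · exact h2 D b (e.trans inf_le_left)
  · exact h3 K b (e.trans inf_le_left)
  · obtain ⟨n, a1, a2, a3, a4⟩ := five_u hF a b c
    exact absurd (e.trans inf_le_left) (h5 F₁ r n B (by have := a.two_le; obtain ⟨k, rfl⟩ := b; omega) b a1 a2 a3 a4)
  · obtain rfl := eq_fixS hF c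
    obtain ⟨Ψ, f⟩ := real_bil hF d (hM ▸ inf_le_right) (e.trans inf_le_left)
    exact h6 a B d (e.trans inf_le_left) Ψ f
  · refine h7 ?_ R (c6_of c d) ((c6_of c d).amb_SU hF f) (e.trans inf_le_left)
    rcases b with ⟨rfl, b⟩ | ⟨rfl, b⟩
    · omega
    · by_cases h : p = 2
      · exact .inl (by rw [h]; rfl)
      · exact .inr (by have := a.two_le; nlinarith [show 3 ≤ p by omega])
  · exact (h9 ((Subgroup.card_dvd_of_le e).trans (hR.card hH h).1) (hR.card hH h).2).elim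

theorem urow3 {D : Fin 5 → Submodule F (Fin 5 → F)} (hD : IsNondegenerateMDecomposition (hermForm 5 F q) 1 D) :
    IsMaximalIn (SU5 F q) (decompositionStabilizer D ⊓ SU5 F q) := by
  obtain ⟨B, hS, hB⟩ := nf_udec hF hD
  refine max_cj' hS (hB ▸ ?_)
  obtain ⟨a, ha⟩ := exists_norm_one hF
  have q2 := H11.two_le_of_card_sq hF
  have h' : Has (SU5 F q) (.zpowers a) := SU5_eq hF ▸ has_SI (by
    rintro _ ⟨k, rfl⟩
    rw [norm_one, ← zpow_natCast, ← _root_.zpow_mul, mul_comm, _root_.zpow_mul, zpow_natCast, ← ha, pow_orderOf_eq_one,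
      _root_.one_zpow])
  have h : Has (Mon ⊓ SU5 F q) (.zpowers a) := ⟨fun s b => ⟨mono_mem .., h'.pm s b⟩, fun d b c => ⟨mono_mem .., h'.dg d b c⟩⟩
  have c := Nat.card_zpowers a
  refine su_max hF hR (fun e => (qs_SU hF (by decide) (by simp)).not_dec hD.decomp (le_of_cjP hS (hB ▸ e))) rfl
    (irr_of_alg (h.alg (Subgroup.mem_zpowers a) fun e => by rw [e, orderOf_one] at ha; omega))
    (fun D h _ => (nf_udec hF h).elim fun B e => same e.1 e.2) (fun K hK e => absurd e (h.fld hK))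
    (fun F₁ r n B _ _ a1 a2 _ a3 e => ?_) (fun _ B _ _ Ψ e => ?_) (fun _ R h3 _ e => absurd e (h3.not_has h))
    fun e _ => h.res (by omega) e
  · have := h.sub e
    nlinarith
  · have := orderOf_le_of_pow_eq_one two_pos (h.quad e (Subgroup.mem_zpowers a))
    omega

theorem urow4 (hq : 3 ≤ q) {K : Subalgebra F (M5 F)} (hK : IsFieldSubalgebra 5 K)
    (hA : IsAdjointClosedFor (hermForm 5 F q) K) : IsMaximalIn (SU5 F q) (subalgebraNormalizer K ⊓ SU5 F q) := by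
  obtain ⟨n, rfl⟩ : ∃ n, q = n + 1 := ⟨q - 1, by omega⟩
  have n2 : 2 ≤ n := by omega
  have e0 : ((n + 1) ^ 2) ^ 5 - 1 = ((n + 1) ^ 2 - 1) * ((n ^ 4 + 3 * n ^ 3 + 4 * n ^ 2 + 2 * n + 1) *
      (n ^ 4 + 5 * n ^ 3 + 10 * n ^ 2 + 10 * n + 5)) := by
    rw [show (n + 1) ^ 2 - 1 = n ^ 2 + 2 * n from Nat.sub_eq_of_eq_add (by ring)]; exact Nat.sub_eq_of_eq_add (by ring)
  obtain ⟨s, hs, ho⟩ := fld_ord hK (N := n ^ 4 + 3 * n ^ 3 + 4 * n ^ 2 + 2 * n + 1)
    (by rw [hF, e0]; exact (dvd_mul_right ..).mul_left _)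
  have hS := (mem_su_iff hF Nat.prime_five hK hA hs).2 (orderOf_dvd_iff_pow_eq_one.1 (ho ▸ Nat.dvd_gcd ⟨n + 2, by ring⟩ (by
    rw [e0, Nat.mul_div_cancel_left _ (Nat.sub_pos_of_lt (by nlinarith))]; exact dvd_mul_right ..)))
  have hd := mem_SL.1 hS.2
  have hM : s ∈ subalgebraNormalizer K ⊓ SU5 F (n + 1) := ⟨fld_mem hK hs, hS⟩
  have m : ∀ a, a ≤ n → a ^ 4 + 3 * a ^ 3 + 4 * a ^ 2 + 2 * a + 1 ≤ orderOf s := fun a h => by rw [ho]; gcongr
  have N := m 2 n2
  have k5 : s ^ 5 ∉ scalars _ F := fun h => by have := Nat.le_of_dvd (by norm_num) (sg_sc hd h); omega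
  refine su_max hF hR ((qs_SU hF (by decide) (by simp)).not_field Nat.prime_five hK) rfl
    (fld_irr hK (pow_mem' hs 5) k5 (pow_mem hM 5)) (fun D h e => ?_) (fun K' h e => ?_) (fun F₁ r f B a0 ao a1 a2 a3 a4 e => ?_)
    (fun h B _ _ Ψ e => ?_) (fun h1 R h3 _ e => ?_) fun e _ => ?_
  · have a := sg_dec hK hs hd h.1 (e hM)
    have := Nat.le_of_dvd (by norm_num) a
    have : n < 5 := by by_contra! c; have := m 5 c; omega
    rw [ho] at a
    interval_cases n <;> omega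
  · rw [fld_eq hK h (pow_mem' hs 5) (fld_five h (e hM)) k5]
  · obtain ⟨o, b1, b2, b3⟩ := sub_ord (e hM) hd
    have b4 := Nat.le_of_dvd (by omega) b3
    rw [a2] at b2
    by_cases f2 : f = 2
    · subst f2
      by_cases r3 : r = 3
      · subst r3
        obtain rfl : n = 7 := by omega
        rw [ho] at b3
        have := Nat.le_of_dvd b1 (Nat.Coprime.dvd_of_dvd_mul_left (by norm_num) b3)
        omega
      · have : 2 ^ 5 ≤ 2 ^ r := Nat.pow_le_pow_right two_pos (by obtain ⟨k, rfl⟩ := ao; omega)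
        have := m 31 (by omega)
        omega
    · obtain ⟨g, hg⟩ : ∃ g, f ^ 3 = g + 1 := ⟨f ^ 3 - 1, by have := Nat.one_le_pow 3 f (by omega); omega⟩
      have := m g (by omega)
      have c1 : 3 ^ 2 ≤ f ^ 2 := Nat.pow_le_pow_left (by omega) 2
      have c2 : 3 ^ 3 ≤ f ^ 3 := Nat.pow_le_pow_left (by omega) 3
      have c3 : (f ^ 2) ^ 5 * f ^ 2 = (g + 1) ^ 4 := by rw [← hg]; ring
      have c4 : 26 * g ^ 3 ≤ g ^ 4 := by rw [pow_succ' g 3]; exact Nat.mul_le_mul_right _ (by omega)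
      have c5 : (f ^ 2) ^ 5 * 9 ≤ (g + 1) ^ 4 := c3 ▸ Nat.mul_le_mul_left _ c1
      nlinarith
  · have := Nat.le_of_dvd (by norm_num) (sg_orth hK hs hd (two_ne_of_odd_card (hF ▸ h.pow)) (e hM))
    omega
  · have a := orderOf_dvd_of_pow_eq_one (h3.pow (e hM) hd)
    have := Nat.le_of_dvd (by norm_num) a
    rcases h1 with h1 | h1
    · obtain rfl : n = 3 := by omega
      rw [ho] at a; omega
    · have := m 8 (by omega); omega
  · have a := (Subgroup.orderOf_dvd_natCard _ hM).trans e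
    have := Nat.le_of_dvd (by norm_num) a
    have : n < 41 := by by_contra! c; have := m 41 c; omega
    rw [ho] at a
    interval_cases n <;> omega

theorem urow6 (ho : Odd q) (hB : IsFormRationalStructure (hermForm 5 F q) (fixS 𝔟) 1 B) :
    IsMaximalIn (SU5 F q) (subfieldSubgroup (fixS 𝔟) B ⊓ SU5 F q) := by
  obtain ⟨C, c1, c2⟩ := nf_real hF ho hB
  refine max_cj' c1 (c2 ▸ ?_)
  haveI := Fintype.ofFinite (fixS 𝔟)
  have hK : Fintype.card (fixS 𝔟) = q := by rw [← Nat.card_eq_fintype_card, card_fixS]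
  have h2 := two_ne_of_odd_card (hK ▸ ho)
  have h2' := two_ne_of_odd_card (hF ▸ ho.pow)
  have hM : (SI (σ := .id _) fun _ => rfl).map (emb (fixS 𝔟).subtype 1) ≤ subfieldSubgroup (fixS 𝔟) 1 ⊓ SU5 F q :=
    le_inf (by rintro _ ⟨y, -, rfl⟩; exact emb_mem_sub 1 y) (SU5_eq hF ▸ emb_SI _ fun a => a.2)
  have h := has_emb _ hM
  have k := so_D h2 _ hM
  refine su_max hF hR ((qs_SU hF (by decide) (by simp)).not_subfield (fixS_ne_top (H11.frob_ne_id hF)) 1) rfl
    (irr_of_alg (h.alg (Subgroup.mem_zpowers _) (neg_ne h2')))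
    (fun D hD e => absurd e (so_dec h2 _ hM (n := 1) (by rw [hK, hF]) hD.1)) (fun K hK e => absurd e (h.fld hK))
    (fun F₁ r n B a0 _ a1 a2 a3 a4 e => ?_) (fun _ B h _ _ _ => (nf_real hF ho h).elim fun B e => same e.1 e.2)
    (fun _ R h3 _ e => absurd e (h3.not_has h)) fun e e' => ?_
  · have := cnt_D1 (A := ⊤) _ fun a _ => (k a).elim fun x h => h.2.2.1 ▸ sub_real (e h.1) h.2.1 h.2.2.2
    have := card_top (F := fixS 𝔟)
    obtain rfl : n = 2 := by nlinarith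
    exact absurd (a3 ▸ ho) (by simp [Nat.even_pow]; omega)
  · obtain ⟨U, a, b⟩ := so_U h2 _ hM
    have d := (b ▸ Subgroup.card_dvd_of_le a).trans e
    rw [hK] at d
    have f : q < 42 := lt_of_pow_lt_pow_left₀ 4 (by norm_num) ((Nat.le_of_dvd (by norm_num) d).trans_lt (by norm_num))
    have := H11.two_le_of_card_sq hF
    rw [Nat.odd_iff] at ho
    clear * - d this ho e' f
    interval_cases q <;> omega

theorem urow7 {p : ℕ} (hp : p.Prime) (hq : q = p ∨ q = p ^ 2) (h1 : IsSymplecticTypeGroup 5 R)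
    (ha : ActsAbsolutelyIrreducibly (matrixSet R)) (h : R ≤ similarityGroup (hermForm 5 F q)) :
    IsMaximalIn (SU5 F q) (subgroupNormalizer R ⊓ SU5 F q) := by
  have c := c6_of h1 ha
  have a := c.amb_SU hF h
  have l := c.le a
  refine su_max hF hR ((qs_SU hF (by decide) (by simp)).not_norm h1 ha fun g hg x hx =>
      mem_cjP.1 ((cjP_SU hF (suΦ_f hF ▸ h hg)).ge hx)) rfl
    (irr_of_alg (top_unique (c.E.top ▸ alg_mono l))) (fun D hD e => absurd e (c.dec a hD.1))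
    (fun K hK e => absurd e (c.fld a hK)) (fun F₁ r n B a0 ao a1 _ a3 _ _ => ?_)
    (fun _ _ _ _ Ψ e => absurd (l.trans e) c.quad) (fun _ R' h' a' _ => c.same a h' a') fun e _ => ?_
  · rcases hq with rfl | rfl
    · exact not_prime_pow (by omega) a3 hp
    · obtain ⟨m, -, b⟩ := sq_of ao a3 (by omega)
      exact not_prime_pow (by omega) b hp
  · exact absurd (c.card ▸ (Subgroup.card_dvd_of_le l).trans e) (by decide)

theorem s5795 :
    (∀ W : Submodule F (Fin 5 → F), W ≠ ⊥ → IsTotallySingularFor (hermForm 5 F q) W →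
      IsMaximalIn (SU5 F q) (subspaceStabilizer W ⊓ SU5 F q)) ∧
    (∀ W : Submodule F (Fin 5 → F), W ≠ ⊥ → IsNondegenerateOn (hermForm 5 F q) W → 2 * finrank F W < 5 →
      IsMaximalIn (SU5 F q) (subspaceStabilizer W ⊓ SU5 F q)) ∧
    (∀ D : Fin 5 → Submodule F (Fin 5 → F), IsNondegenerateMDecomposition (hermForm 5 F q) 1 D →
      IsMaximalIn (SU5 F q) (decompositionStabilizer D ⊓ SU5 F q)) ∧
    (3 ≤ q → ∀ K : Subalgebra F (M5 F), IsFieldSubalgebra 5 K → IsAdjointClosedFor (hermForm 5 F q) K →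
      IsMaximalIn (SU5 F q) (subalgebraNormalizer K ⊓ SU5 F q)) ∧
    (∀ (F₀ : Subfield F) (r : ℕ) (P : G5 F), r.Prime → Odd r → Fintype.card F = Nat.card F₀ ^ r →
      IsFormRationalStructure (hermForm 5 F q) F₀ 1 P → IsMaximalIn (SU5 F q) (subfieldSubgroup F₀ P ⊓ SU5 F q)) ∧
    (Odd q → ∀ (F₀ : Subfield F) (P : G5 F), Fintype.card F = Nat.card F₀ ^ 2 →
      IsFormRationalStructure (hermForm 5 F q) F₀ 1 P → IsMaximalIn (SU5 F q) (subfieldSubgroup F₀ P ⊓ SU5 F q)) ∧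
    (∀ (p : ℕ) (R : Subgroup (G5 F)), p.Prime → CharP F p → ((q = p ∧ p % 5 = 4) ∨ (q = p ^ 2 ∧ (p % 5 = 2 ∨ p % 5 = 3))) →
      IsSymplecticTypeGroup 5 R → ActsAbsolutelyIrreducibly (matrixSet R) → R ≤ similarityGroup (hermForm 5 F q) →
      Nat.card R = 125 → Nat.card (Subgroup.center R) = 5 → IsMaximalIn (SU5 F q) (subgroupNormalizer R ⊓ SU5 F q)) := by
  refine ⟨fun W => H12.sul_ts hF le_rfl, fun W => H12.sul_nondeg hF le_rfl, fun D => urow3 hF hR, fun a K => urow4 hF hR a,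
    fun F₀ r P => H12.su4_rat hF (by decide), fun a F₀ P c d => ?_,
    fun p R a _ b c d e _ _ => urow7 hF hR a (b.imp And.left And.left) c d e⟩
  obtain rfl := eq_fixS hF c
  exact urow6 hF hR a d

end H11.G5
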