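import Cfsg.Agent.H11.LS2
import Cfsg.Agent.H11.SpSimple

/-!
# Landazuri-Seitz bounds for `SL_n` and `Sp_2n`
-/

set_option autoImplicit false

namespace H11.LS

open Module Finset Matrix
open scoped commutatorElement

theorem card_le_mul_nrm {F : Type*} [Field F] [Fintype F] [DecidableEq F] (σ : F →+* F) {r : ℕ}
    (hr0 : 0 < r) (hr : ∀ s, s * σ s = s ^ r) : Fintype.card F - 1 ≤ r * #(nrm σ) := by
  rw [← card_univ, ← card_erase_of_mem (mem_univ (0 : F))]
  refine card_le_mul_card_image _ _ fun c _ => le_trans ?_ (Polynomial.card_nthRoots r c)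
  refine le_trans (card_le_card fun s hs => ?_) (Multiset.toFinset_card_le _)
  rw [Multiset.mem_toFinset, Polynomial.mem_nthRoots hr0, ← hr]
  exact (mem_filter.1 hs).2

theorem Sieg.bound' {F U G k V : Type*} [Field F] {σ : F →+* F} [AddCommGroup U] [Module F U]
    [Group G] (S : Sieg σ U G) [Field k] [AddCommGroup V] [Module k V] (ρ : G →* End k V)
    [Fintype F] [Fintype U] [IsAlgClosed k] [FiniteDimensional k V]
    (hσ : ∀ a, σ (σ a) = a) (hp : (ringChar F : k) ≠ 0) {r : ℕ}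
    (hr0 : 0 < r) (hr : ∀ s, s * σ s = s ^ r)
    (hT : ∀ (v : U) (f : Dual F U), f v = 0 → S.Ind (1 + f.smulRight v))
    (htr : ∀ v w : U, v ≠ 0 → w ≠ 0 → ∃ g : End F U, g v = w ∧ S.Ind g)
    {e : U} {t₀ : F} (hnt : ρ (S.x e (t₀ • e)) ≠ 1) {d : ℕ}
    (hd : ∀ ψ : AddChar F k, ψ ≠ 1 → (∀ t, ψ (σ t) = ψ t) → ∀ χ, wt (S.op ρ) χ ≠ ⊥ →
      (∀ t, χ (e, t • e) = ψ t) → d ≤ finrank k (wt (S.op ρ) χ)) :
    (Fintype.card U - 1) * d ≤ r * finrank k V := by
  classical
  have h1 := S.bound ρ hσ hp hT htr hnt hd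
  have h2 := card_le_mul_nrm σ hr0 hr
  have h3 : 0 < #(nrm σ) := card_pos.2 ⟨1, (mem_nrm σ).2 ⟨1, one_ne_zero, by simp⟩⟩
  refine Nat.le_of_mul_le_mul_right ?_ h3
  have := Nat.mul_le_mul_right (finrank k V) h2
  nlinarith

theorem one_le_finrank {k V : Type*} [Field k] [AddCommGroup V] [Module k V]
    [FiniteDimensional k V] {W : Submodule k V} (h : W ≠ ⊥) : 1 ≤ finrank k W :=
  Nat.pos_of_ne_zero fun h' => h (Submodule.finrank_eq_zero.1 h')

theorem le_center_or {G : Type*} [Group G] (hp : commutator G = ⊤)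
    (hs : IsSimpleGroup (G ⧸ Subgroup.center G)) (N : Subgroup G) [hN : N.Normal] :
    N ≤ Subgroup.center G ∨ N = ⊤ := by
  rcases (hN.map _ (QuotientGroup.mk'_surjective (Subgroup.center G))).eq_bot_or_eq_top with h | h
  · left; rwa [Subgroup.map_eq_bot_iff, QuotientGroup.ker_mk'] at h
  · right
    rw [eq_top_iff, ← hp, commutator_def, Subgroup.commutator_le]
    intro a _ b _
    obtain ⟨n, hn, hna⟩ := h.ge (Subgroup.mem_top (QuotientGroup.mk' _ a))
    obtain ⟨z, hz, rfl⟩ := (QuotientGroup.mk'_eq_mk' _).1 hna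
    have := Subgroup.mem_center_iff.1 hz
    have h2 : ⁅n * z, b⁆ = n * (b * n⁻¹ * b⁻¹) := by
      rw [commutatorElement_def, _root_.mul_inv_rev, mul_assoc n z b, ← this b]; group
    rw [h2]
    exact N.mul_mem hn (hN.conj_mem _ (N.inv_mem hn) b)

theorem ne_one_of_irred {G : Type*} [Group G] (hp : commutator G = ⊤)
    (hs : IsSimpleGroup (G ⧸ Subgroup.center G)) {n : ℕ} (ρ : Representation ℂ G (Fin n → ℂ))
    (hρ : ρ.IsIrreducible) (hn : 2 ≤ n) {g : G} (hg : g ∉ Subgroup.center G) : ρ g ≠ 1 := by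
  intro h
  rcases le_center_or hp hs ρ.asGroupHom.ker with h1 | h1
  · exact hg (h1 (Units.ext h))
  · have h2 : ∀ g, ρ g = 1 := fun g =>
      congrArg Units.val (h1 ▸ Subgroup.mem_top g : g ∈ ρ.asGroupHom.ker)
    let W : Subrepresentation ρ := ⟨Submodule.span ℂ {1}, fun g v hv => by simpa [h2] using hv⟩
    have h3 : (1 : Fin n → ℂ) ≠ 0 := fun e => by simpa using congrFun e ⟨0, by omega⟩
    have h4 := finrank_span_singleton (K := ℂ) h3
    rcases eq_bot_or_eq_top W with h5 | h5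
    · have : Submodule.span ℂ {(1 : Fin n → ℂ)} = ⊥ := congrArg Subrepresentation.toSubmodule h5
      rw [this] at h4; simp at h4
    · have : Submodule.span ℂ {(1 : Fin n → ℂ)} = ⊤ := congrArg Subrepresentation.toSubmodule h5
      rw [this] at h4; simp at h4; omega

/-- Base change of a matrix representation to the algebraic closure. -/
noncomputable def bc {G K : Type*} [Group G] [Field K] {d : ℕ} (ρ : G →* GL (Fin d) K) :
    G →* End (AlgebraicClosure K) (Fin d → AlgebraicClosure K) :=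
  (Matrix.toLinAlgEquiv'.toMonoidHom.comp
    (algebraMap K (AlgebraicClosure K)).mapMatrix.toMonoidHom).comp ((Units.coeHom _).comp ρ)

theorem bc_eq_one {G K : Type*} [Group G] [Field K] {d : ℕ} (ρ : G →* GL (Fin d) K) {g : G}
    (h : bc ρ g = 1) : g ∈ ρ.ker := by
  have h1 : Matrix.toLinAlgEquiv' ((ρ g).1.map (algebraMap K (AlgebraicClosure K))) = 1 := h
  rw [map_eq_one_iff _ Matrix.toLinAlgEquiv'.injective,
    ← Matrix.map_one _ (map_zero (algebraMap K (AlgebraicClosure K))) (map_one _)] at h1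
  exact Units.ext (Matrix.map_injective (algebraMap K _).injective h1)

theorem char_ne {F K : Type*} [Field F] [Finite F] [Field K] (h : ringChar K ≠ ringChar F) :
    (ringChar F : AlgebraicClosure K) ≠ 0 := by
  rw [← map_natCast (algebraMap K _), _root_.map_ne_zero, Ne, ringChar.spec]
  intro h'
  have hp := CharP.char_is_prime F (ringChar F)
  exact ((Nat.dvd_prime hp).1 h').elim (CharP.ringChar_ne_one) h

section Tv

variable {F ι : Type*} [Field F] [Fintype ι] [DecidableEq ι]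

theorem dual_dot (f : Dual F (ι → F)) (u : ι → F) : (fun i => f (Pi.single i 1)) ⬝ᵥ u = f u := by
  rw [LinearMap.pi_apply_eq_sum_univ f u, dotProduct]
  refine sum_congr rfl fun i _ => ?_
  rw [smul_eq_mul, mul_comm]; congr 2; ext j; simp [Pi.single_apply, eq_comm]

theorem exists_mat_tv (v : ι → F) (f : Dual F (ι → F)) (h : f v = 0) :
    ∃ g : Matrix ι ι F, g.det = 1 ∧ ∀ u, g *ᵥ u = (1 + f.smulRight v : End F _) u := by
  have hf := dual_dot f
  refine ⟨1 + vecMulVec v fun i => f (Pi.single i 1), ?_, fun u => ?_⟩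
  · rw [vecMulVec_eq Unit, det_one_add_replicateCol_mul_replicateRow, hf, h, add_zero]
  · simp [add_mulVec, vecMulVec_mulVec, hf]

end Tv

section Sp

variable {F ι : Type*} [Field F] [Fintype ι] [DecidableEq ι]

/-- The Siegel unipotent elements. -/
def spX (S : Matrix ι ι F) (hS : Sᵀ = S) : symplecticGroup ι F :=
  ⟨fromBlocks 1 S 0 1, SymplecticGroup.mem_iff.2 (by
    simp [Matrix.J, fromBlocks_transpose, fromBlocks_multiply, hS])⟩

/-- The Siegel Levi elements. -/
def spL (h g : Matrix ι ι F) (hg : h * g = 1) : symplecticGroup ι F :=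
  ⟨fromBlocks h 0 0 gᵀ, SymplecticGroup.mem_iff.2 (by
    simp [Matrix.J, fromBlocks_transpose, fromBlocks_multiply, hg, ← transpose_mul])⟩

variable (F ι) in
/-- The Siegel radical of `Sp`. -/
def spSieg : Sieg (RingHom.id F) (ι → F) (symplecticGroup ι F) where
  x u w := spX (vecMulVec u w + vecMulVec w u) (by simp [add_comm])
  add u w w' := Subtype.ext (by
    simp [spX, fromBlocks_multiply, vecMulVec_add, add_vecMulVec]; abel)
  comm u w u' w' := Subtype.ext (by simp [spX, fromBlocks_multiply]; abel)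
  swap u w := Subtype.ext (by simp [spX, add_comm])
  smul t u w := Subtype.ext (by simp [spX, vecMulVec_smul, smul_vecMulVec])

theorem spSieg_ind {g : Matrix ι ι F} (hg : IsUnit g.det) {g' : End F (ι → F)}
    (h : ∀ u, g *ᵥ u = g' u) : (spSieg F ι).Ind g' :=
  ⟨spL g⁻¹ g (nonsing_inv_mul g hg), fun u w => Subtype.ext (by
    have h1 : ∀ a b, vecMulVec (g *ᵥ a) (g *ᵥ b) = g * vecMulVec a b * gᵀ := fun a b => by
      rw [mul_vecMulVec, vecMulVec_mul, vecMul_transpose]
    simp only [spSieg, spX, spL, Submonoid.coe_mul, fromBlocks_multiply, ← h, h1]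
    simp [Matrix.mul_add, Matrix.add_mul, ← Matrix.mul_assoc, nonsing_inv_mul g hg])⟩

theorem spSieg_tv (v : ι → F) (f : Dual F (ι → F)) (h : f v = 0) :
    (spSieg F ι).Ind (1 + f.smulRight v) := by
  obtain ⟨g, hg, hg'⟩ := exists_mat_tv v f h
  exact spSieg_ind (by simp [hg]) hg'

theorem sp_bound [Fintype F] {k V : Type*} [Field k] [AddCommGroup V] [Module k V] [IsAlgClosed k]
    [FiniteDimensional k V] (ρ : symplecticGroup ι F →* End k V) (hp : (ringChar F : k) ≠ 0)
    (h2 : 2 ≤ Fintype.card ι) {e : ι → F} {t : F} (hnt : ρ ((spSieg F ι).x e (t • e)) ≠ 1) :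
    Fintype.card F ^ Fintype.card ι - 1 ≤ 2 * finrank k V := by
  classical
  have := (spSieg F ι).bound' ρ (fun _ => rfl) hp (r := 2) two_pos (fun s => by simp [sq])
    spSieg_tv (fun v w => trans_of_tv (by simpa using h2) (fun _ _ => Sieg.Ind.mul) spSieg_tv)
    hnt (d := 1) fun _ _ _ _ h _ => one_le_finrank h
  simpa using this

theorem spSieg_not_center (h2 : (2 : F) ≠ 0) (i : ι) :
    (spSieg F ι).x (Pi.single i 1) ((1 : F) • Pi.single i 1) ∉ Subgroup.center _ := fun h => by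
  have : Nonempty ι := ⟨i⟩
  obtain ⟨c, hc⟩ : ∃ c : F, ((spSieg F ι).x (Pi.single i 1) ((1 : F) • Pi.single i 1)).1 = c • 1 := by
    rcases (sp_mem_center_iff _).1 h with h | h
    · exact ⟨1, by rw [h, one_smul]⟩
    · exact ⟨-1, by rw [h]; simp⟩
  have := congrFun (congrFun hc (Sum.inl i)) (Sum.inr i)
  simp [spSieg, spX, vecMulVec_apply] at this
  exact h2 (one_add_one_eq_two.symm.trans this)

end Sp

section SL

variable {F ι : Type*} [Field F] [Fintype ι] [DecidableEq ι]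

/-- The unipotent radical of a hyperplane stabiliser. -/
def slX (u : ι → F) : SpecialLinearGroup (ι ⊕ Unit) F :=
  ⟨fromBlocks 1 (replicateCol Unit u) 0 1, by simp [det_fromBlocks_zero₂₁]⟩

theorem slX_add (u w : ι → F) : slX (u + w) = slX u * slX w :=
  Subtype.ext (show _ = (slX u).1 * (slX w).1 by simp [slX, fromBlocks_multiply, add_comm])

theorem slX_zero : slX (0 : ι → F) = 1 := Subtype.ext (by simp [slX])

theorem slX_pow (u : ι → F) (n : ℕ) : slX u ^ n = slX (n • u) := by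
  induction n with
  | zero => simp [slX_zero]
  | succ n ih => rw [pow_succ, ih, succ_nsmul, slX_add]

theorem sl_bound [Fintype F] {k V : Type*} [Field k] [AddCommGroup V] [Module k V] [IsAlgClosed k]
    [FiniteDimensional k V] (ρ : SpecialLinearGroup (ι ⊕ Unit) F →* End k V)
    (hp : (ringChar F : k) ≠ 0) (h2 : 2 ≤ Fintype.card ι) {e : ι → F} (hnt : ρ (slX e) ≠ 1) :
    Fintype.card F ^ Fintype.card ι - 1 ≤ finrank k V := by
  classical
  let f : (ι → F) → End k V := fun u => ρ (slX u)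
  have hc : ∀ u w, Commute (f u) (f w) := fun u w =>
    Commute.map (by rw [Commute, SemiconjBy, ← slX_add, ← slX_add, add_comm]) ρ
  obtain ⟨χ, hχ, hχ1⟩ := exists_wt_ne_one hc (i := e) hp (by
    rw [← map_pow, slX_pow, ← Nat.cast_smul_eq_nsmul F, ringChar.Nat.cast_ringChar, zero_smul,
      slX_zero, map_one]) hnt
  obtain ⟨v, hv, hv0⟩ := Submodule.exists_mem_ne_zero_of_ne_bot hχ
  have hv' := mem_wt.1 hv
  have hinj : ∀ {a b : k}, a • v = b • v → a = b := fun h => smul_left_injective k hv0 h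
  let c : AddChar (ι → F) k :=
    { toFun := χ
      map_zero_eq_one' := hinj (by rw [← hv']; simp [f, slX_zero])
      map_add_eq_mul' := fun a b => hinj (by
        rw [← hv', mul_comm, mul_smul, ← hv' a, ← map_smul, ← hv']
        simp only [f, slX_add, map_mul]; rfl) }
  let ψ : AddChar F k := c.compAddMonoidHom (LinearMap.toSpanSingleton F _ e).toAddMonoidHom
  have hψ1 : ψ ≠ 1 := fun h => hχ1 (by simpa [ψ, c] using DFunLike.congr_fun h 1)
  obtain ⟨φ, hφ⟩ := exists_dual ψ hψ1 c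
  obtain ⟨b, hb⟩ : ∃ b : ι → F, ∀ u, χ u = ψ (b ⬝ᵥ u) := ⟨_, fun u => by rw [dual_dot]; exact hφ u⟩
  have hb0 : b ≠ 0 := fun h => hχ1 (by simp [hb, h])
  have key : ∀ b' : ι → F, b' ≠ 0 → wt f (fun u => ψ (b' ⬝ᵥ u)) ≠ ⊥ := fun b' h' => by
    have hT : ∀ (a : ι → F) (φ : Dual F (ι → F)), φ a = 0 → ∀ b, wt f (fun u => ψ (b ⬝ᵥ u)) ≠ ⊥ →
        wt f (fun u => ψ ((1 + φ.smulRight a : End F _) b ⬝ᵥ u)) ≠ ⊥ := fun a φ hab b hφ => by
      obtain ⟨g, hg, hg'⟩ := exists_mat_tv a φ hab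
      obtain ⟨w, hw, hw0⟩ := Submodule.exists_mem_ne_zero_of_ne_bot hφ
      let γ : SpecialLinearGroup (ι ⊕ Unit) F := ⟨fromBlocks gᵀ 0 0 1, by simp [hg]⟩
      have h1 : ∀ u, γ * slX u = slX (gᵀ *ᵥ u) * γ := fun u => Subtype.ext
        (show γ.1 * (slX u).1 = (slX _).1 * γ.1 by simp [γ, slX, fromBlocks_multiply, replicateCol_mulVec])
      have h3 := map_mem_wt (T := ρ γ⁻¹) (s := fun u => gᵀ *ᵥ u) (fun u => by
        simp only [f, ← map_mul]
        exact congrArg ρ (eq_inv_mul_iff_mul_eq.2 (by rw [← mul_assoc, h1]; simp))) hw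
      refine (Submodule.ne_bot_iff _).2 ⟨ρ γ⁻¹ w, ?_, fun h => hw0 ?_⟩
      · convert h3 using 2
        ext u
        rw [← hg', Function.comp_apply, dotProduct_mulVec, vecMul_transpose]
      · exact ((Module.End.isUnit_iff _).1 ((Group.isUnit γ⁻¹).map ρ)).1 (by simpa using h)
    obtain ⟨g, rfl, hg⟩ := trans_of_tv (U := ι → F) (by simpa using h2)
      (P := fun g => ∀ b, wt f (fun u => ψ (b ⬝ᵥ u)) ≠ ⊥ → wt f (fun u => ψ (g b ⬝ᵥ u)) ≠ ⊥)
      (fun g h hg hh φ hφ => hg _ (hh _ hφ)) hT hb0 h'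
    exact hg b (by rwa [← funext hb])
  have h3 := card_mul_le_of_wt hc (κ := {b' : ι → F // b' ≠ 0})
    (χ := fun b' u => ψ (b'.1 ⬝ᵥ u)) (d := 1)
    (fun a b h => Subtype.ext (funext fun i => eq_of_psi ψ hψ1 fun t => by
      simpa [mul_comm] using congrFun h (Pi.single i t))) fun φ' => one_le_finrank (key _ φ'.2)
  simpa using h3

end SL

end H11.LS
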