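import Cfsg.Agent.H11.LS1

/-!
# Orbits on Hermitian forms and the Siegel radical bound
-/

set_option autoImplicit false

namespace H11.LS

open Module Finset

section Count

variable {F U : Type*} [Field F] [Fintype F] [DecidableEq F] [AddCommGroup U] [Module F U]
  [Fintype U] [DecidableEq U] (σ : F →+* F)

/-- The nonzero norms. -/
def nrm : Finset F := (univ.erase 0).image fun s => s * σ s

theorem mem_nrm {c : F} : c ∈ nrm σ ↔ ∃ s, s ≠ 0 ∧ s * σ s = c := by simp [nrm]

theorem ne_zero_of_mem_nrm {c : F} (h : c ∈ nrm σ) : c ≠ 0 := by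
  obtain ⟨s, hs, rfl⟩ := (mem_nrm σ).1 h
  exact mul_ne_zero hs ((map_ne_zero σ).2 hs)

/-- Hermitian forms. -/
def Herm (B : U → Dual F U) : Prop := ∀ u w, B u w = σ (B w u)

omit [DecidableEq F] [DecidableEq U] in
theorem card_ker_mul {W : Type*} [AddCommGroup W] [Module F W] [Finite W] {f : Dual F W}
    (hf : f ≠ 0) : Nat.card (LinearMap.ker f) * Fintype.card F = Nat.card W := by
  have : Module.Finite F W := Module.Finite.of_finite
  rw [natCard_eq_pow_finrank (K := F), natCard_eq_pow_finrank (K := F) (V := W),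
    ← Dual.finrank_ker_add_one_of_ne_zero hf, pow_succ, Nat.card_eq_fintype_card]

theorem omega_bound {B : U → Dual F U} (hB : Herm σ B) :
    Fintype.card F * #{v | B v v ∈ nrm σ} + Fintype.card U ≤ Fintype.card F * Fintype.card U := by
  classical
  rcases (filter (fun v => B v v ∈ nrm σ) univ).eq_empty_or_nonempty with h | ⟨e, he⟩
  · rw [h]
    simpa using Nat.le_mul_of_pos_left _ Fintype.card_pos
  have he := (mem_filter.1 he).2
  have hc := ne_zero_of_mem_nrm σ he
  have key : ∀ x : LinearMap.ker (B e), ∃ t : F, B (x + t • e) (x + t • e) ∉ nrm σ := fun x => by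
    by_contra! hx
    have hx0 : B e x = 0 := x.2
    have h1 : ∀ t : F, B (x + t • e) (x + t • e) = B x x + B e e * (t * σ t) := fun t => by
      have hee : σ (B e e) = B e e := (hB e e).symm
      have hxx : σ (B x x) = B x x := (hB x x).symm
      have hxe : B x e = 0 := by rw [hB, hx0, map_zero]
      rw [map_add, map_smul, hB _ x, hB _ e]
      simp only [map_add, map_smul, smul_eq_mul, map_mul, hx0, hxe, hee, hxx, map_zero]; ring
    have h2 : (insert 0 (nrm σ)).card ≤ (nrm σ).card :=
      card_le_card_of_injOn (fun c => B x x + B e e * c) (fun c hc' => by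
        rcases mem_insert.1 (mem_coe.1 hc') with rfl | hc'
        · simpa [h1] using hx 0
        · obtain ⟨s, -, rfl⟩ := (mem_nrm σ).1 hc'
          simpa [h1] using hx s) fun a _ b _ h => mul_left_cancel₀ hc (add_left_cancel h)
    rw [card_insert_of_notMem fun h => ne_zero_of_mem_nrm σ h rfl] at h2
    omega
  choose t ht using key
  have h1 : Nat.card (LinearMap.ker (B e)) ≤ #{v | ¬ B v v ∈ nrm σ} := by
    rw [← Fintype.card_coe, ← Nat.card_eq_fintype_card]
    refine Nat.card_le_card_of_injective (fun x => ⟨x + t x • e, by simpa using ht x⟩)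
      fun x y h => ?_
    have h := congrArg Subtype.val h
    simp only at h
    have h2 := congrArg (B e) h
    have hx : B e x = 0 := x.2
    have hy : B e y = 0 := y.2
    simp only [map_add, map_smul, hx, hy, zero_add, smul_eq_mul] at h2
    rw [mul_right_cancel₀ hc h2] at h
    exact Subtype.ext (add_right_cancel h)
  have h2 := card_ker_mul (f := B e) fun h => hc (by simp [h])
  have h3 := card_filter_add_card_filter_not (s := (univ : Finset U)) fun v => B v v ∈ nrm σ
  rw [card_univ] at h3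
  rw [Nat.card_eq_fintype_card (α := U)] at h2
  nlinarith

/-- Transform of a form. -/
def tr (B : U → Dual F U) (g : End F U) : U → Dual F U := fun u => (B (g u)).comp g

omit [Fintype F] [DecidableEq F] [Fintype U] [DecidableEq U] in
theorem Herm.tr {σ : F →+* F} {B : U → Dual F U} (h : Herm σ B) (g : End F U) :
    Herm σ (tr B g) := fun _ _ => h _ _

theorem orbit_bound (O : Finset (U → Dual F U)) (hO : ∀ B ∈ O, Herm σ B)
    (hT : ∀ (v : U) (f : Dual F U), f v = 0 → ∀ B ∈ O, tr B (1 + f.smulRight v) ∈ O)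
    (htr : ∀ v w : U, v ≠ 0 → w ≠ 0 → ∃ g : End F U, g v = w ∧ ∀ B ∈ O, tr B g ∈ O)
    {B₀ : U → Dual F U} (h₀ : B₀ ∈ O) {e : U} (he : B₀ e e = 1) :
    (Fintype.card U - 1) * #(nrm σ) ≤ (Fintype.card F - 1) * #O := by
  classical
  have he0 : e ≠ 0 := by rintro rfl; simp at he
  have : Module.Finite F U := Module.Finite.of_finite
  have : Finite (Dual F U) := Module.finite_of_finite F
  have low : ∀ v : U, v ≠ 0 →
      #(nrm σ) * Fintype.card U ≤ Fintype.card F * #{B ∈ O | B v v ∈ nrm σ} := fun v hv => by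
    have h1 : ∀ c : nrm σ, ∃ B ∈ O, B v v = c := fun c => by
      obtain ⟨s, hs, hc⟩ := (mem_nrm σ).1 c.2
      obtain ⟨g, hg, hg'⟩ := htr v (s • e) hv (smul_ne_zero hs he0)
      refine ⟨_, hg' _ h₀, ?_⟩
      simp only [tr, LinearMap.comp_apply, hg]
      rw [map_smul, hO _ h₀, map_smul, he, ← hc]; simp
    choose B hB hBc using h1
    have h2 := card_ker_mul (f := Dual.eval F U v)
      fun h => hv ((forall_dual_apply_eq_zero_iff F v).1 fun φ => LinearMap.congr_fun h φ)
    have h3 : Nat.card (Dual F U) = Fintype.card U := by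
      rw [natCard_eq_pow_finrank (K := F), card_eq_pow_finrank (K := F) (V := U),
        Subspace.dual_finrank_eq, Nat.card_eq_fintype_card]
    have h4 : Nat.card (nrm σ × LinearMap.ker (Dual.eval F U v)) ≤ #{B ∈ O | B v v ∈ nrm σ} := by
      rw [← Fintype.card_coe, ← Nat.card_eq_fintype_card]
      have hv' : ∀ (c : nrm σ) (f : LinearMap.ker (Dual.eval F U v)) (x : U),
          tr (B c) (1 + f.1.smulRight v) v x = B c v x + f.1 x * c := fun c f x => by
        have hf : f.1 v = 0 := f.2
        simp [tr, hf, hBc]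
      refine Nat.card_le_card_of_injective (fun p => ⟨tr (B p.1) (1 + p.2.1.smulRight v),
        mem_filter.2 ⟨hT v _ p.2.2 _ (hB _), ?_⟩⟩) ?_
      · have hf : p.2.1 v = 0 := p.2.2
        simp [hv', hf, hBc]
      · rintro ⟨c, f⟩ ⟨c', f'⟩ h
        have h := congrArg Subtype.val h
        simp only at h
        have hf : f.1 v = 0 := f.2
        have hf' : f'.1 v = 0 := f'.2
        have h5 : c = c' := by
          have := (hv' c f v).symm.trans ((congrArg (fun B => B v v) h).trans (hv' c' f' v))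
          exact Subtype.ext (by simpa [hf, hf', hBc] using this)
        subst h5
        refine Prod.ext rfl (Subtype.ext (LinearMap.ext fun x => ?_))
        have := (hv' c f x).symm.trans ((congrArg (fun B => B v x) h).trans (hv' c f' x))
        exact mul_right_cancel₀ (ne_zero_of_mem_nrm σ c.2) (add_left_cancel this)
    rw [Nat.card_prod, Nat.card_eq_fintype_card, Fintype.card_coe] at h4
    rw [← h3, ← h2]
    nlinarith
  have hsum : ∑ v : U, #{B ∈ O | B v v ∈ nrm σ} = ∑ B ∈ O, #{v | B v v ∈ nrm σ} :=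
    (sum_card_bipartiteAbove_eq_sum_card_bipartiteBelow (s := O) (t := univ)
      (fun B v => B v v ∈ nrm σ)).symm
  have h1 : (Fintype.card U - 1) * (#(nrm σ) * Fintype.card U)
      ≤ Fintype.card F * ∑ v : U, #{B ∈ O | B v v ∈ nrm σ} := by
    rw [mul_sum]
    refine le_trans ?_ (sum_le_sum_of_subset (erase_subset 0 univ))
    have := card_nsmul_le_sum (univ.erase (0 : U)) _ _ fun v hv => low v (ne_of_mem_erase hv)
    rwa [card_erase_of_mem (mem_univ _), card_univ, smul_eq_mul] at this
  have h2 : Fintype.card F * ∑ B ∈ O, #{v | B v v ∈ nrm σ}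
      ≤ #O * ((Fintype.card F - 1) * Fintype.card U) := by
    rw [mul_sum]
    refine sum_le_card_nsmul O _ _ fun B hB => ?_
    rw [Nat.sub_one_mul]
    exact Nat.le_sub_of_add_le (omega_bound σ (hO B hB))
  rw [hsum] at h1
  refine Nat.le_of_mul_le_mul_right ?_ (Fintype.card_pos (α := U))
  nlinarith

omit [Fintype F] [DecidableEq F] [Fintype U] [DecidableEq U] in
theorem trans_of_tv [FiniteDimensional F U] (h2 : 2 ≤ finrank F U) {P : End F U → Prop}
    (hmul : ∀ g h, P g → P h → P (g * h))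
    (hT : ∀ (v : U) (f : Dual F U), f v = 0 → P (1 + f.smulRight v)) {v w : U} (hv : v ≠ 0)
    (hw : w ≠ 0) : ∃ g, g v = w ∧ P g := by
  have step : ∀ v w : U, LinearIndependent F ![v, w] → ∃ g, g v = w ∧ P g := fun v w h => by
    obtain ⟨f, hf⟩ := LinearMap.exists_leftInverse_of_injective _ (LinearMap.ker_eq_bot.2 h)
    let φ : Dual F U := (Finsupp.linearCombination F (fun _ : Fin 2 => (1 : F))).comp f
    have hφ : ∀ i, φ (![v, w] i) = 1 := fun i => by
      have := LinearMap.congr_fun hf (Finsupp.single i 1)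
      simp only [LinearMap.comp_apply, Finsupp.linearCombination_single, one_smul,
        LinearMap.id_apply] at this
      simp [φ, this]
    have h0 : φ v = 1 := hφ 0
    have h1 : φ w = 1 := hφ 1
    exact ⟨_, by simp [h0], hT (w - v) φ (by simp [h0, h1])⟩
  by_cases h : LinearIndependent F ![v, w]
  · exact step v w h
  obtain ⟨z, hz⟩ := exists_linearIndependent_pair_of_one_lt_finrank (R := F) h2 hv
  obtain ⟨a, rfl⟩ : ∃ a : F, a • v = w := by
    rw [LinearIndependent.pair_iff' hv] at h
    simpa using h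
  have ha : a ≠ 0 := by rintro rfl; simp at hw
  obtain ⟨g, hg, hg'⟩ := step v z hz
  obtain ⟨g', hg2, hg2'⟩ := step z (a • v) (LinearIndependent.pair_symm_iff.1
    (LinearIndependent.pair_iff.2 fun s t h => by
      rw [smul_smul] at h
      obtain ⟨h1, h2⟩ := LinearIndependent.pair_iff.1 hz _ _ h
      exact ⟨(mul_eq_zero.1 h1).resolve_right ha, h2⟩))
  exact ⟨g' * g, by simp [hg, hg2], hmul _ _ hg2' hg'⟩

end Count

/-- A Siegel type abelian radical: `x u w` corresponds to `u w* + w u*`. -/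
structure Sieg {F : Type*} [Field F] (σ : F →+* F) (U G : Type*) [AddCommGroup U] [Module F U]
    [Group G] where
  x : U → U → G
  add : ∀ u w w', x u (w + w') = x u w * x u w'
  comm : ∀ u w u' w', Commute (x u w) (x u' w')
  swap : ∀ u w, x u w = x w u
  smul : ∀ (t : F) u w, x (t • u) w = x u (σ t • w)

namespace Sieg

variable {F U G k V : Type*} [Field F] {σ : F →+* F} [AddCommGroup U] [Module F U] [Group G]
  (S : Sieg σ U G) [Field k] [AddCommGroup V] [Module k V] (ρ : G →* End k V)

/-- `g` is induced by an element of `G`. -/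
def Ind (g : End F U) : Prop := ∃ γ : G, ∀ u w, S.x u w * γ = γ * S.x (g u) (g w)

theorem Ind.mul {S : Sieg σ U G} {g h : End F U} (hg : S.Ind g) (hh : S.Ind h) : S.Ind (g * h) := by
  obtain ⟨a, ha⟩ := hg
  obtain ⟨b, hb⟩ := hh
  exact ⟨b * a, fun u w => by rw [← mul_assoc, hb, mul_assoc, ha, mul_assoc]; rfl⟩

theorem zero (u : U) : S.x u 0 = 1 := by
  have := S.add u 0 0
  rwa [add_zero, left_eq_mul] at this

theorem pow (u w : U) (n : ℕ) : S.x u w ^ n = S.x u (n • w) := by
  induction n with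
  | zero => simp [S.zero]
  | succ n ih => rw [pow_succ, ih, succ_nsmul, S.add]

/-- The commuting family of operators. -/
def op (p : U × U) : End k V := ρ (S.x p.1 p.2)

theorem op_comm (p p' : U × U) : Commute (S.op ρ p) (S.op ρ p') := (S.comm _ _ _ _).map ρ

theorem bound [Fintype F] [DecidableEq F] [Fintype U] [IsAlgClosed k] [FiniteDimensional k V]
    (hσ : ∀ a, σ (σ a) = a) (hp : (ringChar F : k) ≠ 0)
    (hT : ∀ (v : U) (f : Dual F U), f v = 0 → S.Ind (1 + f.smulRight v))
    (htr : ∀ v w : U, v ≠ 0 → w ≠ 0 → ∃ g : End F U, g v = w ∧ S.Ind g)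
    {e : U} {t₀ : F} (hnt : ρ (S.x e (t₀ • e)) ≠ 1) {d : ℕ}
    (hd : ∀ ψ : AddChar F k, ψ ≠ 1 → (∀ t, ψ (σ t) = ψ t) → ∀ χ, wt (S.op ρ) χ ≠ ⊥ →
      (∀ t, χ (e, t • e) = ψ t) → d ≤ finrank k (wt (S.op ρ) χ)) :
    (Fintype.card U - 1) * #(nrm σ) * d ≤ (Fintype.card F - 1) * finrank k V := by
  classical
  obtain ⟨χ, hχ, hχ1⟩ := exists_wt_ne_one (S.op_comm ρ) (i := (e, t₀ • e)) hp (by
    rw [op, ← map_pow, S.pow, ← Nat.cast_smul_eq_nsmul F, ringChar.Nat.cast_ringChar, zero_smul,
      S.zero, map_one]) hnt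
  obtain ⟨v, hv, hv0⟩ := Submodule.exists_mem_ne_zero_of_ne_bot hχ
  have hv := mem_wt.1 hv
  have hinj : ∀ {a b : k}, a • v = b • v → a = b := fun h => smul_left_injective k hv0 h
  have hx : ∀ {p p' : U × U}, S.x p.1 p.2 = S.x p'.1 p'.2 → χ p = χ p' := fun h =>
    hinj (by rw [← hv, ← hv, op, op, h])
  let c : U → AddChar U k := fun u =>
    { toFun := fun w => χ (u, w)
      map_zero_eq_one' := hinj (by rw [← hv, op, S.zero, map_one, one_smul]; rfl)
      map_add_eq_mul' := fun a b => hinj (by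
        rw [← hv, mul_smul, ← hv (u, b), ← map_smul, ← hv, op, op, op, S.add, (S.comm _ _ _ _).eq,
          map_mul]; rfl) }
  let ψ : AddChar F k := (c e).compAddMonoidHom (LinearMap.toSpanSingleton F U e).toAddMonoidHom
  have hψ : ∀ t, ψ t = χ (e, t • e) := fun _ => rfl
  have hψ1 : ψ ≠ 1 := fun h => hχ1 (by rw [← hψ, h]; rfl)
  have hψσ : ∀ t, ψ (σ t) = ψ t := fun t => by
    rw [hψ, hψ]; exact hx (by simp only; rw [← S.smul, S.swap])
  choose B hB using fun u => exists_dual ψ hψ1 (c u)
  have hB : ∀ u w, χ (u, w) = ψ (B u w) := hB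
  have : Module.Finite F U := Module.Finite.of_finite
  have : Finite (Dual F U) := Module.finite_of_finite F
  have := Fintype.ofFinite (U → Dual F U)
  let O : Finset (U → Dual F U) :=
    {B | Herm σ B ∧ d ≤ finrank k (wt (S.op ρ) fun p => ψ (B p.1 p.2))}
  have hcl : ∀ g, S.Ind g → ∀ B ∈ O, tr B g ∈ O := fun g ⟨γ, hγ⟩ B hB => by
    simp only [O, mem_filter, mem_univ, true_and] at hB ⊢
    refine ⟨hB.1.tr g, hB.2.trans (finrank_wt_le (T := ρ γ) (s := fun p => (g p.1, g p.2))
      ((Module.End.isUnit_iff _).1 ((Group.isUnit γ).map ρ)).1 fun p => ?_)⟩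
    simp only [op, ← map_mul, hγ]
  have h1 := orbit_bound σ O (fun B hB => (mem_filter.1 hB).2.1)
    (fun v f h => hcl _ (hT v f h)) (fun v w hv hw => (htr v w hv hw).imp fun g h => ⟨h.1, hcl g h.2⟩)
    (B₀ := B) (e := e) (mem_filter.2 ⟨mem_univ _, fun u w => eq_of_psi ψ hψ1 fun t => ?_, ?_⟩)
    (eq_of_psi ψ hψ1 fun t => by rw [mul_one, hψ t, hB, map_smul, smul_eq_mul])
  · have h2 := card_mul_le_of_wt (S.op_comm ρ) (κ := O) (χ := fun B p => ψ (B.1 p.1 p.2)) (d := d)
      (fun B B' h => Subtype.ext (funext fun u => LinearMap.ext fun w => eq_of_psi ψ hψ1 fun t => by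
        simpa using congrFun h (u, t • w))) fun B => (mem_filter.1 B.2).2.2
    rw [Fintype.card_coe] at h2
    calc _ ≤ (Fintype.card F - 1) * #O * d := Nat.mul_le_mul_right _ h1
      _ ≤ _ := by rw [mul_assoc]; exact Nat.mul_le_mul_left _ h2
  · rw [← hψσ (t * σ _), map_mul σ, hσ, ← smul_eq_mul, ← smul_eq_mul, ← map_smul, ← map_smul, ← hB,
      ← hB]
    exact hx (by simp only; rw [S.swap, S.smul])
  · have : (fun p : U × U => ψ (B p.1 p.2)) = χ := funext fun p => (hB _ _).symm
    rw [this]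
    exact hd ψ hψ1 hψσ χ hχ fun t => (hψ t).symm

end Sieg

end H11.LS
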