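import Cfsg.Agent.H11.LS3

/-!
# The minimal degree of `Sp_2n(q)`, `q` even
-/

set_option autoImplicit false
set_option linter.unusedSectionVars false
set_option maxHeartbeats 400000

namespace H11.LS

open Module Finset Matrix
open QuadraticMap hiding sq

section Count

variable {F U : Type*} [Field F] [Fintype F] [DecidableEq F] [AddCommGroup U] [Module F U]
  [Fintype U] [DecidableEq U] [CharP F 2]

theorem polar_self0 (Q : QuadraticForm F U) (u : U) : polar Q u u = 0 := by
  rw [polar_self, two_smul, CharTwo.add_self_eq_zero]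

theorem quad_line (Q : QuadraticForm F U) (x e : U) (t : F) :
    Q (x + t • e) = Q e * t ^ 2 + polar Q e x * t + Q x := by
  rw [QuadraticMap.map_add Q, polar_smul_right, polar_comm, Q.map_smul]; simp; ring

theorem card_perp {Q : QuadraticForm F U} {u w : U} (h : polar Q u w ≠ 0) (b : F) :
    #{x | polar Q u x = b} * Fintype.card F = Fintype.card U := by
  rw [← Nat.card_eq_fintype_card (α := U), ← card_ker_mul (f := Q.polarBilin u)
    fun h' => h (LinearMap.congr_fun h' w), ← Fintype.card_coe, ← Nat.card_eq_fintype_card]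
  congr 1
  refine Nat.card_congr ⟨fun x => ⟨x - (b / polar Q u w) • w, ?_⟩,
    fun x => ⟨x + (b / polar Q u w) • w, ?_⟩, fun x => by simp, fun x => by simp⟩
  · simp [(mem_filter.1 x.2).2, h]
  · have : polar Q u x = 0 := x.2
    simp [this, h]

theorem omega2 (Q : QuadraticForm F U) {a b c : F} (ha : a ≠ 0) (hb : b ≠ 0) {M : ℕ}
    (hM : Fintype.card F ^ 2 * M = Fintype.card U) :
    #{p : U × U | Q p.1 = a ∧ polar Q p.1 p.2 = b ∧ Q p.2 = c} ≤
      2 * (Fintype.card F + 1) * M ^ 2 := by
  rcases (filter (fun p : U × U => Q p.1 = a ∧ polar Q p.1 p.2 = b ∧ Q p.2 = c)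
    univ).eq_empty_or_nonempty with h | ⟨⟨e, e'⟩, he⟩
  · simp [h]
  obtain ⟨he1, he2, -⟩ := (mem_filter.1 he).2
  simp only at he1 he2
  have hq := Fintype.one_lt_card (α := F)
  have h0 : M ≤ #{x | Q x = 0} := by
    have h1 := card_perp (he2 ▸ hb : polar Q e e' ≠ 0) 0
    have h2 : ∀ x, ∃ t, polar Q e x = 0 → Q (x + t • e) = 0 := fun x => by
      obtain ⟨t, ht⟩ := FiniteField.isSquare_of_char_two (ringChar.eq F 2) (Q x / a)
      refine ⟨t, fun h => ?_⟩
      rw [quad_line, he1, h, sq, ← ht, mul_div_cancel₀ _ ha, zero_mul, add_zero,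
        CharTwo.add_self_eq_zero]
    choose t ht using h2
    have h3 : #{x | polar Q e x = 0} ≤ #(({x | Q x = 0} : Finset U) ×ˢ (univ : Finset F)) :=
      card_le_card_of_injOn (fun x => (x + t x • e, t x)) (fun x hx => by
        simpa using ht x (mem_filter.1 hx).2) fun x _ y _ h => by
          simp only [Prod.mk.injEq] at h
          rw [h.2] at h
          exact add_right_cancel h.1
    rw [card_product, card_univ] at h3
    refine Nat.le_of_mul_le_mul_right ?_ (pow_pos (by omega : 0 < Fintype.card F) 2)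
    nlinarith
  have h1 : #{x | Q x = a} ≤ (Fintype.card F + 1) * M := by
    have h3 : #(({x | Q x = a} : Finset U) ×ˢ (univ.erase (0 : F))) ≤ #{x | ¬ Q x = 0} :=
      card_le_card_of_injOn (fun p => p.2 • p.1) (fun p hp => by
        simp only [coe_product, Set.mem_prod, mem_coe, mem_filter, mem_univ, true_and,
          mem_erase, and_true] at hp ⊢
        simp [Q.map_smul, hp.1, hp.2, ha]) fun p hp p' hp' h => by
          simp only [coe_product, Set.mem_prod, mem_coe, mem_filter, mem_univ, true_and,
            mem_erase, and_true] at hp hp' h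
          have h4 := congrArg Q h
          rw [Q.map_smul, Q.map_smul, hp.1, hp'.1, smul_eq_mul, smul_eq_mul, mul_left_inj' ha, ← sq,
            ← sq, CharTwo.sq_inj] at h4
          rw [h4] at h
          exact Prod.ext (smul_right_injective U hp'.2 h) h4
    have h4 := card_filter_add_card_filter_not (s := (univ : Finset U)) fun x => Q x = 0
    rw [card_product, card_erase_of_mem (mem_univ _), card_univ] at h3
    rw [card_univ] at h4
    obtain ⟨r, hr⟩ : ∃ r, Fintype.card F = r + 1 := ⟨_, (Nat.sub_add_cancel hq.le).symm⟩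
    rw [hr] at h3 hM hq ⊢
    refine Nat.le_of_mul_le_mul_right ?_ (by omega : 0 < r)
    simp only [Nat.add_sub_cancel] at h3
    nlinarith
  refine (card_le_mul_card_image_of_maps_to (f := Prod.fst) (t := {x | Q x = a})
    (fun p hp => by simp [(mem_filter.1 hp).2.1]) (2 * M) fun u hu => ?_).trans (by nlinarith)
  have hu := (mem_filter.1 hu).2
  rcases (filter (fun p : U × U => p.1 = u) {p : U × U | Q p.1 = a ∧ polar Q p.1 p.2 = b ∧
    Q p.2 = c}).eq_empty_or_nonempty with h | ⟨p, hp⟩
  · simp [h]
  have h2 := card_perp (Q := Q) (u := u) (w := p.2) (by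
    simp only [mem_filter] at hp; rw [← hp.2, hp.1.2.2.1]; exact hb) b
  have h3 := card_le_mul_card_image_of_maps_to (f := fun p : (U × U) × F => p.1.2 - p.2 • u)
    (s := (filter (fun p : U × U => p.1 = u) {p : U × U | Q p.1 = a ∧ polar Q p.1 p.2 = b ∧
    Q p.2 = c}) ×ˢ univ) (t := {x | polar Q u x = b}) (fun p hp => by
      simp only [mem_product, mem_filter, mem_univ, true_and, and_true] at hp ⊢
      rw [polar_sub_right, polar_smul_right, polar_self0, smul_zero, sub_zero, ← hp.2, hp.1.2.1])
    2 fun x _ => by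
      refine le_trans (card_le_card_of_injOn (t := (Polynomial.C a * Polynomial.X ^ 2 +
        Polynomial.C (polar Q u x) * Polynomial.X + Polynomial.C (Q x - c)).roots.toFinset)
        Prod.snd (fun p hp => ?_) fun p hp p' hp' h => ?_)
        ((Multiset.toFinset_card_le _).trans ((Polynomial.card_roots' _).trans
          Polynomial.natDegree_quadratic_le))
      · simp only [coe_filter, mem_product, mem_filter, mem_univ, true_and, and_true,
          Set.mem_setOf_eq] at hp
        have h5 := quad_line Q x u p.2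
        rw [← hp.2, sub_add_cancel, hp.1.1.2.2, hp.2, hu] at h5
        rw [mem_coe, Multiset.mem_toFinset, Polynomial.mem_roots fun h => by
          simpa using (Polynomial.degree_quadratic ha).symm.trans (congrArg Polynomial.degree h)]
        simp [h5]
      · simp only [coe_filter, mem_product, mem_filter, mem_univ, true_and, and_true,
          Set.mem_setOf_eq] at hp hp'
        refine Prod.ext (Prod.ext (hp.1.2.trans hp'.1.2.symm) ?_) h
        have := hp.2.trans hp'.2.symm
        rwa [h, sub_left_inj] at this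
  rw [card_product, card_univ] at h3
  refine Nat.le_of_mul_le_mul_right ?_ (pow_pos (by omega : 0 < Fintype.card F) 2)
  nlinarith

theorem orbit2 (O : Finset (QuadraticForm F U))
    (hO : ∀ g : End F U, IsUnit g → ∀ Q ∈ O, Q.comp g ∈ O) {Q₀ : QuadraticForm F U} (h₀ : Q₀ ∈ O)
    {e e' : U} (he : polar Q₀ e e' ≠ 0) :
    (Fintype.card U - 1) * (Fintype.card U - Fintype.card F) ≤ 2 * (Fintype.card F + 1) * #O := by
  classical
  wlog ha : Q₀ e ≠ 0 generalizing e e'
  · by_cases h1 : Q₀ e' = 0
    · refine this (e := e + e') (e' := e') (by rwa [polar_add_left, polar_self0, add_zero]) ?_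
      rw [QuadraticMap.map_add Q₀, h1, not_not.1 ha]; simpa using he
    · exact this (e := e') (e' := e) (by rwa [polar_comm]) h1
  have : Module.Finite F U := Module.Finite.of_finite
  have : Finite (Dual F U) := Module.finite_of_finite F
  have hli : LinearIndependent F ![e, e'] := LinearIndependent.pair_iff.2 fun s t h => by
    have h1 := congrArg (polar Q₀ e) h
    have h2 := congrArg (polar Q₀ e') h
    simp only [polar_add_right, polar_smul_right, polar_self0, polar_comm Q₀ e' e, polar_zero_right,
      smul_eq_mul, mul_zero, zero_add, add_zero, mul_eq_zero, he, or_false] at h1 h2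
    exact ⟨h2, h1⟩
  have h2 : 2 ≤ finrank F U := by simpa using hli.fintype_card_le_finrank
  obtain ⟨M, hM, hM'⟩ : ∃ M, Fintype.card F ^ 2 * M = Fintype.card U ∧
      M = Fintype.card F ^ (finrank F U - 2) :=
    ⟨_, by rw [← pow_add, card_eq_pow_finrank (K := F) (V := U)]; congr 1; omega, rfl⟩
  let r : QuadraticForm F U → U × U → Prop := fun Q p =>
    Q p.1 = Q₀ e ∧ polar Q p.1 p.2 = polar Q₀ e e' ∧ Q p.2 = Q₀ e'
  have low : ∀ p : U × U, LinearIndependent F ![p.1, p.2] → M ^ 2 ≤ #{Q ∈ O | r Q p} := by
    rintro ⟨v, v'⟩ hv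
    obtain ⟨g, hg⟩ := Submodule.exists_linearEquiv_restrict_eq
      (hv.linearCombinationEquiv.symm.trans hli.linearCombinationEquiv)
    have hg' : ∀ i, g (![v, v'] i) = ![e, e'] i := fun i => by
      have := hg (hv.linearCombinationEquiv (Finsupp.single i 1))
      simpa using this.symm
    have hg0 : g v = e := hg' 0
    have hg1 : g v' = e' := hg' 1
    let A := (Submodule.span F (Set.range ![v, v'])).dualAnnihilator
    have hA : Nat.card A = M := by
      rw [natCard_eq_pow_finrank (K := F), Nat.card_eq_fintype_card, hM']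
      congr 1
      have := Subspace.finrank_add_finrank_dualAnnihilator_eq (Submodule.span F (Set.range ![v, v']))
      rw [finrank_span_eq_card hv, Fintype.card_fin] at this
      exact Nat.eq_sub_of_add_eq' this
    have hA0 : ∀ f : A, f.1 v = 0 := fun f => (Submodule.mem_dualAnnihilator _).1 f.2 _
      (Submodule.subset_span ⟨0, rfl⟩)
    have hA1 : ∀ f : A, f.1 v' = 0 := fun f => (Submodule.mem_dualAnnihilator _).1 f.2 _
      (Submodule.subset_span ⟨1, rfl⟩)
    let T : A × A → End F U := fun f => 1 + (f.1.1.smulRight v + f.2.1.smulRight v')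
    have hT : ∀ f, IsUnit (T f) := fun f => IsNilpotent.isUnit_one_add ⟨2, LinearMap.ext fun x => by
      simp [sq, hA0, hA1]⟩
    rw [sq, ← hA, ← Nat.card_prod, ← Fintype.card_coe, ← Nat.card_eq_fintype_card]
    refine Nat.card_le_card_of_injective (fun f => ⟨(Q₀.comp g.toLinearMap).comp (T f),
      mem_filter.2 ⟨hO _ (hT f) _ (hO _ ((End.isUnit_iff _).2 g.bijective) _ h₀), by
        simp [r, T, hA0, hA1, hg0, hg1, polar]⟩⟩) fun f f' h => ?_
    have h := congrArg Subtype.val h
    simp only at h
    have h3 : ∀ (f : A × A) u x, polar ((Q₀.comp g.toLinearMap).comp (T f)) u x =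
      polar Q₀ (g (T f u)) (g (T f x)) := fun f u x => by simp [polar]
    refine Prod.ext (Subtype.ext (LinearMap.ext fun x => ?_)) (Subtype.ext (LinearMap.ext fun x => ?_))
    · have := (h3 f v' x).symm.trans ((congrArg (fun Q : QuadraticForm F _ => polar Q v' x) h).trans (h3 f' v' x))
      simpa [T, hA0, hA1, hg0, hg1, CharTwo.two_eq_zero, polar_comm Q₀ e' e, he] using this
    · have := (h3 f v x).symm.trans ((congrArg (fun Q : QuadraticForm F _ => polar Q v x) h).trans (h3 f' v x))
      simpa [T, hA0, hA1, hg0, hg1, CharTwo.two_eq_zero, he] using this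
  have hsum : ∑ p : U × U, #{Q ∈ O | r Q p} = ∑ Q ∈ O, #{p | r Q p} :=
    (sum_card_bipartiteAbove_eq_sum_card_bipartiteBelow (s := O) (t := univ) r).symm
  have h3 : #{p : U × U | LinearIndependent F ![p.1, p.2]} =
      (Fintype.card U - 1) * (Fintype.card U - Fintype.card F) := by
    have := card_linearIndependent (K := F) (V := U) h2
    rw [Fin.prod_univ_two, ← card_eq_pow_finrank] at this
    simp only [Fin.val_zero, Fin.val_one, pow_zero, pow_one] at this
    rw [← this, ← Fintype.card_coe, ← Nat.card_eq_fintype_card]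
    exact Nat.card_congr (Equiv.subtypeEquiv (finTwoArrowEquiv U).symm fun p => by simp)
  have h4 := (card_nsmul_le_sum _ _ _ fun p hp => low p (mem_filter.1 hp).2).trans
    (sum_le_sum_of_subset (filter_subset _ univ))
  have h5 := sum_le_card_nsmul O _ _ fun Q _ => omega2 Q (c := Q₀ e') ha he hM
  rw [h3, hsum, smul_eq_mul] at h4
  have hM0 : 0 < M := by rw [hM']; exact pow_pos Fintype.card_pos _
  refine Nat.le_of_mul_le_mul_right ((h4.trans h5).trans_eq ?_) (pow_pos hM0 2)
  rw [smul_eq_mul]; ring

end Count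

section Sp

variable {F ι : Type*} [Field F] [Fintype ι] [DecidableEq ι]

variable (F ι) in
/-- Symmetric matrices. -/
def symM : Submodule F (Matrix ι ι F) where
  carrier := {S | Sᵀ = S}
  add_mem' ha hb := by simp_all
  zero_mem' := by simp
  smul_mem' c _ h := by simp_all

/-- The quadratic form of a linear form on symmetric matrices. -/
def symQ (φ : Dual F (symM F ι)) : QuadraticForm F (ι → F) where
  toFun u := φ ⟨vecMulVec u u, transpose_vecMulVec _ _⟩
  toFun_smul a u := by
    rw [← map_smul]; congr 1; exact Subtype.ext (by simp [smul_vecMulVec, vecMulVec_smul, smul_smul])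
  exists_companion' := ⟨LinearMap.mk₂ F (fun u w => φ ⟨vecMulVec u w + vecMulVec w u,
      show _ᵀ = _ by simp [add_comm]⟩)
    (fun a b c => by rw [← map_add]; congr 1
                     exact Subtype.ext (by simp [add_vecMulVec, vecMulVec_add]; abel))
    (fun a b c => by rw [← map_smul]; congr 1
                     exact Subtype.ext (by simp [smul_vecMulVec, vecMulVec_smul]))
    (fun a b c => by rw [← map_add]; congr 1
                     exact Subtype.ext (by simp [add_vecMulVec, vecMulVec_add]; abel))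
    (fun a b c => by rw [← map_smul]; congr 1
                     exact Subtype.ext (by simp [smul_vecMulVec, vecMulVec_smul])), fun u w => by
    rw [LinearMap.mk₂_apply, ← map_add, ← map_add]; congr 1
    exact Subtype.ext (by simp [add_vecMulVec, vecMulVec_add]; abel)⟩

/-- Congruence of symmetric matrices. -/
def symC (g : Matrix ι ι F) : End F (symM F ι) where
  toFun S := ⟨g * S.1 * gᵀ, by
    have : S.1ᵀ = S.1 := S.2
    show _ᵀ = _
    simp [this, Matrix.mul_assoc]⟩
  map_add' _ _ := Subtype.ext (by simp [Matrix.mul_add, Matrix.add_mul])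
  map_smul' _ _ := Subtype.ext (by simp)

theorem sp_bound_two [Fintype F] [CharP F 2] {k V : Type*} [Field k] [AddCommGroup V] [Module k V]
    [IsAlgClosed k] [FiniteDimensional k V] (ρ : symplecticGroup ι F →* End k V) (hp : (2 : k) ≠ 0)
    {e e' : ι → F} (hnt : ρ ((spSieg F ι).x e e') ≠ 1) :
    (Fintype.card F ^ Fintype.card ι - 1) * (Fintype.card F ^ Fintype.card ι - Fintype.card F) ≤
      2 * (Fintype.card F + 1) * finrank k V := by
  classical
  let f : symM F ι → End k V := fun S => ρ (spX S.1 S.2)
  have hadd : ∀ S S', f (S + S') = f S * f S' := fun S S' => by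
    rw [← map_mul]; exact congrArg ρ (Subtype.ext (by simp [spX, fromBlocks_multiply, add_comm]))
  have h0 : f 0 = 1 := by rw [← map_one ρ]; exact congrArg ρ (Subtype.ext (by simp [spX]))
  have hc : ∀ u w, Commute (f u) (f w) := fun u w => by
    rw [Commute, SemiconjBy, ← hadd, ← hadd, add_comm]
  let S₀ : symM F ι := ⟨vecMulVec e e' + vecMulVec e' e, show _ᵀ = _ by simp [add_comm]⟩
  obtain ⟨χ, hχ, hχ1⟩ := exists_wt_ne_one hc (i := S₀) (p := 2) hp (by
    rw [sq, ← hadd, ← two_smul F, CharTwo.two_eq_zero, zero_smul, h0]) hnt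
  obtain ⟨v, hv, hv0⟩ := Submodule.exists_mem_ne_zero_of_ne_bot hχ
  have hv' := mem_wt.1 hv
  have hinj : ∀ {a b : k}, a • v = b • v → a = b := fun h => smul_left_injective k hv0 h
  let c : AddChar (symM F ι) k :=
    { toFun := χ
      map_zero_eq_one' := hinj (by rw [← hv', h0]; simp)
      map_add_eq_mul' := fun a b => hinj (by
        rw [← hv', mul_comm, mul_smul, ← hv' a, ← map_smul, ← hv', hadd]; rfl) }
  let ψ : AddChar F k := c.compAddMonoidHom (LinearMap.toSpanSingleton F _ S₀).toAddMonoidHom
  have hψ1 : ψ ≠ 1 := fun h => hχ1 (by simpa [ψ, c] using DFunLike.congr_fun h 1)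
  obtain ⟨φ, hφ⟩ := exists_dual ψ hψ1 c
  have hφ : ∀ u, χ u = ψ (φ u) := hφ
  have : Finite (Dual F (symM F ι)) := Module.finite_of_finite F
  have := Fintype.ofFinite (Dual F (symM F ι))
  let O : Finset (Dual F (symM F ι)) := {φ | wt f (fun S => ψ (φ S)) ≠ ⊥}
  have h1 := orbit2 (O.image symQ) (fun g hg Q hQ => ?_) (Q₀ := symQ φ) (e := e) (e' := e')
    (mem_image_of_mem _ (mem_filter.2 ⟨mem_univ _, by rwa [← funext hφ]⟩)) fun h => hχ1 ?_
  · have h2 := card_mul_le_of_wt hc (κ := O) (χ := fun φ S => ψ (φ.1 S)) (d := 1)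
      (fun a b h => Subtype.ext (LinearMap.ext fun w => eq_of_psi ψ hψ1 fun t => by
        simpa using congrFun h (t • w))) fun φ' => one_le_finrank (mem_filter.1 φ'.2).2
    rw [Fintype.card_coe, mul_one] at h2
    rw [Fintype.card_fun] at h1
    exact h1.trans (Nat.mul_le_mul_left _ (card_image_le.trans h2))
  · obtain ⟨φ, hφ, rfl⟩ := mem_image.1 hQ
    have hm : IsUnit (LinearMap.toMatrix' g).det := by
      rw [LinearMap.det_toMatrix']; exact LinearMap.isUnit_det _ hg
    refine mem_image.2 ⟨φ.comp (symC (LinearMap.toMatrix' g)), mem_filter.2 ⟨mem_univ _, ?_⟩,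
      QuadraticMap.ext fun u => congrArg φ (Subtype.ext ?_)⟩
    · obtain ⟨w, hw, hw0⟩ := Submodule.exists_mem_ne_zero_of_ne_bot (mem_filter.1 hφ).2
      let γ := spL _ _ (nonsing_inv_mul _ hm)
      have key : (∀ S, f S * ρ γ = ρ γ * f (symC (LinearMap.toMatrix' g) S)) → _ :=
        fun h => map_mem_wt h hw
      refine (Submodule.ne_bot_iff _).2 ⟨ρ γ w, key fun S => ?_, fun h => hw0 ?_⟩
      · simp only [f, ← map_mul]
        refine congrArg ρ (Subtype.ext ?_)
        simp [γ, spX, spL, symC, fromBlocks_multiply, ← Matrix.mul_assoc, nonsing_inv_mul _ hm]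
      · exact ((Module.End.isUnit_iff _).1 ((Group.isUnit γ).map ρ)).1 (by simpa using h)
    · simp [symC, mul_vecMulVec, vecMulVec_mul, vecMul_transpose]
  · rw [hφ, ← ψ.map_zero_eq_one, ← h]
    congr 1
    change _ = φ _ - φ _ - φ _
    rw [← map_sub, ← map_sub]
    congr 1
    exact Subtype.ext (by simp [S₀, add_vecMulVec, vecMulVec_add]; abel)

end Sp

end H11.LS
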