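/-
S5175, chunk TJ: root coordinates in `J₃`.
-/
import Cfsg.Agent.H4.MF2
import Cfsg.Agent.H29.JC13
import Cfsg.Agent.H16.J3S
import Cfsg.Agent.H16.L.J3

set_option autoImplicit false
set_option linter.unusedSectionVars false

namespace H11.MF
open Subgroup H25 H25.FS H4.MF
open H29.JC (F w mem_zp_sup card_zp_sup)

instance iF : Field F := { H29.JC.instCommRingF with
  inv a := a * a
  exists_pair_ne := ⟨0, 1, by decide⟩
  mul_inv_cancel := by decide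
  inv_zero := by decide
  nnqsmul := _
  nnqsmul_def := fun _ _ => rfl
  qsmul := _
  qsmul_def := fun _ _ => rfl }
instance iC : CharP F 2 := CharTwo.of_one_ne_zero_of_two_eq_zero (by decide) (by decide)
/-- the field automorphism -/
def fo : F ≃+* F := ⟨⟨fun a => a * a, fun a => a * a, by decide, by decide⟩, by decide, by decide⟩
theorem fo_ap (a : F) : fo a = a * a := rfl
theorem cardF : Nat.card F = 4 := by rw [Nat.card_eq_fintype_card]; rfl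

variable {Γ : Type} [Group Γ] [Finite Γ] {ev : Uc F →* Γ} {x y y1 y2 r t g : Γ} {l m : F}
theorem zp3 (h : y ^ 3 = 1) (k : g ∈ zpowers y) : ∃ i : Fin 3, g = y ^ i.1 := by
  obtain ⟨n, rfl⟩ := (mem_powers_iff_mem_zpowers (x := y)).2 k
  exact ⟨⟨n % 3, Nat.mod_lt _ (by decide)⟩, pow_eq_pow_mod n h⟩
theorem dm {l' m' : F} (h : Dg ev y (.refl F) l m) (k : Dg ev g (.refl F) l' m') : Dg ev (y * g) (.refl F) (l * l') (m * m') :=
  h.mul k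
theorem dgp (h : Dg ev y (.refl F) l m) (n : ℕ) : Dg ev (y ^ n) (.refl F) (l ^ n) (m ^ n) := by
  induction n with
  | zero => simpa using Dg.one ev
  | succ n k => simpa only [pow_succ] using dm k h

/-- the data -/
structure Dt (ev : Uc F →* Γ) (x y1 y2 r t : Γ) : Prop extends Cb false fo ev x where
  d1 : Dg ev y1 (.refl F) w 1
  d2 : Dg ev y2 (.refl F) 1 w
  p1 : y1 ^ 3 = 1
  p2 : y2 ^ 3 = 1
  cm : y1 * y2 = y2 * y1
  xy : x * y1 * x⁻¹ = y2 * y2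
  wa : Wa ev r
  tz : t ∈ cz (zpowers (ev ⟨0, 0, 1, 0⟩))
  tR : t ∈ nz (R0 false fo ev x)
  tC : t ∉ nz ((UC F).map ev)
  cG : Nat.card Γ = 50232960
  cZ : Nat.card (cz (zpowers (ev ⟨0, 0, 1, 0⟩))) = 1920

namespace Dt
variable (h : Dt ev x y1 y2 r t)
include h
theorem co : Co false fo (ev.range ⊔ zpowers x) ev x := ⟨h.toCb, fun s => by
  rw [sup_comm, mem_zp_sup h.xx h.xR]
  exact ⟨fun k => k.elim (fun ⟨u, e⟩ => ⟨u, .inl e.symm⟩) fun ⟨_, ⟨u, e⟩, e'⟩ => ⟨sw false fo u, .inr (by rw [e', ← e, h.x_mul])⟩,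
    fun ⟨u, e⟩ => e.elim (fun e => .inl ⟨u, e.symm⟩) fun e => .inr ⟨_, ⟨sw false fo u, rfl⟩, by rw [e, h.x_mul, h.sws]⟩⟩⟩
theorem xy2 : x * y2 * x⁻¹ = y1 * y1 := by
  have e : y1 = x * (y2 * y2) * x⁻¹ := by rw [← h.xy, h.xinv, ← mul_assoc, ← mul_assoc, h.xx, one_mul, mul_assoc, h.xx, mul_one]
  rw [e, conj_mul, show y2 * y2 * (y2 * y2) = y2 ^ 3 * y2 by simp [pow_succ, mul_assoc], h.p2, one_mul]
theorem n12 : zpowers y2 ≤ nz (zpowers y1) := zpowers_le.2 (cz_le_nz _ (mem_cz_zpowers.2 (by rw [← h.cm]; group)))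
theorem m0 (k : y ∈ zpowers y1 ⊔ zpowers y2) : ∃ i j : Fin 3, y = y1 ^ i.1 * y2 ^ j.1 ∧ Dg ev y (.refl F) (w ^ i.1) (w ^ j.1) := by
  obtain ⟨a, ha, b, hb, rfl⟩ := (mem_sup_of_le_nz_left h.n12).1 k
  obtain ⟨i, rfl⟩ := zp3 h.p1 ha
  obtain ⟨j, rfl⟩ := zp3 h.p2 hb
  exact ⟨i, j, rfl, by simpa using dm (dgp h.d1 i) (dgp h.d2 j)⟩
theorem ex0 (hl : l ≠ 0) (hm : m ≠ 0) : ∃ y ∈ zpowers y1 ⊔ zpowers y2, Dg ev y (.refl F) l m := by
  have k : ∀ l : F, l ≠ 0 → ∃ i : Fin 3, l = w ^ i.1 := by decide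
  obtain ⟨i, rfl⟩ := k l hl
  obtain ⟨j, rfl⟩ := k m hm
  exact ⟨_, mul_mem (mem_sup_left (npow_mem_zpowers y1 i)) (mem_sup_right (npow_mem_zpowers y2 j)),
    by simpa using dm (dgp h.d1 i) (dgp h.d2 j)⟩
theorem xn : x ∈ nz (zpowers y1 ⊔ zpowers y2) := mem_nz_of_le (by
  rw [cj_sup, cj_zpowers, cj_zpowers, h.xy, h.xy2]
  exact sup_le (zpowers_le.2 (mem_sup_right (mul_mem (mem_zpowers _) (mem_zpowers _))))
    (zpowers_le.2 (mem_sup_left (mul_mem (mem_zpowers _) (mem_zpowers _)))))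
theorem cy : Cy ev x (zpowers x ⊔ (zpowers y1 ⊔ zpowers y2)) := by
  refine ⟨mem_sup_left (mem_zpowers x), fun y hy => ?_, fun y hy c => ?_, fun k => ?_, fun s hs => ?_⟩
  · rcases (mem_zp_sup h.xx h.xn).1 hy with k | ⟨e, k, rfl⟩
    · exact .inl ⟨_, _, _, (h.m0 k).choose_spec.choose_spec.2⟩
    · exact .inr ⟨_, _, _, by rw [← mul_assoc, h.xx, one_mul]; exact (h.m0 k).choose_spec.choose_spec.2⟩
  · rcases (mem_zp_sup h.xx h.xn).1 hy with k | ⟨e, k, rfl⟩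
    · obtain ⟨i, j, e, d⟩ := h.m0 k
      have a := (d.act ⟨1, 1, 0, 0⟩).symm.trans (mem_cz.1 c _ ⟨_, rfl⟩)
      have k : ∀ i : Fin 3, w ^ i.1 * 1 = 1 → i = 0 := by decide
      rw [e, k i (h.eq_a a), k j (h.eq_s a)]; simp
    · exact (h.x_nA ((mul_mem_cancel_right (h.m0 k).choose_spec.choose_spec.2.nzA).1
        (cz_le_nz _ (cz_anti (mA_le _ _) c)))).elim
  · have a := H19.card_sup_dvd h.n12
    have b := H19.card_sup_dvd (zpowers_le.2 h.xn)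
    rw [sup_comm] at b
    simp only [Nat.card_zpowers] at a b
    exact absurd (k.trans (b.trans (mul_dvd_mul (a.trans (mul_dvd_mul (orderOf_dvd_of_pow_eq_one h.p1) (orderOf_dvd_of_pow_eq_one h.p2)))
      (orderOf_dvd_of_pow_eq_one ((pow_two x).trans h.xx))))) (by decide)
  · exact (h.ex0 (inv_ne_zero hs) (pow_ne_zero 2 hs)).imp fun y k => ⟨mem_sup_right k.1, k.2⟩
theorem cT : Nat.card (ev.range ⊔ zpowers x :) = 128 := by rw [h.co.card, h.cardR, h.cardA, h.cardC, cardF]; rfl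
theorem d0 : Dg ev (y1 * y2 ^ 2) (.refl F) w (w * w) := by simpa [pow_two] using dm h.d1 (dgp h.d2 2)
theorem p0 : (y1 * y2 ^ 2) ^ 3 = 1 := by
  rw [(Commute.pow_right h.cm 2).mul_pow, h.p1, ← pow_mul, mul_comm 2, pow_mul, h.p2]; simp
theorem c0 : y1 * y2 ^ 2 ∈ cz (zpowers x) := mem_cz_zpowers.2 (mul_inv_eq_iff_eq_mul.2 (by
  rw [eq_comm, ← mul_inv_eq_iff_eq_mul, ← conj_mul, ← conj_pow, h.xy, h.xy2,
    show (y1 * y1) ^ 2 = y1 ^ 3 * y1 by simp [pow_succ, mul_assoc], h.p1, one_mul, pow_two, mul_assoc, ← h.cm, ← mul_assoc, ← h.cm, mul_assoc]))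
theorem ML : ev.range ⊔ zpowers x ⊔ zpowers (y1 * y2 ^ 2) ≤ nz ((UC F).map ev) ⊓ cz (zpowers (ev ⟨0, 0, 1, 0⟩)) :=
  sup_le (le_inf h.co.nzC (h.co.le_of ((B_czC ev).trans (cz_anti (zpowers_le.2 (h.memC.2 ⟨rfl, rfl⟩))))
    (mem_cz_zpowers.2 ((h.sw _).trans (h.eq_iff.2 (by decide))))))
    (zpowers_le.2 ⟨h.d0.nzC, mem_cz_zpowers.2 ((h.d0.act _).trans (h.eq_iff.2 (by decide)))⟩)
/-- the normalizer of the Sylow subgroup is maximal in the centralizer of the central involution -/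
theorem mx {N : Subgroup Γ} (h1 : ev.range ⊔ zpowers x ⊔ zpowers (y1 * y2 ^ 2) ≤ N) (h2 : N ≤ cz (zpowers (ev ⟨0, 0, 1, 0⟩))) :
    N = ev.range ⊔ zpowers x ⊔ zpowers (y1 * y2 ^ 2) ∨ N = cz (zpowers (ev ⟨0, 0, 1, 0⟩)) := by
  have := Fact.mk Nat.prime_three
  have o : orderOf (y1 * y2 ^ 2) = 3 := orderOf_eq_prime h.p0 fun e => by
      have := h.d0.act ⟨1, 0, 0, 0⟩
      rw [e, one_mul, inv_one, mul_one] at this
      exact absurd (h.eq_a this) (by decide)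
  have k : ∀ N : Subgroup Γ, ev.range ⊔ zpowers x ⊔ zpowers (y1 * y2 ^ 2) ≤ N → N ≤ cz (zpowers (ev ⟨0, 0, 1, 0⟩)) →
      Nat.card N = 384 ∨ N = cz (zpowers (ev ⟨0, 0, 1, 0⟩)) := fun N h1 h2 => by
    have a := card_dvd_of_le (le_sup_left.trans h1)
    have b := card_dvd_of_le (le_sup_right.trans h1)
    have c := card_dvd_of_le h2
    rw [h.cT] at a; rw [Nat.card_zpowers, o] at b; rw [h.cZ] at c
    obtain ⟨n, e⟩ := (Nat.Coprime.mul_dvd_of_dvd_of_dvd (by decide) a b : 128 * 3 ∣ _)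
    rw [e, show 1920 = 128 * 3 * 5 from rfl, Nat.mul_dvd_mul_iff_left (by decide), Nat.dvd_prime Nat.prime_five] at c
    exact c.imp (fun c => by rw [e, c]) fun c => eq_of_le_of_card_ge h2 (by rw [e, c, h.cZ])
  have k0 := (k _ le_rfl (h.ML.trans inf_le_right)).resolve_right fun e => h.tC (h.ML (e ▸ h.tz)).1
  exact (k N h1 h2).imp_left fun e => (eq_of_le_of_card_ge h1 (by rw [e, k0])).symm
theorem K1 (h1 : g ∈ nz ((UC F).map ev)) (h2 : g ∈ cz (zpowers (ev ⟨0, 0, 1, 0⟩))) :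
    g ∈ ev.range ⊔ zpowers x ⊔ zpowers (y1 * y2 ^ 2) :=
  ((h.mx h.ML inf_le_right).resolve_right fun e => h.tC (e.ge h.tz).1).le ⟨h1, h2⟩
theorem MB : ev.range ⊔ zpowers x ⊔ zpowers (y1 * y2 ^ 2) ≤ nz ev.range := sup_le h.co.nzR (zpowers_le.2 h.d0.nzR)
theorem nR : cz (zpowers (ev ⟨0, 0, 1, 0⟩)) ≤ nz (R0 false fo ev x) := by
  refine inf_eq_right.1 ((h.mx (le_inf (sup_le h.co.nzR0 (zpowers_le.2 (mem_nz_sup (mem_nz_of_conj_mem ?_) (cz_le_nz _ h.c0))))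
    (h.ML.trans inf_le_right)) inf_le_right).resolve_left fun e => h.tC (h.ML (e.le ⟨h.tR, h.tz⟩)).1)
  rintro _ ⟨u, k, rfl⟩
  rw [h.d0.act, h.memE]
  exact (congrArg (w * w * ·) k).trans (mul_mul_mul_comm _ _ _ _)
theorem mv (k : g * ev ⟨0, 0, 1, 0⟩ * g⁻¹ ∈ (UC F).map ev) : ∃ y ∈ zpowers y1 ⊔ zpowers y2, (∃ l, Dg ev y (.refl F) l 1) ∧
    y * g ∈ cz (zpowers (ev ⟨0, 0, 1, 0⟩)) := by
  obtain ⟨⟨a, s, c, d⟩, ⟨(rfl : s = 0), (rfl : a = 0)⟩, e⟩ := k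
  have c0 : c ≠ 0 := by
    rintro rfl
    rw [(h.ker _).2 (by simp), eq_comm, conj_eq_one_iff, h.ker] at e
    simp at e
  obtain ⟨y, k, dd⟩ := h.ex0 (inv_ne_zero c0) one_ne_zero
  exact ⟨y, k, ⟨_, dd⟩, mem_cz_zpowers.2 (by
    rw [show y * g * _ * (y * g)⁻¹ = y * (g * ev ⟨0, 0, 1, 0⟩ * g⁻¹) * y⁻¹ by group, ← e, dd.act, h.eq_iff]; simp [c0])⟩
theorem bA (h1 : g ∈ nz ((UA F).map ev)) (k : g * ev ⟨0, 0, 1, 0⟩ * g⁻¹ ∈ (UC F).map ev) : g ∈ nz ev.range := by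
  obtain ⟨y, -, ⟨l, d⟩, c⟩ := h.mv k
  have e : (UA F).map ev ⊓ R0 false fo ev x = (UC F).map ev := le_antisymm (by
    rintro _ ⟨⟨u, k1, rfl⟩, k2⟩
    exact h.memC.2 ⟨k1, (h.E_a0 (h.ev_R0.1 k2)).2 k1⟩) (le_inf (C_le_A ev) ((C_le_E ev).trans h.E_le_R0))
  exact (mul_mem_cancel_left d.nzR).1 (h.MB (h.K1 (e ▸ mem_nz_inf (mul_mem d.nzA h1) (h.nR c)) c))
theorem zT {Z : Subgroup Γ} (h0 : Z ≠ ⊥) (h1 : Z ≤ ev.range ⊔ zpowers x) (h2 : ev.range ⊔ zpowers x ≤ cz Z) :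
    nz Z = cz (zpowers (ev ⟨0, 0, 1, 0⟩)) := by
  have k : ∀ s ∈ Z, s ≠ 1 → s = ev ⟨0, 0, 1, 0⟩ := fun s hs s1 => by
    obtain ⟨⟨a, s, c, d⟩, ⟨(rfl : s = 0), (rfl : a = 0)⟩, rfl⟩ := h.co.CB.le ⟨h1 hs, le_cz_comm.1 (h.co.BT.trans h2) hs⟩
    have := h.eq_c ((h.sw _).symm.trans (mem_cz.1 (h2 h.co.xT) _ hs))
    rcases (by decide : ∀ c : F, fo c + fo 0 * fo 0 = c → c = 0 ∨ c = 1) c this with rfl | rfl
    · exact (s1 ((h.ker _).2 (by simp))).elim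
    · exact h.eq_iff.2 (by simp)
  obtain ⟨⟨s, hs⟩, s1⟩ := ne_bot_iff_exists_ne_one.1 h0
  have s1 : s ≠ 1 := fun e => s1 (Subtype.ext e)
  refine le_antisymm (fun g hg => mem_cz_zpowers.2 ?_) fun g hg => mem_nz_of_conj_mem fun v hv => ?_
  · rw [← k s hs s1, k _ (conj_mem_of_mem_nz hg hs) (by simpa using s1), k s hs s1]
  · by_cases v1 : v = 1
    · simp [v1]
    · rwa [k v hv v1, mem_cz_zpowers.1 hg, ← k v hv v1]
theorem gz : Gz false fo ⊤ (ev.range ⊔ zpowers x) ev x r (zpowers x ⊔ (zpowers y1 ⊔ zpowers y2)) := by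
  refine ⟨h.co, h.cy, ⟨le_top, fun k => ?_⟩, le_top, trivial, h.wa, fun g _ k => ?_, fun g _ k => ?_, fun Z h0 h1 h2 => ?_⟩
  · have := (ev.range ⊔ zpowers x).index_mul_card
    rw [relIndex_top_right] at k
    rw [h.cT, h.cG] at this
    omega
  · obtain ⟨y, hy, ⟨l, d⟩, c⟩ := h.mv (conj_mem_of_mem_nz (h.nz_C k) (h.memC.2 ⟨rfl, rfl⟩))
    have le : ev.range ⊔ zpowers x ⊔ zpowers (y1 * y2 ^ 2) ≤ ev.range ⊔ (zpowers x ⊔ (zpowers y1 ⊔ zpowers y2)) :=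
      sup_le (sup_le_sup_left le_sup_left _) (zpowers_le.2
        (mem_sup_right (mem_sup_right (mul_mem (mem_sup_left (mem_zpowers _)) (mem_sup_right (npow_mem_zpowers _ _))))))
    have := le (h.K1 (mul_mem d.nzC (h.nz_C k)) c)
    obtain ⟨b, hb, y, hy, e⟩ := (mem_sup_of_le_nz_left (h.cy.nzR h.toCb)).1 ((mul_mem_cancel_left (mem_sup_right (mem_sup_right hy))).1 this)
    exact ⟨b, hb, y, hy, e.symm⟩
  · obtain ⟨⟨a, s, c, d⟩, (rfl : s = 0), e⟩ := conj_mem_of_mem_nz k (h.memA (u := ⟨0, 0, 1, 0⟩).2 rfl)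
    by_cases a0 : a = 0
    · exact .inl (h.bA k (e ▸ h.memC.2 ⟨rfl, a0⟩))
    · refine .inr ⟨ev ⟨0, c / a, 0, 0⟩, ⟨_, rfl⟩, h.bA (mul_mem (mul_mem h.wa.nzA (B_nzA ev ⟨_, rfl⟩)) k) ?_⟩
      rw [show ∀ b : Γ, r * b * g * ev ⟨0, 0, 1, 0⟩ * (r * b * g)⁻¹ = r * (b * (g * ev ⟨0, 0, 1, 0⟩ * g⁻¹) * b⁻¹) * r⁻¹ from fun b => by group, ← e,
        show ev ⟨0, c / a, 0, 0⟩ * ev ⟨a, 0, c, d⟩ * (ev ⟨0, c / a, 0, 0⟩)⁻¹ = ev ⟨a, 0, 0, 0⟩ by
          rw [ev_conj, h.eq_iff]; simp [a0, aa], h.wa]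
      exact h.memC.2 ⟨rfl, rfl⟩
  · rw [top_inf_eq, h.zT h0 h1 h2]
    refine chP_of (h.co.R0_le.trans (le_sup_left.trans (h.ML.trans inf_le_right))) h.nR (h.co.pg.to_le h.co.R0_le) fun g k => ?_
    obtain ⟨s, hs, y, hy, rfl⟩ := (mem_sup_of_le_nz_left (zpowers_le.2 (mem_nz_sup h.d0.nzR (cz_le_nz _ h.c0)))).1
      (h.K1 (cz_le_nz _ (cz_anti ((C_le_E ev).trans h.E_le_R0) k.2)) k.1)
    obtain ⟨i, rfl⟩ := zp3 h.p0 hy
    have e := mem_cz.1 k.2 _ (h.ev_R0 (u := ⟨1, 1, 0, 0⟩).2 (show (1 : F) = fo 1 by decide))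
    rw [show ∀ a b c : Γ, a * b * c * (a * b)⁻¹ = a * (b * c * b⁻¹) * a⁻¹ from fun _ _ _ => by group, (dgp h.d0 i).act] at e
    have q := mem_cz'.1 k.2 _ h.x_R0
    obtain ⟨u, rfl | rfl⟩ := (h.co.mem s).1 hs
    · rw [ev_conj] at e
      obtain rfl := (by decide : ∀ i : Fin 3, w ^ i.1 * 1 = 1 → i = 0) i (h.eq_a e)
      simp only [Fin.val_zero, pow_zero, mul_one] at q ⊢
      exact h.ev_R0.2 (h.eq_s ((h.sw u).symm.trans (mul_inv_eq_iff_eq_mul.2 q))).symm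
    · rw [h.out_conj, Uc.conj] at e
      obtain rfl := (by decide : ∀ i : Fin 3, fo ((w * w) ^ i.1 * 1) = 1 → i = 0) i (h.eq_a e)
      simp only [Fin.val_zero, pow_zero, mul_one, ← mul_assoc, mul_left_inj] at q ⊢
      exact mul_mem (h.ev_R0.2 (h.eq_s ((h.sw u).symm.trans (mul_inv_eq_iff_eq_mul.2 q))).symm) h.x_R0
theorem mo : Mo false fo (ofSub ⊤ (ev.range ⊔ zpowers x)) ev x :=
  ⟨t, ⟨h.tR, fun k => ⟨k, (mem_nz.1 h.tR).le.trans k, t, mem_sup_left trivial, .refl _ _⟩⟩, h.tC⟩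
end Dt

open H16 H29.JC
/-- forget `x₄` -/
def pr : Uc F →* M := MonoidHom.mk' (fun u => ⟨u.c, u.a, u.s⟩) fun _ _ => rfl
/-- words -/
noncomputable def Ws : List (List ℕ) := WJ3 ++ [[2, 1, 2, 3, 0, 3, 2, 1, 3, 1]]
/-- the word of an element of `R₀` -/
noncomputable def wr (e : Bool) (a c : F) : List ℕ := (bif e then [6] else []) ++ wd ⟨c, a, a * a⟩
/-- the action of the last word on `R₀` -/
def tb (e : Bool) (a c : F) : ℕ := 0x73e95d6c6239b9d4a230f7c8552e72bd98dce020 >>> (5 * (e.toNat * 16 + a.val * 4 + c.val))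
theorem ck : (∀ r ∈ [([7, 7, 7], []), ([8, 8, 8], []), ([8, 7], [7, 8]), ([7, 6], [6, 8, 8]), ([0, 11], [11, 0]),
      ([1, 11], 11 :: wr true w 0)], eqL J3.P 4 J3.B (xp Ws r.1) (xp Ws r.2) = 0) ∧
    (∀ a c : F, eqL J3.P 4 J3.B (xp Ws (wd ⟨c, a, 0⟩ ++ [2, 9, 8])) (xp Ws ([2, 9, 8] ++ wd ⟨a, c, 0⟩)) = 0) ∧
    ∀ e a c, eqL J3.P 4 J3.B (xp Ws (wr e a c ++ [11]))
      (xp Ws ([11] ++ wr ((tb e a c).testBit 4) (F.mk (tb e a c / 4)) (F.mk (tb e a c)))) = 0 := by decide +kernel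

theorem tj : TJ := by
  have hw : w ^ 2 + w + 1 = 0 := by decide
  obtain ⟨_, g, N, -⟩ := J3C.md (LJ3.equiv (F := F) rfl hw)
  have := N.fin
  have h : Mod g _ J3.P 6156 4 J3.B := ⟨N.act, N.inj, N.ltB, N.top ▸ N.base⟩
  obtain ⟨H, hφ, t2, k0, G⟩ := (Hol.of_mod h (Ws := Ws) (L := rels true ⟨0, w, 0⟩ ⟨1 + w, 1, 0⟩ ⟨1, w, 0⟩ ⟨0, 0, w⟩ ⟨1 + w, 0, w⟩ ⟨1, 0, 1 + w⟩)
    (by decide +kernel)).main (by decide) (ne_of_mod h (by decide +kernel))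
  set s := wds g Ws
  have q : ∀ {A A'}, eqL J3.P 4 J3.B (xp Ws A) (xp Ws A') = 0 → evA s A = evA s A' := fun e => by
    rw [← evA_xp, ← evA_xp]; exact eqL_sound h.act h.lt h.base e
  have q1 := fun r hr => q (ck.1 r hr)
  simp only [List.forall_mem_cons, evA_cons, evA_nil, one_mul] at q1
  obtain ⟨r1, r2, r3, r4, r5, r6, -⟩ := q1
  let ev := H.ev.comp pr
  have cb : Cb false fo ev (s 6) := ⟨.inl cardF.ge, fun u => by
    rw [← H.ev.map_one]; exact H.inj.eq_iff.trans (by simp [M.ext_iff, pr, M.one_def]; tauto), fun _ => by decide, by simp, t2,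
    fun u => (k0 _).trans (congrArg H.ev (M.ext (by simp [Pm.ap, pr, H29.JC.fr, sw, fo_ap]) (by simp [Pm.ap, pr, H29.JC.fr, sw, fo_ap])
      (by simp [Pm.ap, pr, H29.JC.fr, sw, fo_ap])))⟩
  have wr' : ∀ e a c, evA s (wr e a c) = ev ⟨a, a * a, c, 0⟩ * bif e then s 6 else 1 := fun e a c => by
    rw [wr, evA_append, ← hφ]; cases e <;> simp <;> rfl
  have mR : ∀ e a c, evA s (wr e a c) ∈ R0 false fo ev (s 6) := fun e a c => by
    rw [wr']; exact mul_mem (cb.ev_R0.2 rfl) (by cases e; exacts [one_mem _, cb.x_R0])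
  have z0 : ev ⟨0, 0, 1, 0⟩ = s 0 := (hφ (π 0)).trans (by rw [wd_π 0 (by decide)]; simp)
  have z1 : ev ⟨0, 0, w, 0⟩ = s 1 := (hφ (π 1)).trans (by rw [wd_π 1 (by decide)]; simp)
  have D : Dt ev (s 6) (s 7) (s 8) (evA s [2, 9, 8]) (s 11) := by
    refine ⟨cb, ⟨by decide, by decide, fun u => (G.a1 _).trans (congrArg H.ev (M.ext ?_ ?_ ?_))⟩,
      ⟨by decide, by decide, fun u => (G.a2 _).trans (congrArg H.ev (M.ext ?_ ?_ ?_))⟩, by rw [pow_three', r1], by rw [pow_three', r2],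
      r3, mul_inv_eq_iff_eq_mul.2 r4, fun a c d => ?_, mem_cz_zpowers.2 (by rw [z0, r5]; simp), mem_nz_of_conj_mem fun y hy => ?_,
      fun k => ?_, N.card, ?_⟩
    any_goals (simp [Pm.ap, pr, H29.JC.fr, Pm.tor]; done)
    · have := q (ck.2.1 a c)
      rw [evA_append, evA_append, ← hφ, ← hφ] at this
      exact mul_inv_eq_iff_eq_mul.2 this
    · obtain ⟨e, a, c, rfl⟩ : ∃ e a c, y = evA s (wr e a c) := by
        obtain ⟨u, k, rfl | rfl⟩ := cb.mem_R0.1 hy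
        exacts [⟨false, u.a, u.c, by rw [wr']; exact (cb.eq_iff (u := u) (v := ⟨u.a, _, u.c, 0⟩).2 ⟨rfl, k, rfl, by simp⟩).trans (mul_one _).symm⟩,
          ⟨true, u.a, u.c, by rw [wr']; exact congrArg (· * _) (cb.eq_iff (u := u) (v := ⟨u.a, _, u.c, 0⟩).2 ⟨rfl, k, rfl, by simp⟩)⟩]
      have := q (ck.2.2 e a c)
      rw [evA_append, evA_append] at this
      exact (mul_inv_eq_iff_eq_mul.2 (by simpa using this) : s 11 * _ * (s 11)⁻¹ = _) ▸ mR _ _ _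
    · have := conj_mem_of_mem_nz k (cb.memC (u := ⟨0, 0, w, 0⟩).2 ⟨rfl, rfl⟩)
      rw [z1, r6, mul_inv_cancel_right, wr'] at this
      exact cb.not_mem _ (mA_le _ _ this)
    · have := Fact.mk Nat.prime_two
      obtain ⟨c, t, o, _, _, C⟩ := J3S.main N
      obtain ⟨a, e⟩ := isConj_iff.1 (c t (ev ⟨0, 0, 1, 0⟩) o (orderOf_eq_prime ((pow_two _).trans (cb.sq_iff.2 (.inl rfl)))
        fun e => by simpa using (cb.ker _).1 e))
      rw [← e, ← cj_zpowers, ← cj_cz, card_cj, ← C.card, cz, zpowers_eq_closure, centralizer_closure]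
  exact ⟨F, _, _, fo, _, _, this, ⊤, _, ev, _, _, _, cardF, fun e => absurd (congrArg (· w) e) (by decide), D.gz, D.mo,
    F, _, _, w, rfl, hw, ⟨topEquiv⟩⟩

end H11.MF
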