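import Cfsg.Agent.H11.ML1

/-! The elementary abelian subgroups of order `2⁸`. -/

set_option autoImplicit false
set_option linter.unusedSectionVars false
set_option synthInstance.maxSize 4096
set_option synthInstance.maxHeartbeats 200000

namespace H11.ML
open Subgroup H25 H25.FS H29.JC H29.JC.H4 H29.SD

variable {G : Type*} [Group G] {a b c d e f g k l n o r s t u v x y σ σ1 σ2 : G}
  {H : H4 G} {A B C D E I K L N P Q Q' R S T U V W W' X Y : Subgroup G} {p : Pm}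

variable [Finite G]

namespace Cg
variable (h : Cg L H f σ1 σ2 t) (q : S0 H f σ1 σ2 t Q)
include h q

theorem sqA (hx : x ∈ Q) : x * x ∈ H.E1 := by
  refine (h.memE.1 (h.QC q (mul_mem hx hx) (mem_czE.1 (h.sqE ⟨q.nE hx, q.cA hx⟩)).1)).resolve_right ?_
  rintro ⟨a, ha, e⟩
  obtain ⟨y, hy, r⟩ := h.sur q ha
  have e' : y⁻¹ * x * y * (y⁻¹ * x * y) = t := by
    calc _ = y⁻¹ * (x * x) * y := by group
      _ = _ := by rw [e, ← r]; group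
  exact h.t1 (e' ▸ h.elE _ (h.QC q (conj_mem_of_mem_nz' (le_nz_self _ hy) hx)
    (mem_Cx'.2 (by rw [← e', mul_assoc (y⁻¹ * x * y)]))))

theorem cmQ : ∀ x ∈ Q, ∀ y ∈ Q, x * y * x⁻¹ * y⁻¹ ∈ H.E1 := fun x hx y hy => by
  simpa [mul_assoc] using mul_mem (mul_mem (h.sqA q (mul_mem hx hy))
    (h.sqA q (conj_mem_of_mem_nz' (le_nz_self _ hy) (inv_mem hx)))) (h.sqA q (inv_mem hy))

theorem exW : ∃ W, W0 H t Q W := by
  have AQ : H.E1 ≤ Q := le_sup_right.trans (h.EQ q)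
  have tQ : t ∈ Q := h.EQ q tE
  obtain ⟨Γ, _, π, hπ⟩ := ex_ab (h.cmQ q)
  have n1 := q.n1
  have n2 := q.n2
  let ρ : G →* G := (MulAut.conj σ1).toMonoidHom
  have hρ : ∀ x, ρ x = σ1 * x * σ1⁻¹ := fun _ => rfl
  have rQ : ∀ {x}, x ∈ Q → ρ x ∈ Q := conj_mem_of_mem_nz n1
  have rA : ∀ {x}, x ∈ H.E1 → ρ x ∈ H.E1 := conj_mem_of_mem_nz h.a1.nz1
  have r3 : ∀ {x}, x ∈ Q → ρ (ρ (ρ x)) = x := fun {x} hx => by
    simpa [hρ, mul_assoc] using h.agQ q (mul_mem (mul_mem (h.q1 q) (h.q1 q)) (h.q1 q)) (one_mem _)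
      (acq ((h.a1.mul_t h.a1).mul_t h.a1) 1 1) ac_one x hx
  have hν : ∀ {x}, x ∈ Q → ex π (x * ρ x * ρ (ρ x)) = ex π x * ex π (ρ x) * ex π (ρ (ρ x)) := fun a => by
    rw [ex_mul π (mul_mem a (rQ a)) (rQ (rQ a)), ex_mul π a (rQ a)]
  have hν' : ∀ {x y}, x ∈ Q → y ∈ Q → ex π (x * y * ρ (x * y) * ρ (ρ (x * y))) =
      ex π (x * ρ x * ρ (ρ x)) * ex π (y * ρ y * ρ (ρ y)) := fun a b => by
    rw [hν (mul_mem a b), hν a, hν b, map_mul ρ, map_mul ρ, ex_mul π a b, ex_mul π (rQ a) (rQ b),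
      ex_mul π (rQ (rQ a)) (rQ (rQ b))]; ac_rfl
  let ν : Q →* Γ := MonoidHom.mk' (fun x => ex π (x * ρ x * ρ (ρ x))) fun x y => hν' x.2 y.2
  obtain ⟨W, hW⟩ : ∃ W : Subgroup G, ∀ x, x ∈ W ↔ x ∈ Q ∧ x * ρ x * ρ (ρ x) ∈ H.E1 :=
    ⟨pre ν ⊥, fun x => by
      rw [mem_pre_bot]
      exact and_congr_right fun hx => by
        rw [ex_of_mem _ hx]; exact hπ _ (mul_mem (mul_mem hx (rQ hx)) (rQ (rQ hx)))⟩
  have le : W ≤ Q := fun x hx => ((hW x).1 hx).1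
  have AW : H.E1 ≤ W := fun x hx => (hW x).2 ⟨AQ hx, mul_mem (mul_mem hx (rA hx)) (rA (rA hx))⟩
  have rt : ρ t = t := h.ft h.m1
  have tW : t ∉ W := fun e => h.tL (h.AL (by simpa [rt, h.tt] using ((hW t).1 e).2))
  have fA : ∀ {x a}, x ∈ Q → a ∈ H.E1 → x * a * x⁻¹ = a := fun a b => mem_cz.1 (q.cA a) _ b
  have τr : ∀ {x a}, x * t * x⁻¹ = t * a → ρ x * t * (ρ x)⁻¹ = t * ρ a := fun e => τ_cj e rt
  have dec : ∀ x ∈ Q, x ∈ W ∨ t * x ∈ W := fun x hx => by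
    obtain ⟨a, ha, e⟩ := h.cjt (q.nE hx)
    have m := mul_mem (mul_mem hx (rQ hx)) (rQ (rQ hx))
    have := τ_mul (τ_mul e (τr e) (fA hx (rA ha))) (τr (τr e)) (fA (mul_mem hx (rQ hx)) (rA (rA ha)))
    rw [mul_assoc a, show ρ a * ρ (ρ a) = a from tr3 h.a1 ha, el1 a ha, mul_one] at this
    refine (h.memE.1 (h.QC q m (mem_Cx.2 this))).imp (fun r => (hW x).2 ⟨hx, r⟩) fun ⟨b, hb, r⟩ =>
      (hW _).2 ⟨mul_mem tQ hx, (hπ _ (mul_mem (mul_mem (mul_mem tQ hx) (rQ (mul_mem tQ hx)))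
        (rQ (rQ (mul_mem tQ hx))))).1 ?_⟩
    rw [hν' tQ hx, r, rt, rt, h.tt, one_mul, ← ex_mul π tQ (mul_mem tQ (AQ hb)), ← mul_assoc, h.tt, one_mul]
    exact (hπ b (AQ hb)).2 hb
  have QW : Q ≤ nz W := le_nz_iff.2 fun g hg x hx => by
    simpa using mul_mem (AW (h.cmQ q g hg x (le hx))) hx
  have WC : ∀ {x}, x ∈ W → x ∈ Cx t → x ∈ H.E1 := fun a b => (h.memE.1 (h.QC q (le a) b)).resolve_right
    fun ⟨c, d, e⟩ => tW (by simpa [e] using mul_mem a (inv_mem (AW d)))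
  have sur : ∀ a ∈ H.E1, ∃ x ∈ W, x * t * x⁻¹ = t * a := fun a ha => by
    obtain ⟨x, hx, e⟩ := h.sur q ha
    exact (dec x hx).elim (fun r => ⟨x, r, e⟩) fun r =>
      ⟨_, r, by simpa using τ_mul (a := 1) (by simp) e (fA tQ ha)⟩
  have rW : ∀ {x}, x ∈ W → ρ x ∈ W := fun {x} hx => (hW _).2 ⟨rQ (le hx), by
    simpa only [map_mul] using rA ((hW x).1 hx).2⟩
  have sW : ∀ {x}, x ∈ W → σ2 * x * σ2⁻¹ ∈ W := fun {x} hx => by
    have c : ∀ {x}, x ∈ Q → ρ (σ2 * x * σ2⁻¹) = σ2 * ρ x * σ2⁻¹ := fun {x} hx => by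
      simpa [hρ, mul_assoc] using h.agQ q (mul_mem (h.q1 q) (h.q2 q)) (mul_mem (h.q2 q) (h.q1 q)) 
        (acq (h.a1.mul_t h.a2) w w) (acq (h.a2.mul_t h.a1) w w) x hx
    refine (hW _).2 ⟨conj_mem_of_mem_nz n2 (le hx), ?_⟩
    rw [c (le hx), c (rQ (le hx))]
    simpa [mul_assoc] using conj_mem_of_mem_nz h.a2.nz1 ((hW x).1 hx).2
  -- commutators
  let c : G → G → G := fun x y => x * y * x⁻¹ * y⁻¹
  have cA : ∀ {x y}, x ∈ W → y ∈ W → c x y ∈ H.E1 := fun a b => h.cmQ q _ (le a) _ (le b)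
  have c1 : ∀ {x x' y}, x ∈ W → x' ∈ W → y ∈ W → c (x * x') y = c x' y * c x y := fun {x x' y} a b d => by
    rw [← fA (le a) (cA b d)]; simp only [c]; group
  have c2 : ∀ {x y}, x ∈ W → y ∈ W → c y x = c x y := fun {x y} a b => by
    rw [← inv_eq (el1 _ (cA a b))]; simp only [c]; group
  have c3 : ∀ {a y}, a ∈ H.E1 → y ∈ W → c a y = 1 := fun {a y} p r => by
    rw [c2 r (AW p)]; exact mul_inv_eq_one.2 (fA (le r) p)
  have c4 : ∀ {x x' y}, x ∈ W → x' ∈ W → y ∈ W → x * t * x⁻¹ = x' * t * x'⁻¹ → c x y = c x' y :=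
    fun {x x' y} a b d e => by
      have m := mul_mem (inv_mem b) a
      rw [← mul_inv_cancel_left x' x, c1 b m d, c3 (WC m (τ_eq e)) d, one_mul]
  have c5 : ∀ g x y, g * c x y * g⁻¹ = c (g * x * g⁻¹) (g * y * g⁻¹) := fun g x y => by simp only [c]; group
  have c6 : ∀ {x y}, x ∈ W → y ∈ W → c (ρ (ρ x)) y * (c (ρ x) y * c x y) = 1 := fun {x y} a b => by
    rw [← c1 a (rW a) b, ← c1 (mul_mem a (rW a)) (rW (rW a)) b, c3 ((hW x).1 a).2 b]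
  have c7 : ∀ {x}, x ∈ W → c x (ρ x) = 1 := fun {x} a => fix_σ1 h.a1 (cA a (rW a)) (by
    have := c6 a (rW a)
    rw [show c (ρ x) (ρ x) = 1 by simp [c], one_mul, mul_eq_one_iff_eq_inv, inv_eq (el1 _ (cA a (rW a))),
      ← c2 (rW (rW a)) (rW a)] at this
    rw [c5]; exact this)
  have c8 : ∀ {x y}, x ∈ W → y ∈ W → c (ρ x) y = c x (ρ y) := fun {x y} a b => by
    have := c7 (mul_mem a b)
    rw [map_mul, c1 a b (mul_mem (rW a) (rW b)), c2 (mul_mem (rW a) (rW b)) b, c2 (mul_mem (rW a) (rW b)) a,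
      c1 (rW a) (rW b) b, c1 (rW a) (rW b) a, c2 b (rW b), c2 a (rW a), c7 a, c7 b, one_mul, mul_one,
      mul_eq_one_iff_eq_inv, inv_eq (el1 _ (cA (rW b) a)), c2 a (rW b)] at this
    exact this
  have c9 : ∀ {x y} {a b : F}, x ∈ W → y ∈ W → x * t * x⁻¹ = t * H.ev ⟨a, 0, 0⟩ →
      y * t * y⁻¹ = t * H.ev ⟨0, b, 0⟩ → x * y = y * x := fun {x y a b} p r e1 e2 => by
    have s1 : σ2 * c x y * σ2⁻¹ = c (ρ x) y := by
      rw [c5, c4 (sW p) (rW p) (sW r) (by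
        rw [τ_cj e1 (h.ft h.m2), τr e1, hρ, h.a1, h.a2]; congr 2; clear e1; revert a; decide),
        c2 (sW r) (rW p), c4 (sW r) r (rW p) (by
          rw [τ_cj e2 (h.ft h.m2), e2, h.a2]; congr 2; clear e2; revert b; decide), c2 (rW p) r]
    have := c6 p r
    rw [c8 (rW p) r, ← s1, hρ x, hρ y, ← c5] at this
    obtain ⟨m, hm, e⟩ := cA p r
    rw [← e, h.a1, h.a2, ← map_mul, ← map_mul, ← H.ev.map_one, ev_eq] at this
    rw [(M.all (by decide) : ∀ m : M, m.c = 0 →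
      (Pm.tor w 1).ap m * ((Pm.tor 1 w).ap m * m) = 1 → m = 1) m hm this, map_one] at e
    exact mul_inv_eq_iff_eq_mul.1 (mul_inv_eq_one.1 e.symm)
  obtain ⟨x, hx, e1⟩ := sur _ (ev_E1.2 (rfl : M.c ⟨1, 0, 0⟩ = 0))
  obtain ⟨y, hy, e2⟩ := sur _ (ev_E1.2 (rfl : M.c ⟨0, 1, 0⟩ = 0))
  have e3 : ρ x * t * (ρ x)⁻¹ = t * H.ev ⟨w, 0, 0⟩ := by rw [τr e1, hρ, h.a1]; rfl
  have e4 : ρ y * t * (ρ y)⁻¹ = t * H.ev ⟨0, w, 0⟩ := by rw [τr e2, hρ, h.a1]; rfl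
  have gen : ∀ D : Subgroup G, H.E1 ≤ D → x ∈ D → ρ x ∈ D → y ∈ D → ρ y ∈ D → W ≤ D := fun D a p1 p2 p3 p4 v hv => by
    let J : Subgroup M :=
      { carrier := {m | m.c = 0 ∧ ∃ x ∈ D ⊓ W, x * t * x⁻¹ = t * H.ev m}
        one_mem' := ⟨rfl, 1, one_mem _, by simp⟩
        mul_mem' := fun ⟨a, x, b, c⟩ ⟨a', x', b', c'⟩ => ⟨M.E1.mul_mem a a', _, mul_mem b b', by
          rw [map_mul]; exact τ_mul c c' (fA (le b.2) (ev_E1.2 a'))⟩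
        inv_mem' := fun ⟨a, x, b, c⟩ => ⟨a, _, inv_mem b, by
          rw [map_inv]; exact τ_inv c (fA (le b.2) (ev_E1.2 a))⟩ }
    obtain ⟨_, ⟨m, hm, rfl⟩, e⟩ := h.cjt (q.nE (le hv))
    obtain ⟨-, u, hu, e'⟩ := (closure_le J).2 (by
      rintro _ (rfl | rfl | rfl | rfl)
      exacts [⟨rfl, _, ⟨p1, hx⟩, e1⟩, ⟨rfl, _, ⟨p2, rW hx⟩, e3⟩, ⟨rfl, _, ⟨p3, hy⟩, e2⟩, ⟨rfl, _, ⟨p4, rW hy⟩, e4⟩])
      (four (a := ⟨1, 0, 0⟩) (b := ⟨w, 0, 0⟩) (c := ⟨0, 1, 0⟩) (d := ⟨0, w, 0⟩) (q := fun m => m.c = 0)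
        (M.all (by decide)) m hm)
    simpa using mul_mem hu.1 (a (WC (mul_mem (inv_mem hu.2) hv) (τ_eq (e.trans e'.symm))))
  have d7 : ∀ {x}, x ∈ W → x * ρ x = ρ x * x := fun a => mul_inv_eq_iff_eq_mul.1 (mul_inv_eq_one.1 (c7 a))
  have aC : ∀ {x}, x ∈ W → H.E1 ≤ Cx x := fun a => le_Cx.2 (q.cA (le a))
  have ab : W ≤ cz W := gen _ (le_cz_comm.1 (le.trans q.cA))
    (le_Cx.1 (gen _ (aC hx) self_Cx (mem_Cx'.2 (d7 hx).symm) (mem_Cx'.2 (c9 hx hy e1 e2).symm)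
      (mem_Cx'.2 (c9 hx (rW hy) e1 e4).symm)))
    (le_Cx.1 (gen _ (aC (rW hx)) (mem_Cx'.2 (d7 hx)) self_Cx (mem_Cx'.2 (c9 (rW hx) hy e3 e2).symm)
      (mem_Cx'.2 (c9 (rW hx) (rW hy) e3 e4).symm)))
    (le_Cx.1 (gen _ (aC hy) (mem_Cx'.2 (c9 hx hy e1 e2)) (mem_Cx'.2 (c9 (rW hx) hy e3 e2)) self_Cx
      (mem_Cx'.2 (d7 hy).symm)))
    (le_Cx.1 (gen _ (aC (rW hy)) (mem_Cx'.2 (c9 hx (rW hy) e1 e4)) (mem_Cx'.2 (c9 (rW hx) (rW hy) e3 e4))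
      (mem_Cx'.2 (d7 hy)) self_Cx))
  refine ⟨W, le, AW, tW, dec, ab, fun g hg => mem_nz_of_le fun u hu => by_contra fun u0 => ?_, ?_⟩
  · have u1 := (dec u ((cj_mono g le).trans (mem_nz.1 hg).le hu)).resolve_left u0
    have key : ∀ {x m}, x ∈ W → x * t * x⁻¹ = t * H.ev m → m ≠ 1 → g⁻¹ * x * g ∉ W := fun {x m} a b c d => by
      have e := mem_cz.1 ((cj_cz g W).le (cj_mono g ab (mem_cj.2 d))) u hu
      have e' := mem_cz.1 (ab a) _ u1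
      rw [← mul_inv_cancel_right (x * (t * u)) x⁻¹, show x * (t * u) * x⁻¹ * x⁻¹⁻¹ * x⁻¹ =
        x * t * x⁻¹ * (x * u * x⁻¹) by group, e, mul_left_inj, b, mul_eq_left, ← H.ev.map_one, ev_eq] at e'
      exact c e'
    have i1 := (dec _ (conj_mem_of_mem_nz' hg (le hx))).resolve_left (key hx e1 (by decide))
    have i2 := (dec _ (conj_mem_of_mem_nz' hg (le hy))).resolve_left (key hy e2 (by decide))
    refine key (mul_mem hx hy) (by rw [τ_mul e1 e2 (fA (le hx) (ev_E1.2 rfl)), ← map_mul]) (by decide) ?_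
    have := mul_mem (conj_mem_of_mem_nz' (QW tQ) i1) (h.ti ▸ i2 : t⁻¹ * _ ∈ W)
    simpa [mul_assoc] using this
  · let τ : W →* G := MonoidHom.mk' (fun x => t⁻¹ * (x * t * (x : G)⁻¹)) fun x y => by
      obtain ⟨a, -, e⟩ := h.cjt (q.nE (le x.2))
      obtain ⟨b, hb, e'⟩ := h.cjt (q.nE (le y.2))
      simp only [coe_mul, τ_mul e e' (fA (le x.2) hb), e, e', inv_mul_cancel_left]
    have k1 : τ.ker = H.E1.subgroupOf W := Subgroup.ext fun x =>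
      ⟨fun e => WC x.2 (mem_Cx.2 (inv_mul_eq_one.1 e).symm),
        fun e => inv_mul_eq_one.2 (h.ft (h.AL e)).symm⟩
    have k2 : τ.range = H.E1 := Subgroup.ext fun a => ⟨by
      rintro ⟨x, rfl⟩
      obtain ⟨a, ha, e⟩ := h.cjt (q.nE (le x.2))
      change t⁻¹ * _ ∈ _
      rwa [e, inv_mul_cancel_left], fun ha => let ⟨x, hx, e⟩ := sur a ha
        ⟨⟨x, hx⟩, by change t⁻¹ * _ = _; rw [e, inv_mul_cancel_left]⟩⟩
    rw [← τ.ker.card_mul_index, index_ker, k1, k2, Nat.card_congr (subgroupOfEquivOfLe AW).toEquiv, card_E1]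

end Cg

end H11.ML
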