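import Cfsg.Agent.H12.MS0
import Cfsg.Agent.H14.MS1
import Cfsg.Agent.H17.MS1
import Cfsg.Agent.H8.MS1
import Cfsg.Agent.H23.MS3
import Cfsg.Agent.H21.MS3

/-! S5899, chunk `TR`. -/

set_option autoImplicit false
set_option linter.unusedVariables false
set_option linter.unusedSectionVars false
set_option synthInstance.maxSize 2000

namespace H11.MS
open Cfsg Subgroup H18 H17.GS H28.S H2.GW H27.MS H12.MS
open H19 hiding eq_bot_mono
open H28.NG hiding Hyp Uniq Ch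
open H29.PU (bm JJ_le_bm bm_le)
open H9 (JJ MaxAb)
open H8.MS (L3 t8 U up_iff t8_inj mem_U)
open H23.MS (pr mem_pr card_pr pr_le)
open scoped MatrixGroups

universe u
variable {G : Type u} [Group G] [Finite G] {N Q T V W A R : Subgroup G} {a : G}

theorem n24 : ∀ s : Finset (Fin 8), s.card = 4 → 0 ∈ s → (∀ i ∈ s, ∀ j ∈ s, t8 i * t8 j * (t8 i * t8 j) = 1) →
    (Finset.univ.filter fun g : L3 => ∀ i ∈ s, ∃ j ∈ s, g * t8 i = t8 j * g).card = 24 := by decide +kernel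

theorem idx7 (h : Fr N Q T) (l : L7 N Q) (qr : Q ≤ R) (rt : R ≤ T) (c : #R = 4 * #Q) (sq : ∀ r ∈ R, r * r ∈ Q) :
    #N = 7 * #(N ⊓ N(R)) := by
  classical
  obtain ⟨π, hs, hk, hT⟩ := H8.MS.std h l
  have rN := rt.trans h.TN
  obtain ⟨Y, hY⟩ : ∃ Y, Y = (R.subgroupOf N).map π := ⟨_, rfl⟩
  have mS : ∀ g : N, π g ∈ Y ↔ (g : G) ∈ R := fun g => by
    rw [hY]
    refine ⟨fun ⟨y, a, b⟩ => ?_, fun a => ⟨g, a, rfl⟩⟩
    have : ((y⁻¹ * g : N) : G) ∈ Q := (hk _).1 (by rw [map_mul, map_inv, b, inv_mul_cancel])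
    simpa using mul_mem (show (y : G) ∈ R from a) (qr this)
  have nS : ∀ g : N, π g ∈ N(Y) ↔ (g : G) ∈ N(R) := fun g => by
    refine ⟨fun a => mem_norm_of_cj_le fun w hw => ?_, fun a => mem_normalizer_iff.2 fun y => ?_⟩
    · obtain ⟨t, b, rfl⟩ := mem_cj'.1 hw
      have := (mem_normalizer_iff.1 a _).1 ((mS ⟨t, rN b⟩).2 b)
      rw [← map_inv, ← map_mul, ← map_mul] at this
      exact (mS _).1 this
    · obtain ⟨y, rfl⟩ := hs y
      rw [← map_inv, ← map_mul, ← map_mul]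
      exact (mS _).trans ((mem_normalizer_iff.1 a _).trans (mS (g * y * g⁻¹)).symm)
  have e1 : pr π Y = R := Subgroup.ext fun g =>
    ⟨fun k => (mS ⟨g, pr_le _ k⟩).1 (mem_pr.1 k), fun k => (mem_pr (g := ⟨g, rN k⟩)).2 ((mS _).2 k)⟩
  have e2 : pr π N(Y) = N ⊓ N(R) := Subgroup.ext fun g =>
    ⟨fun k => ⟨pr_le _ k, (nS ⟨g, pr_le _ k⟩).1 (mem_pr.1 k)⟩, fun k => (mem_pr (g := ⟨g, k.1⟩)).2 ((nS _).2 k.2)⟩
  have yU : ∀ y ∈ Y, ∃ i, t8 i = y := fun y hy => by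
    obtain ⟨g, rfl⟩ := hs y
    exact (up_iff _).1 (mem_U.1 ((hT g).1 (rt ((mS g).1 hy))))
  obtain ⟨s, ms⟩ : ∃ s : Finset (Fin 8), ∀ i, i ∈ s ↔ t8 i ∈ Y :=
    ⟨Finset.univ.filter fun i => t8 i ∈ Y, fun i => by simp⟩
  have cY : #Y = s.card := by
    rw [← Finset.card_map ⟨t8, t8_inj⟩]
    refine Nat.subtype_card _ fun y => ?_
    rw [Finset.mem_map]
    exact ⟨fun ⟨i, a, b⟩ => b ▸ (ms i).1 a, fun k => let ⟨i, b⟩ := yU y k; ⟨i, (ms i).2 (b ▸ k), b⟩⟩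
  have c4 : s.card = 4 := by
    have := card_pr hs hk h Y
    rw [e1, c, cY] at this
    exact (Nat.eq_of_mul_eq_mul_right (card_pos Q) this).symm
  have c24 : #N(Y) = 24 := by
    rw [← n24 s c4 ((ms 0).2 (one_mem Y)) fun i hi j hj => ?_]
    · refine Nat.subtype_card _ fun g => ?_
      rw [Finset.mem_filter]
      refine ⟨fun k => mem_norm_of_cj_le fun w hw => ?_, fun k => ⟨Finset.mem_univ _, fun i hi => ?_⟩⟩
      · obtain ⟨t, b, rfl⟩ := mem_cj'.1 hw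
        obtain ⟨i, rfl⟩ := yU t b
        obtain ⟨j, p, q⟩ := k.2 i ((ms i).2 b)
        rw [q, mul_inv_cancel_right]
        exact (ms j).1 p
      · have := conj_mem_of_norm k ((ms i).1 hi)
        obtain ⟨j, q⟩ := yU _ this
        exact ⟨j, (ms j).2 (q ▸ this), by rw [q, inv_mul_cancel_right]⟩
    · obtain ⟨g, e⟩ := hs (t8 i * t8 j)
      have := mul_mem ((ms i).1 hi) ((ms j).1 hj)
      rw [← e] at this ⊢
      rw [← map_mul]
      exact (hk _).2 (sq _ ((mS g).1 this))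
  rw [← e2, card_pr hs hk h, c24, H14.MS.cN h l]
  ring

theorem abE (h : Abelem 2 A) : H9.AbE 2 A := ⟨ab_cent h, h.2⟩

theorem off (m : MaxAb 2 T A) (w : Abelem 2 W) (wT : W ≤ T) (c : Q ≤ C(W)) :
    #W * #(A ⊓ Q) ≤ #A * #(W ⊓ C(A)) := by
  have k : A ⊓ Q ≤ C(W) := inf_le_right.trans c
  have e := card_sup_mul_inf (A := W) (B := A ⊓ Q) (k.trans (cent_le_norm _))
  rw [← e]
  exact Nat.mul_le_mul (m.card_le (sup_le wT (inf_le_left.trans m.le))
    (abE (abelem_sup w (abelem_mono m.ea inf_le_left) (cents_symm k))))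
    (card_le (inf_le_inf_left _ (inf_le_left.trans (ab_cent m.ea))))

theorem le4 (h : H19.PG 2 V) (l : W ≤ V) (c : #W * 2 < #V) : #W * 4 ≤ #V := by
  obtain ⟨i, hi⟩ := h.exists_card
  obtain ⟨j, hj⟩ := (h.of_le l).exists_card
  rw [hi, hj] at c ⊢
  rw [← pow_succ] at c
  rw [show 4 = 2 ^ 2 from rfl, ← pow_add]
  exact Nat.pow_le_pow_right two_pos ((Nat.pow_lt_pow_iff_right one_lt_two).1 c)

theorem tr (nf : NF.{u}) (nl : NL.{u}) (nt : NT.{u}) (no : NO.{u}) (f1 : F1.{u}) : TR.{u} := by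
  intro G _ _ N Q T h l nc
  have f := l.toFr
  obtain ⟨V, hV⟩ : ∃ V, V = Zs Q := ⟨_, rfl⟩
  have ab : Abelem 2 V := hV ▸ abelem_Ohm1_center 2 Q
  have vZ : V ≤ Z(Q) := hV ▸ Ohm1_le _ _
  have vQ : V ≤ Q := vZ.trans inf_le_left
  have vT : V ≤ T := vQ.trans f.le
  have qV : Q ≤ C(V) := cents_symm (vZ.trans inf_le_right)
  have s : Sec N Q ⊥ V := sec_bot ab (hV ▸ f.nq.norm.trans (norm_le_norm_Ohm1_center 2 Q)) qV (hV ▸ nc)
  have zj : ∀ X ≤ V, JJ 2 T ≤ C(X) → bm 2 T ≤ C(X) := fun X a b => inf_le_right.trans (cent_mono fun x hx =>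
    H9.mem_omegaOneCenter_JJ_iff.2 fun A m => m.mem_of_mem_centralizer (vT (a hx)) (ab.2 _ (a hx))
      (cents_symm (m.le_JJ.trans b) hx))
  by_cases hJ : JJ 2 T ≤ Q
  · exact .inl ((le_inf (bm_le.trans f.TN) (zj V le_rfl (hJ.trans qV))).trans (s.ker' f))
  right
  obtain ⟨A, m, nA⟩ : ∃ A, MaxAb 2 T A ∧ ¬ A ≤ Q := by
    by_contra k
    push Not at k
    exact hJ (H9.JJ_le_iff.2 k)
  have l7 : L7 N Q := nf f l.q0 s m.ea (m.le.trans f.TN) nA (by rw [Cm_bot]; exact off m ab vT qV)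
  have cT := (H17.MS.l7 f l7).1
  have key : ∀ A, MaxAb 2 T A → ∀ a ∈ A, a ∉ Q → #(A ⊔ Q) = 4 * #Q ∧ V ⊓ C(A) = V ⊓ C[a] := fun A m a ha a0 => by
    have r1 := pg_lt_card f.syl.pi (lt_of_le_of_ne (sup_le m.le f.le) fun e => f1 f l.q0 m.ea m.le e.ge)
    have r2 := card_sup_mul_inf (A := Q) (B := A) ((m.le.trans f.TN).trans f.nq.norm)
    rw [sup_comm, inf_comm] at r2
    have r3 := off m ab vT qV
    have r4 := le4 (ab_pg ab) inf_le_left (nt h l s (f.TN (m.le ha)) a0)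
    have le : V ⊓ C(A) ≤ V ⊓ C[a] := inf_le_inf_left _ (cent_le_cent1 ha)
    have r5 := card_le le
    have p1 := card_pos Q
    have p2 := card_pos (A ⊓ Q)
    have p3 := card_pos (V ⊓ C(A))
    have r6 : #A ≤ 4 * #(A ⊓ Q) := Nat.le_of_mul_le_mul_left (by rw [← r2]; nlinarith) p1
    have r7 : #(V ⊓ C[a]) ≤ #(V ⊓ C(A)) := Nat.le_of_mul_le_mul_left (c := 4 * #(A ⊓ Q)) (by nlinarith) (by omega)
    have r8 : 4 * #(A ⊓ Q) ≤ #A := Nat.le_of_mul_le_mul_right (c := #(V ⊓ C(A))) (by nlinarith) p3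
    refine ⟨Nat.eq_of_mul_eq_mul_right p2 (by rw [r2, le_antisymm r6 r8]; ring), eq_of_le_of_card_ge le r7⟩
  obtain ⟨a, ha, a0⟩ := SetLike.not_le_iff_exists.1 nA
  obtain ⟨c4, eU⟩ := key A m a ha a0
  have rT : A ⊔ Q ≤ T := sup_le m.le f.le
  have JR : JJ 2 T ≤ A ⊔ Q := H9.JJ_le_iff.2 fun A' m' => by
    by_cases k : A' ≤ Q
    · exact k.trans le_sup_right
    obtain ⟨b, hb, b0⟩ := SetLike.not_le_iff_exists.1 k
    exact le_sup_left.trans (nl f l7 l.q0 m'.ea m.ea m'.le m.le (key A' m' b hb b0).1 c4).le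
  have cen : N ≤ C(Zs T) := by
    by_contra k
    have wV : Kc (Zs T) N ≤ V := Kc_le_of (hV ▸ H21.MS.zs_le l) s.nV
    have w := abelem_mono ab wV
    have qW := qV.trans (cent_mono wV)
    exact (no h l (sec_bot w Kc_norm qW fun j => k (j.trans (cent_mono le_Kc)))
      (Kc_le_of ((le_inf le_Kc ((Ohm1_le _ _).trans inf_le_right)).trans le_Kc) Kc_norm) m.ea (m.le.trans f.TN)
      nA).not_ge (off m w (wV.trans vT) qW)
  have rU : A ⊔ Q ≤ C(V ⊓ C(A)) := sup_le (cents_symm inf_le_right) (qV.trans (cent_mono inf_le_left))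
  have BR : bm 2 T ≤ A ⊔ Q := by
    by_contra k
    have bT : bm 2 T ⊔ (A ⊔ Q) ≤ T := sup_le bm_le rT
    have := pg_lt_card (f.syl.pi.of_le bT) (lt_of_le_of_ne le_sup_right fun e => k (le_sup_left.trans e.ge))
    have tU : T ≤ C(V ⊓ C(A)) := (eq_of_le_of_card_ge bT (by omega)).ge.trans
      (sup_le (zj _ inf_le_left (JR.trans rU)) rU)
    have nU : N ≤ C(V ⊓ C(A)) := cen.trans (cent_mono (abelem_le_Ohm1 (abelem_mono ab inf_le_left)
      (le_inf (inf_le_left.trans vT) (cents_symm tU))))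
    have nn := nU.trans (cent_le_norm _)
    have aN := f.TN (m.le ha)
    have aa : a * a = 1 := sq a ▸ m.ea.2 a ha
    rcases f.smp _ (inf_normal_of_norm' (norms_Cm nn s.nV)) with j | j
    · refine a0 (j ⟨aN, nn aN, fun w hw => ?_⟩)
      have hx : a * w * a⁻¹ * w⁻¹ ∈ V := mul_mem (conj_mem_of_norm (s.nV aN) hw) (inv_mem hw)
      rw [eU]
      refine ⟨hx, mem_centralizer_singleton_iff.2 ?_⟩
      have xx : (a * w * a⁻¹ * w⁻¹)⁻¹ = a * w * a⁻¹ * w⁻¹ := inv_eq_of_mul_eq_one_right ((sq _).symm.trans (ab.2 _ hx))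
      have ai : a⁻¹ = a := inv_eq_of_mul_eq_one_right aa
      symm
      nth_rewrite 2 [← xx]
      rw [ai]
      simp only [mul_inv_rev, inv_inv, ai, ← mul_assoc, aa, one_mul]
      rw [mul_assoc _ a a, aa, mul_one]
    · have c1 : ⁅N, V⁆ ≤ V ⊓ C(A) := commutator_le.2 fun g hg w hw => (j.ge hg).2.2 w hw
      have c2 : ⁅⁅N, V⁆, N⁆ = ⊥ := commutator_eq_bot_iff_le_centralizer.2 (c1.trans (cents_symm nU))
      have := three_subgroup c2 (by rwa [commutator_comm V])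
      rw [f.perf] at this
      exact s.nc' (commutator_eq_bot_iff_le_centralizer.1 this)
  have eR : bm 2 T ⊔ Q = A ⊔ Q :=
    le_antisymm (sup_le BR le_sup_right) (sup_le_sup_right (m.le_JJ.trans JJ_le_bm) _)
  have eN : N ⊓ N(A ⊔ Q) = N ⊓ N(bm 2 T) := le_antisymm
    (fun g k => ⟨k.1, mem_norm_iff_cj.2 (bm_wc ((cj_le_of_mem_norm k.2 BR).trans rT))⟩)
    (le_inf inf_le_left (eR ▸ norms_sup inf_le_right (inf_le_left.trans f.nq.norm)))
  refine ⟨l7, cen, eN ▸ idx7 f l7 le_sup_right rT c4 fun r hr => ?_, A, m, c4, BR, eN⟩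
  have aN := (m.le.trans f.TN).trans f.nq.norm
  obtain ⟨x, hx, y, hy, rfl⟩ := (mem_sup_of_norm' aN).1 hr
  have xx : x * x = 1 := (sq x).symm.trans (m.ea.2 x hx)
  have := mul_mem (conj_mem_of_norm (aN hx) hy) hy
  rwa [inv_eq_of_mul_eq_one_right xx, mul_assoc] at this

end H11.MS
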