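import Cfsg.Agent.H1.MS2

/-! S5899, part 3, chunk `CC`: the solvable case of `C[p] ≤ N`. -/

set_option autoImplicit false
set_option linter.unusedVariables false

namespace H11.MS
open Cfsg Subgroup H18 H17.GS H28.S H2.GW H27.MS H12.MS
open H19 hiding eq_bot_mono
open H28.NG hiding Hyp Uniq Ch
open H26.MS (Up Dp)

universe u

theorem cc (tv : H1.MS.TV.{u}) (td : H1.MS.TD.{u}) (ln : H1.MS.LN.{u}) (lb : H1.MS.LB.{u}) (g2 : G2.{u})
    (bk : BK.{u}) : H1.MS.CC.{u} := fun {G} _ _ {N Q T V A p h} b pV p1 cD aA AQ nD iq hN Ah so => by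
  obtain ⟨l7, aV, VQ, cV, nV, -, -, -, pt⟩ := bk b
  obtain ⟨P, R, t⟩ := pt p pV p1
  obtain ⟨DR, VD, UQ, aU⟩ := g2 b pV p1
  rw [← t.eP, ← t.eR] at DR
  have RP : R ≤ P := t.eR ▸ (Oc_normal _ _).le
  have PN : P ≤ N := t.eP.trans_le inf_le_left
  have PC : P ≤ C[p] := t.eP.trans_le inf_le_right
  have nD' : C[p] ≤ N(Dp p) := (Oc_normal _ _).norm
  have QC : Q ≤ C[p] := t.QR.trans (RP.trans PC)
  have nZ : C[p] ≤ N(zpowers p) := cent_zpowers p ▸ cent_le_norm _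
  have VU : V ≤ Up V p := le_Kc
  have ZV : zpowers p ≤ V := zpowers_le.2 pV
  have UC : Up V p ≤ C[p] := UQ.trans QC
  have sv : H1.MS.Sv C[p] (Dp p) (zpowers p) (Up V p) :=
    { sol := so
      eD := rfl
      ea := ⟨ZV.trans VU, (comm_iff_der.1 aU.1).le.trans bot_le,
        fun v hv => by rw [← sq, aU.2 v hv]; exact one_mem _, (ab_pg aV).of_le ZV⟩
      nU := Kc_norm
      nZ := nZ
      ker := fun g hg => ⟨fun k => by
        have K : C[p] ⊓ Cm (zpowers p) (Up V p) ≤ R := fun x hx => t.ker x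
          (t.eP ▸ ⟨nV.le (norm_of_Cm le_rfl ZV VU hx.2), hx.1⟩) (Cm_anti VU hx.2)
        exact le_Oc (inf_normal_of_norm' (norms_Cm nZ Kc_norm)) ((t.eR ▸ Oc_pi _ _ : H19.PG 2 R).of_le K) ⟨hg, k⟩,
        fun k => le_Cm' ((Oc_normal _ _).le.trans nZ) cD k⟩ }
  obtain ⟨a, ha, aD, eb⟩ := tv sv aA (AQ.trans QC) nD (iq.trans (Nat.mul_le_mul_left _ (card_le_of_le
    (le_inf inf_le_left (Cm_of_cent (inf_le_left.trans (UC.trans nZ)) inf_le_right)))))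
  obtain ⟨W, f, T₀, pW, WV, c4, fW, nf, l0, c0, D0, a0, x0⟩ := td b pV p1 t sv VU DR (AQ ha) ⟨QC (AQ ha), aD, eb⟩
  obtain ⟨fr, c1, c2, ne⟩ := ln b pV p1 t pW WV c4
  obtain ⟨x, hx, xP⟩ := lb fr l7 l0 c0 inf_le_left PN c1 (inf_le_inf_right _ PN) inf_le_left c2 ne (AQ ha) a0
    (fun x hx k => x0 x hx fun j => k ⟨hx, j⟩) hN fun x hx => D0 <| by
      have := (mem_normalizer_iff.1 (nD' (PC (inv_mem hx))) _).1 (mem_cj.1 (Ah ha))
      simpa [mul_assoc] using this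
  have e : h * p * h⁻¹ = x * p * x⁻¹ := by
    have := mem_centralizer_singleton_iff.1 (PC xP)
    calc h * p * h⁻¹ = x * (x⁻¹ * h * p) * h⁻¹ := by group
      _ = x * p * x⁻¹ := by rw [this]; group
  have qW : h * p * h⁻¹ ∈ W := e ▸ (mem_normalizer_iff.1 hx.2 _).1 pW
  have fC : h⁻¹ * f * h ∈ C[p] := mem_centralizer_singleton_iff.2 <| by
    have := fW _ qW
    calc h⁻¹ * f * h * p = h⁻¹ * (f * (h * p * h⁻¹)) * h := by group
      _ = p * (h⁻¹ * f * h) := by rw [← this]; group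
  have aD' : h⁻¹ * a * h ∈ Dp p := mem_cj.1 (Ah ha)
  have m : f * a * f⁻¹ * a⁻¹ ∈ H19.cj h (Dp p) := mem_cj.2 <| by
    have := mul_mem ((mem_normalizer_iff.1 (nD' fC) _).1 aD') (inv_mem aD')
    simpa [mul_assoc] using this
  obtain ⟨k, hk⟩ := (Oc_pi {2} C[p]).exists_card
  refine nf k ?_
  have : (⟨_, m⟩ : H19.cj h (Dp p)) ^ 2 ^ k = 1 := by rw [← hk, ← card_cj h]; exact pow_card_eq_one'
  rw [show (f * a * f⁻¹ * a⁻¹) ^ 2 ^ k = 1 from congrArg Subtype.val this]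
  exact one_mem _

end H11.MS
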