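/-
S5210, chunk M4: the Sylow `2`-subgroup of `PSU₄(2)` inside `L₄(2)`.
-/
import Cfsg.Agent.H7.PV2
import Mathlib.LinearAlgebra.Matrix.GeneralLinearGroup.Card

set_option autoImplicit false
set_option linter.unusedSectionVars false

namespace H11.PV
open Subgroup H25 H8.PU H7.PV H7.PV.Cu Matrix
universe u v
variable {K : Type v} [Field K] [Finite K] {σ : K →+* K} [IV σ]

abbrev X6 (p : ℕ) := Fin 6 → ZMod p
/-- multiplication in coordinates -/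
def mu2 (a b : X6 2) : X6 2 := ![a 0 + b 0, a 1 + b 1, a 2 + b 2, a 3 + b 3 + a 0 * b 2, a 4 + b 4 + a 1 * b 2,
  a 5 + b 5 + a 0 * b 4 + a 1 * b 3 + (a 0 + a 0 * a 1 + a 1) * b 2]
/-- coordinates for `q = 2` -/
theorem co2 (h : F2 σ) : ∃ P : X6 2 ≃ Cu σ, (∀ a b, P a * P b = P (mu2 a b)) ∧ (∀ a, (P a).t = 0 ↔ a 0 = 0 ∧ a 1 = 0) ∧
    (∀ a, (P a).u = 0 ↔ a 2 = 0) ∧ ∀ a b, (P a).s = (P b).s ↔ a 3 = b 3 ∧ a 4 = b 4 := by
  obtain ⟨ω, h1, h2, h3⟩ := h.ex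
  have two := h.two
  have := CharTwo.of_one_ne_zero_of_two_eq_zero one_ne_zero two
  obtain ⟨ι⟩ : Nonempty (ZMod 2 →+* K) := ⟨ZMod.castHom (dvd_refl 2) K⟩
  have c : ∀ a : ZMod 2, a = 0 ∨ a = 1 := by decide
  have s : ∀ a, σ (ι a) = ι a := fun a => by rcases c a with rfl | rfl <;> simp
  have sq : ∀ a, ι a * ι a = ι a := fun a => by rcases c a with rfl | rfl <;> simp
  have n0 : ω ≠ 0 := fun e => by simp [e] at h1
  have n1 : ω ≠ 1 := fun e => by simp [e] at h1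
  have k : ∀ a b a' b', ι a + ι b * ω = ι a' + ι b' * ω ↔ a = a' ∧ b = b' := fun a b a' b' => by
    refine ⟨fun e => ?_, fun e => by rw [e.1, e.2]⟩
    rcases c a with rfl | rfl <;> rcases c b with rfl | rfl <;> rcases c a' with rfl | rfl <;> rcases c b' with rfl | rfl <;>
      simp only [map_zero, map_one] at e <;> first | exact ⟨rfl, rfl⟩ | grind
  have k1 : ∀ x, ∃ a b, ι a + ι b * ω = x := fun x => by
    rcases h3 x with rfl | rfl | rfl | rfl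
    exacts [⟨0, 0, by simp⟩, ⟨1, 0, by simp⟩, ⟨0, 1, by simp⟩, ⟨1, 1, by simp [add_comm]⟩]
  have k2 : ∀ x, σ x = x → ∃ a, ι a = x := fun x e => by
    rcases h x e with rfl | rfl
    exacts [⟨0, by simp⟩, ⟨1, by simp⟩]
  let f : X6 2 → Cu σ := fun a => ⟨ι (a 0) + ι (a 1) * ω, ι (a 2), ι (a 3) + ι (a 4) * ω, ι (a 5), s _, s _⟩
  refine ⟨Equiv.ofBijective f ⟨fun a b e => ?_, fun x => ?_⟩, fun a b => ?_, fun a => ?_, fun a => ?_, fun a b => k _ _ _ _⟩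
  · have e1 := (k _ _ _ _).1 (congrArg Cu.t e)
    have e2 := ι.injective (congrArg Cu.u e)
    have e3 := (k _ _ _ _).1 (congrArg Cu.s e)
    have e4 := ι.injective (congrArg Cu.v e)
    ext i; fin_cases i
    exacts [e1.1, e1.2, e2, e3.1, e3.2, e4]
  · obtain ⟨a0, a1, e1⟩ := k1 x.t
    obtain ⟨a2, e2⟩ := k2 _ x.su
    obtain ⟨a3, a4, e3⟩ := k1 x.s
    obtain ⟨a5, e4⟩ := k2 _ x.sv
    exact ⟨![a0, a1, a2, a3, a4, a5], Cu.ext e1 e2 e3 e4⟩
  · have q0 := sq (a 0)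
    have q1 := sq (a 1)
    change f a * f b = f (mu2 a b)
    clear k k1 k2 h3 c
    ext <;> simp [f, mu2, s, h2] <;> grind
  · exact .trans (by simp [Equiv.ofBijective, f]) (k (a 0) (a 1) 0 0)
  · exact map_eq_zero ι

/-- the unitriangular matrix with given coordinates -/
def ma2 (a : X6 2) : Matrix (Fin 4) (Fin 4) (ZMod 2) :=
  !![1, a 0, a 3, a 3 * a 1 + a 5 + a 3 + a 4; 0, 1, a 2, a 2 * a 1 + a 4; 0, 0, 1, a 1; 0, 0, 0, 1]
theorem ma2_mul (a b : X6 2) : ma2 (mu2 a b) = ma2 a * ma2 b := by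
  ext i j
  fin_cases i <;> fin_cases j <;> simp [ma2, mu2, Matrix.mul_apply, Fin.sum_univ_four] <;> grind
theorem ma2_inj : Function.Injective ma2 := fun a b e => by
  have k := fun i j => congrFun (congrFun e i) j
  have k0 := k 0 1
  have k1 := k 2 3
  have k2 := k 1 2
  have k3 := k 0 2
  have k4 := k 1 3
  have k5 := k 0 3
  simp [ma2] at k0 k1 k2 k3 k4 k5
  ext i; fin_cases i <;> simp <;> grind
/-- a permutation matrix -/
def pm (i j : Fin 4) : GL (Fin 4) (ZMod 2) := (Matrix.permMatrixHom (R := ZMod 2)).toHomUnits (Equiv.swap i j)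

theorem m4 : M4 σ := fun h => by
  obtain ⟨P, hm, ht, hu, hs⟩ := co2 h
  have m1 : ∀ c d : Cu σ, ma2 (P.symm (c * d)) = ma2 (P.symm c) * ma2 (P.symm d) := fun c d => by
    obtain ⟨a, rfl⟩ := P.surjective c
    obtain ⟨b, rfl⟩ := P.surjective d
    simp only [hm, Equiv.symm_apply_apply, ma2_mul]
  have p0 : P 0 = 1 := by simpa [show mu2 0 0 = 0 by decide] using hm 0 0
  let ev : Cu σ →* GL (Fin 4) (ZMod 2) := MonoidHom.toHomUnits
    ⟨⟨fun c => ma2 (P.symm c), by rw [← p0, Equiv.symm_apply_apply]; decide⟩, m1⟩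
  have e : ∀ a, (ev (P a)).1 = ma2 a := fun a => congrArg ma2 (P.symm_apply_apply a)
  have inj : Function.Injective ev := fun c d k => P.symm.injective (ma2_inj (congrArg Units.val k))
  have cv := cv_range inj
  have cj : ∀ g : GL (Fin 4) (ZMod 2), ∀ a b, g * ev (P a) * g⁻¹ = ev (P b) ↔ g.1 * ma2 a = ma2 b * g.1 := fun g a b => by
    rw [mul_inv_eq_iff_eq_mul, Units.ext_iff, Units.val_mul, Units.val_mul, e, e]
  have nm : ∀ (g : GL (Fin 4) (ZMod 2)) (X : Subgroup (Cu σ)) (p : X6 2 → Prop), (∀ a, P a ∈ X ↔ p a) →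
      (∀ a, p a → ∃ b, p b ∧ g.1 * ma2 a = ma2 b * g.1) → g ∈ nz (X.map ev) := fun g X p h1 h2 => mem_nz_of_conj_mem (by
    rintro _ ⟨c, hc, rfl⟩
    obtain ⟨a, rfl⟩ := P.surjective c
    obtain ⟨b, k1, k2⟩ := h2 a ((h1 a).1 hc)
    exact ⟨_, (h1 b).2 k1, ((cj g a b).2 k2).symm⟩)
  have ej : ∀ (g : GL (Fin 4) (ZMod 2)) (b : X6 2), g ∈ nz ((Q2 σ).map ev) → b 2 = 0 → ¬ (b 3 = 0 ∧ b 4 = 0) →
      g.1 * ma2 ![0, 0, 0, 0, 0, 1] = ma2 b * g.1 → Ej (im2 ev ⊤) (P b).s := fun g b h1 h2 h3 h4 => by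
    obtain ⟨j, k⟩ := cv.ex2 h1
    have := (k (pj (P ![0, 0, 0, 0, 0, 1]))).symm
    rw [nj_pj ((ht _).2 ⟨rfl, rfl⟩), (cj _ _ _).2 h4] at this
    refine ⟨fun c => h3 ((hs b 0).1 (by rw [c, p0]; rfl)), j, ⟨g, trivial, k⟩, pj (P ![0, 0, 0, 0, 0, 1]), (hu _).2 rfl,
      ((hs ![0, 0, 0, 0, 0, 1] 0).2 ⟨rfl, rfl⟩).trans (by rw [p0]; rfl), ?_, congrArg Cu.s (inj this)⟩
    exact (congrArg Cu.u (inj this)).trans ((hu b).2 h2)
  refine ⟨_, inferInstance, inferInstance, ev, ⊤, inj, ⟨le_top, fun k => ?_⟩, ⟨pm 1 2, trivial,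
    nm _ _ _ hu (by decide +kernel), fun k => ?_⟩, _, _, fun k => ?_,
    ej (pm 0 1) ![0, 0, 0, 0, 1, 1] (nm _ _ _ ht (by decide +kernel)) rfl (by decide) (by decide +kernel),
    ej (pm 2 3) ![0, 0, 0, 1, 0, 1] (nm _ _ _ ht (by decide +kernel)) rfl (by decide) (by decide +kernel)⟩
  · have := ev.range.index_mul_card
    rw [← Nat.card_congr (MonoidHom.ofInjective inj).toEquiv, ← Nat.card_congr P, Matrix.card_GL_field] at this
    rw [relIndex_top_right] at k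
    simp [Fin.prod_univ_four] at this
    omega
  · have := conj_mem_of_mem_nz k (mem_map_of_mem ev (show P ![0, 0, 0, 1, 0, 1] ∈ Z2 σ from ⟨(ht _).2 ⟨rfl, rfl⟩, (hu _).2 rfl⟩))
    rw [(cj _ _ ![1, 0, 0, 0, 0, 0]).2 (by decide +kernel), cv.mm] at this
    exact absurd ((ht _).1 this.1).1 (by decide)
  · exact absurd ((hs _ _).1 k).1 (by decide)

end H11.PV
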