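/-
S5210, chunk M6: the Sylow `3`-subgroup of `PSU₄(3)` inside `U₆(2) ≤ U₆(2).2`.
-/
import Cfsg.Agent.H7.PV2
import Cfsg.Agent.H15.GC.M
import Cfsg.Agent.H11.Order3

set_option autoImplicit false
set_option linter.unusedSectionVars false

namespace H11.PV
open Subgroup H25 H8.PU H7.PV H7.PV.Cu Matrix
open scoped MatrixGroups
universe u v
variable {K : Type v} [Field K] [Finite K] {σ : K →+* K} [IV σ]

theorem card_cu : Nat.card (Cu σ) = Nat.card (Fx σ) ^ 6 := by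
  have : Nat.card (Cu σ) = Nat.card (K × Fx σ × K × Fx σ) := Nat.card_congr
    ⟨fun c => (c.t, ⟨c.u, c.su⟩, c.s, ⟨c.v, c.sv⟩), fun x => ⟨x.1, x.2.1, x.2.2.1, x.2.2.2, x.2.1.2, x.2.2.2.2⟩, fun _ => rfl, fun _ => rfl⟩
  simp only [this, Nat.card_prod, card_K σ]; ring
theorem card3 (h : F3 σ) : 3 ^ 6 ∣ Nat.card (Cu σ) := by
  have := Fact.mk Nat.prime_three
  have := (CharP.charP_iff_prime_eq_zero Nat.prime_three).2 h.1
  rw [card_cu]
  refine pow_dvd_pow_of_dvd ?_ 6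
  have := addOrderOf_dvd_natCard (⟨1, map_one σ⟩ : σ.eqLocus (RingHom.id K))
  rw [← addOrderOf_injective (σ.eqLocus (RingHom.id K)).subtype.toAddMonoidHom Subtype.val_injective] at this
  exact (CharP.eq K (CharP.addOrderOf_one K) ‹_› : addOrderOf (1 : K) = 3) ▸ this

section gen
variable {i : K} {Y : Subgroup (Cu σ)}
omit [Finite K]
theorem ind (hx : ∀ x, ∃ a b : ℤ, x = a + b * i) (f : K → Cu σ) (hf : ∀ x y, f (x + y) = f x * f y) (h1 : f 1 ∈ Y)
    (hi : f i ∈ Y) (x : K) : f x ∈ Y := by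
  obtain ⟨a, b, rfl⟩ := hx x
  let g : Multiplicative K →* Cu σ := MonoidHom.mk' (fun x => f x.toAdd) hf
  have := mul_mem (zpow_mem (show g (.ofAdd 1) ∈ Y from h1) a) (zpow_mem (show g (.ofAdd i) ∈ Y from hi) b)
  rw [← map_zpow g, ← map_zpow g, ← map_mul] at this
  convert this using 1
  exact congrArg f (by simp)
theorem dec (c : Cu σ) : c = xv c.v c.sv * xs c.s * xu c.u c.su * xt c.t := by ext <;> simp
theorem gv (h : F3 σ) (h1 : xv 1 (map_one σ) ∈ Y) (v : K) (hv : σ v = v) : xv v hv ∈ Y := by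
  rcases h.2 v hv with rfl | rfl | rfl
  · exact one_mem Y
  · exact h1
  · convert inv_mem h1 using 1; ext <;> simp
theorem gu (h : F3 σ) (h1 : xu 1 (map_one σ) ∈ Y) (v : K) (hv : σ v = v) : xu v hv ∈ Y := by
  rcases h.2 v hv with rfl | rfl | rfl
  · exact one_mem Y
  · exact h1
  · convert inv_mem h1 using 1; ext <;> simp
theorem gen1 (h : F3 σ) (hx : ∀ x, ∃ a b : ℤ, x = a + b * i) (a : xt 1 ∈ Y) (b : xt i ∈ Y) (c : xs 1 ∈ Y) (d : xs i ∈ Y)
    (z : xv 1 (map_one σ) ∈ Y) : Q1 σ ≤ Y := fun x k => by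
  rw [dec x]
  refine mul_mem (mul_mem (mul_mem (gv h z _ _) (ind hx xs (fun _ _ => by ext <;> simp) c d _)) ?_)
    (ind hx xt (fun _ _ => by ext <;> simp) a b _)
  convert one_mem Y; ext <;> simp [mQ1.1 k]
theorem gen2 (h : F3 σ) (hx : ∀ x, ∃ a b : ℤ, x = a + b * i) (w : xu 1 (map_one σ) ∈ Y) (c : xs 1 ∈ Y) (d : xs i ∈ Y)
    (z : xv 1 (map_one σ) ∈ Y) : Q2 σ ≤ Y := fun x k => by
  rw [dec x]
  refine mul_mem (mul_mem (mul_mem (gv h z _ _) (ind hx xs (fun _ _ => by ext <;> simp) c d _)) (gu h w _ _)) ?_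
  convert one_mem Y; ext <;> simp [mQ2.1 k]
theorem gen0 (h1 : Q1 σ ≤ Y) (h2 : Q2 σ ≤ Y) (x : Cu σ) : x ∈ Y :=
  inv_mul_cancel_right x (xt x.t) ▸ mul_mem (h2 (by simp [mQ2])) (h1 rfl)
end gen
section
variable {Γ : Type u} [Group Γ] [Finite Γ] {ev : Cu σ →* Γ} {g : Γ} {X : Subgroup (Cu σ)}
theorem nz_gen (k : X ≤ ((X.map ev).comap (MulAut.conj g).toMonoidHom).comap ev) : g ∈ nz (X.map ev) :=
  mem_nz_of_conj_mem (by rintro _ ⟨c, hc, rfl⟩; exact k hc)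
theorem ac_ap {f : A1 K} (inj : Function.Injective ev) (k : Ac1 ev g f) {c c' : Cu σ} (hc : c.u = 0)
    (e : g * ev c * g⁻¹ = ev c') : f (c.t, c.s) = (c'.t, c'.s) :=
  let ⟨_, _, e1, e2⟩ := k c hc
  e2.symm.trans (inj (e1.symm.trans e) ▸ rfl)
end

open H15.GC
abbrev Mt := Matrix (Fin 6) (Fin 6) F4
abbrev U6 := Cfsg.SU 6 F4 2
theorem c4 : Fintype.card F4 = 2 ^ 2 := rfl
theorem mU {g : SL(6, F4)} : g ∈ U6 ↔ g.1ᵀ * g.1.map (frob c4) = 1 :=
  (toGL_mem_GU 6 g).symm.trans (mem_GU_iff_matrix c4 6 _)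
theorem card_U6 : Nat.card U6 = 3 ^ 7 * 12615680 := by
  have := card_SU_mul c4 (n := 6) (by decide)
  rw [card_GU c4] at this
  simp only [Finset.prod_range_succ] at this
  norm_num at this
  change Nat.card (Cfsg.SU 6 F4 2) = _
  omega
theorem k1 (g : U6) : g.1.1 * g⁻¹.1.1 = 1 := congrArg (·.1.1) (mul_inv_cancel g)
theorem k2 (g : U6) : g⁻¹.1.1 * g.1.1 = 1 := congrArg (·.1.1) (inv_mul_cancel g)
/-- the conjugation action on matrices -/
def rh : U6 →* Equiv.Perm Mt := MonoidHom.mk' (fun g => ⟨fun M => g.1.1 * M * g⁻¹.1.1, fun M => g⁻¹.1.1 * M * g.1.1,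
    fun M => by simp only [← mul_assoc]; rw [mul_assoc, k2, one_mul, mul_one],
    fun M => by simp only [← mul_assoc]; rw [mul_assoc, k1, one_mul, mul_one]⟩)
  fun g h => Equiv.ext fun M => by simp [mul_assoc]
theorem re {g h : U6} : rh g = rh h ↔ ∃ l : F4, g.1.1 = l • h.1.1 := by
  have k : ∀ g : U6, rh g = 1 ↔ ∃ l : F4, g.1.1 = l • 1 := fun g => by
    refine ⟨fun e => ?_, fun ⟨l, e⟩ => Equiv.ext fun M => ?_⟩
    · obtain ⟨l, e⟩ := Matrix.mem_range_scalar_iff_commute_single'.2 fun i j => show Commute (single i j 1) g.1.1 by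
        have : g.1.1 * _ * g⁻¹.1.1 = single i j 1 := congrArg (· (single i j 1)) e
        rw [Commute, SemiconjBy, ← mul_one (g.1.1 * _), ← k2 g, ← mul_assoc, this]
      exact ⟨l, by rw [← e, scalar_apply, smul_one_eq_diagonal]⟩
    · change g.1.1 * M * g⁻¹.1.1 = M
      rw [show g.1.1 * M = M * g.1.1 by simp [e], mul_assoc, k1, mul_one]
  rw [← mul_inv_eq_one, ← map_inv, ← map_mul, k]
  change (∃ l, g.1.1 * h⁻¹.1.1 = _) ↔ _
  exact exists_congr fun l => ⟨fun e => by rw [← mul_one g.1.1, ← k2 h, ← mul_assoc, e]; simp,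
    fun e => by rw [e, smul_mul_assoc, k1]⟩
theorem cjr {g x y : U6} : rh g * rh x * (rh g)⁻¹ = rh y ↔ ∃ l : F4, g.1.1 * x.1.1 = l • (y.1.1 * g.1.1) := by
  rw [mul_inv_eq_iff_eq_mul, ← map_mul, ← map_mul, re]; rfl
/-- the field automorphism -/
def bar : U6 →* U6 := ((SpecialLinearGroup.map (frob c4)).comp U6.subtype).codRestrict _ fun g => mU.2 (by
  have := congrArg (·.map (frob c4)) (mU.1 g.2)
  simpa [Matrix.map_mul, Matrix.map_one, transpose_map] using this)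
def ph : Equiv.Perm Mt := Function.Involutive.toPerm (·.map (frob c4)) fun M => by ext; exact frob_frob c4 _
theorem ph_cj (g : U6) : ph * rh g * ph⁻¹ = rh (bar g) := mul_inv_eq_iff_eq_mul.2 (Equiv.ext fun M => by
  change (g.1.1 * M * g⁻¹.1.1).map (frob c4) = _ * M.map (frob c4) * (bar g)⁻¹.1.1
  rw [← map_inv, Matrix.map_mul, Matrix.map_mul]; rfl)
theorem cjp {x y : U6} : ph * rh x * ph⁻¹ = rh y ↔ ∃ l : F4, x.1.1.map (· ^ 2) = l • y.1.1 := by rw [ph_cj, re]; rfl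

/-- coded matrices -/
def mk (n : ℕ) : Mt := fun i j => F4.e (Nat.shiftRight n (Nat.mul 2 (Nat.add (Nat.mul 6 i.1) j.1)))
def su (n : ℕ) (h : (mk n)ᵀ * mk n * ((mk n)ᵀ * mk n) = 1 ∧ (mk n)ᵀ * (mk n).map (· ^ 2) = 1 := by decide +kernel) : U6 :=
  ⟨⟨mk n, by simpa [p4] using congrArg det h.1⟩, mU.2 h.2⟩
def ea : U6 := su 0x400100040004001010
def eb : U6 := su 0x100040400010004001
def em : U6 := su 0x400100010040004001
def ef : U6 := su 0x40010004002d039015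
/-- diagonal matrices -/
def ch (x : ZMod 3) : F4 := F4.e (x.val + 1)
theorem ch_add : ∀ x y, ch (x + y) = ch x * ch y := by decide +kernel
def ex6 (e : Fin 5 → ZMod 3) : Fin 6 → ZMod 3 := ![e 0, e 1, e 2, e 3, e 4, -(e 0 + e 1 + e 2 + e 3 + e 4)]
def dg (e : Fin 5 → ZMod 3) : U6 := ⟨⟨diagonal fun i => ch (ex6 e i), by
    simp only [det_diagonal, Fin.prod_univ_six, ← ch_add]; simp [ex6]; rfl⟩, mU.2 (by
  have : ∀ x, ch x * ch x ^ 2 = 1 := by decide +kernel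
  simp [diagonal_map, this])⟩
theorem dg_add (e e' : Fin 5 → ZMod 3) : dg (e + e') = dg e * dg e' := Subtype.ext (Subtype.ext (by
  change diagonal _ = diagonal _ * diagonal _
  rw [diagonal_mul_diagonal]; congr 1; ext i; rw [← ch_add]; congr 1
  fin_cases i <;> simp [ex6]; ring))
theorem dg_neg (e : Fin 5 → ZMod 3) : dg (-e) = (dg e)⁻¹ :=
  eq_inv_of_mul_eq_one_left (by rw [← dg_add, neg_add_cancel]; exact Subtype.ext (Subtype.ext (by decide +kernel)))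
theorem r3 {g : U6} (h : ∃ l : F4, g.1.1 * g.1.1 * g.1.1 = l • (1 : Mt) := by decide +kernel) : rh g ^ 3 = 1 := by
  rw [← map_one rh, pow_three', ← map_mul, ← map_mul, re]; exact h
theorem rc {g g' : U6} (h : ∃ l : F4, g.1.1 * g'.1.1 = l • (g'.1.1 * g.1.1) := by decide +kernel) : Commute (rh g) (rh g') := by
  rw [Commute, SemiconjBy, ← map_mul, ← map_mul, re]; exact h
abbrev ew := dg ![2, 0, 0, 2, 2]
abbrev ec := dg ![0, 1, 2, 0, 0]
abbrev ed := dg ![0, 0, 0, 2, 1]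
abbrev ez := dg ![1, 1, 1, 0, 0]
abbrev eo := dg ![1, 1, 1, 1, 1]
theorem eo1 : rh eo = 1 := by rw [← map_one rh, re]; decide +kernel
theorem allJ {X : Subgroup (Equiv.Perm Mt)} (w : rh ew ∈ X) (c : rh ec ∈ X) (d : rh ed ∈ X) (z : rh ez ∈ X) (e : Fin 5 → ZMod 3) :
    rh (dg e) ∈ X := by
  have ad : ∀ {e e'}, rh (dg e) ∈ X → rh (dg e') ∈ X → rh (dg (e + e')) ∈ X := fun h h' => by
    rw [dg_add, map_mul]; exact mul_mem h h'
  have o : rh eo ∈ X := eo1 ▸ one_mem X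
  have ns : ∀ (n : ℕ) {e}, rh (dg e) ∈ X → rh (dg (n • e)) ∈ X := fun n e h => by
    induction n with
    | zero => have := mul_mem h (inv_mem h); rwa [← map_inv, ← map_mul, ← dg_neg, ← dg_add, add_neg_cancel] at this
    | succ n k => rw [succ_nsmul]; exact ad k h
  have : ∀ e : Fin 5 → ZMod 3, e = (2 * (e 0 + e 1 + e 2)).val • ![2, 0, 0, 2, 2] + (2 * e 1 + e 2).val • ![0, 1, 2, 0, 0] +
    (e 3 + 2 * e 4).val • ![0, 0, 0, 2, 1] + (e 0 + e 3 + e 4).val • ![1, 1, 1, 0, 0] +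
    (2 * (e 0 + e 1 + e 2 + e 3 + e 4)).val • ![1, 1, 1, 1, 1] := by decide +kernel
  rw [this e]
  exact ad (ad (ad (ad (ns _ w) (ns _ c)) (ns _ d)) (ns _ z)) (ns _ o)
theorem noinv (g : U6) (h : ∀ e, rh g * rh (dg e) * (rh g)⁻¹ = (rh (dg e))⁻¹) : False := by
  have k : ∀ e, trace (dg e).1.1 = 1 → trace (dg (-e)).1.1 = 1 → g * dg e * g⁻¹ = dg (-e) := fun e h1 h2 => by
    have := h e
    rw [← map_inv, ← map_inv, ← map_mul, ← map_mul, ← dg_neg, re] at this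
    obtain ⟨l, e1⟩ := this
    have e2 := congrArg trace e1
    change trace (g.1.1 * (dg e).1.1 * g⁻¹.1.1) = _ at e2
    rw [trace_mul_cycle, k2, one_mul, trace_smul, h1, h2, smul_eq_mul, mul_one] at e2
    exact Subtype.ext (Subtype.ext (by rw [e1, ← e2, one_smul]))
  have ad : ∀ {e e'}, g * dg e * g⁻¹ = dg (-e) → g * dg e' * g⁻¹ = dg (-e') → g * dg (e + e') * g⁻¹ = dg (-(e + e')) := fun h h' => by
    rw [neg_add, dg_add, dg_add, ← h, ← h']; group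
  have := ad (ad (ad (ad (k ![1, 0, 0, 0, 0] (by decide +kernel) (by decide +kernel)) (k ![0, 1, 0, 0, 0] (by decide +kernel)
    (by decide +kernel))) (k ![0, 0, 1, 0, 0] (by decide +kernel) (by decide +kernel))) (k ![0, 0, 0, 1, 0] (by decide +kernel)
    (by decide +kernel))) (k ![0, 0, 0, 0, 1] (by decide +kernel) (by decide +kernel))
  rw [show (![1, 0, 0, 0, 0] + _ + _ + _ + _ : Fin 5 → ZMod 3) = ![1, 1, 1, 1, 1] by decide] at this
  have e : eo.1.1 = ω • (1 : Mt) := by decide +kernel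
  have e1 : g.1.1 * eo.1.1 * g⁻¹.1.1 = _ := congrArg (·.1.1) this
  rw [e, mul_smul_comm, mul_one, smul_mul_assoc, k1] at e1
  revert e1; decide +kernel
theorem phn : zpowers ph ≤ nz rh.range :=
  zpowers_le.2 (mem_nz_of_conj_mem (by rintro _ ⟨g, rfl⟩; exact ⟨_, (ph_cj g).symm⟩))
theorem syl6 {S : Subgroup (Equiv.Perm Mt)} (h1 : S ≤ rh.range) (h2 : 3 ^ 6 ∣ Nat.card S) : Syl 3 S (zpowers ph ⊔ rh.range) := by
  have := Fact.mk Nat.prime_three
  refine Syl.trans ⟨h1, fun k => ?_⟩ (Syl.cover (U := ⊥) (H := zpowers ph) ⟨bot_le, fun k => ?_⟩ le_sup_left bot_le le_sup_right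
    fun a ha => ?_)
  · have e1 := (S.subgroupOf rh.range).index_mul_card
    rw [Nat.card_congr (subgroupOfEquivOfLe h1).toEquiv] at e1
    have e2 := rh.ker.index_mul_card
    rw [index_ker, card_U6, ← e1] at e2
    have e3 := orderOf_dvd_natCard (⟨eo, eo1⟩ : rh.ker)
    rw [orderOf_eq_prime (p := 3) (x := (⟨eo, eo1⟩ : rh.ker)) (Subtype.ext (Subtype.ext (Subtype.ext
      (show eo.1.1 ^ 3 = 1 by decide +kernel)))) fun e => absurd (congrArg (·.1.1.1) e) (show eo.1.1 ≠ 1 by decide +kernel)] at e3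
    exact absurd (e2 ▸ mul_dvd_mul (mul_dvd_mul k h2) e3) (by decide)
  · rw [relIndex_bot_left, Nat.card_zpowers] at k
    exact absurd (k.trans (orderOf_dvd_of_pow_eq_one (n := 2) (Equiv.ext fun M => by ext; exact frob_frob c4 _))) (by decide)
  · obtain ⟨x, hx, y, hy, rfl⟩ := (coe_mul_of_left_le_normalizer_right _ _ phn).le ha
    exact ⟨x, hx, by simpa using hy⟩

theorem m6 (r : R3 σ) : M6 σ := fun h => by
  obtain ⟨i, i1, i2, hx⟩ := h.ex
  obtain ⟨ev, inj, a, b, w, c, d, z⟩ := r h i i1 i2 _ (rh ea) (rh eb) (rh ew) (rh ec) (rh ed) (rh ez) r3 r3 r3 r3 r3 r3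
    (by rw [← map_one rh, Ne, re]; decide +kernel) rc rc rc rc rc rc rc
    (by simp only [pow_two, ← rh.map_mul, re]; decide +kernel) (by simp only [pow_two, ← rh.map_mul, re]; decide +kernel) rc rc
    (by simp only [pow_two, ← rh.map_mul, re]; decide +kernel) rc (by simp only [pow_two, ← rh.map_mul, re]; decide +kernel) rc
  have cv := cv_range inj
  have i0 : i ≠ 0 := fun e => by simp [e] at i1
  have J := allJ (X := (Q2 σ).map ev) (w ▸ cv.mm.2 rfl) (c ▸ cv.mm.2 rfl) (d ▸ cv.mm.2 rfl) (z ▸ cv.mm.2 rfl)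
  have l : ev.range ≤ rh.range := by
    rintro _ ⟨x, rfl⟩
    exact gen0 (Y := rh.range.comap ev) (gen1 h hx ⟨_, a.symm⟩ ⟨_, b.symm⟩ ⟨_, c.symm⟩ ⟨_, d.symm⟩ ⟨_, z.symm⟩)
      (gen2 h hx ⟨_, w.symm⟩ ⟨_, c.symm⟩ ⟨_, d.symm⟩ ⟨_, z.symm⟩) x
  have q : ∀ {g} (x y : Cu σ), y.u = 0 → g * ev x * g⁻¹ = ev y →
      x ∈ (((Q1 σ).map ev).comap (MulAut.conj g).toMonoidHom).comap ev := fun _ y h1 h2 => ⟨y, h1, h2.symm⟩
  have q2 : ∀ {g} (x : Cu σ) (e e'), ev x = rh (dg e) → (∃ l : F4, g.1.1 * (dg e).1.1 = l • ((dg e').1.1 * g.1.1)) →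
      x ∈ (((Q2 σ).map ev).comap (MulAut.conj (rh g)).toMonoidHom).comap ev := fun x e e' h1 h2 => by
    change rh _ * ev x * (rh _)⁻¹ ∈ (Q2 σ).map ev
    rw [h1, cjr.2 h2]; exact J e'
  have fa : rh ef * ev (xt 1) * (rh ef)⁻¹ = ev (xs 1) := by rw [a, c, cjr]; decide +kernel
  have fb : rh ef * ev (xt i) * (rh ef)⁻¹ = ev (xt i) := by rw [b, cjr]; decide +kernel
  have fc : rh ef * ev (xs 1) * (rh ef)⁻¹ = ev (xt 1 * xt 1) := by rw [ev.map_mul, a, c, ← rh.map_mul ea ea, cjr]; decide +kernel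
  have fd : rh ef * ev (xs i) * (rh ef)⁻¹ = ev (xs i) := by rw [d, cjr]; decide +kernel
  have fz : rh ef * ev (xv 1 (map_one σ)) * (rh ef)⁻¹ = ev (xv 1 (map_one σ)) := by rw [z, cjr]; decide +kernel
  have pa : ph * ev (xt 1) * ph⁻¹ = ev (xt 1) := by rw [a, cjp]; decide +kernel
  have pb : ph * ev (xt i) * ph⁻¹ = ev (xt i) := by rw [b, cjp]; decide +kernel
  have pc : ph * ev (xs 1) * ph⁻¹ = ev (xs 1)⁻¹ := by rw [ev.map_inv, c, ← rh.map_inv (dg _), ← dg_neg, cjp]; decide +kernel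
  have pd : ph * ev (xs i) * ph⁻¹ = ev (xs i)⁻¹ := by rw [ev.map_inv, d, ← rh.map_inv (dg _), ← dg_neg, cjp]; decide +kernel
  have pz : ph * ev (xv 1 (map_one σ)) * ph⁻¹ = ev (xv 1 (map_one σ))⁻¹ := by
    rw [ev.map_inv, z, ← rh.map_inv (dg _), ← dg_neg, cjp]; decide +kernel
  obtain ⟨f, hf⟩ := cv.ex1 (nz_gen (gen1 h hx (q _ _ rfl fa) (q _ _ rfl fb) (q _ _ (by simp) fc) (q _ _ rfl fd) (q _ _ rfl fz)))
  obtain ⟨f', hp⟩ := cv.ex1 (nz_gen (gen1 h hx (q _ _ rfl pa) (q _ _ rfl pb) (q _ _ (by simp) pc) (q _ _ (by simp) pd)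
    (q _ _ (by simp) pz)))
  refine ⟨_, inferInstance, inferInstance, ev, rh.range, zpowers ph ⊔ rh.range, inj, l, le_sup_right,
    sup_le phn (le_nz_self _), syl6 l (Nat.card_congr (MonoidHom.ofInjective inj).toEquiv ▸ card3 h),
    ⟨rh em, ⟨_, rfl⟩, nz_gen (gen2 h hx (q2 _ _ ![2, 0, 2, 0, 2] w (by decide +kernel)) (q2 _ _ ![0, 1, 0, 2, 0] c (by decide +kernel))
      (q2 _ _ ![0, 0, 2, 0, 1] d (by decide +kernel)) (q2 _ _ ![1, 1, 0, 1, 0] z (by decide +kernel))), fun k => ?_⟩,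
    ⟨f, ⟨_, ⟨_, rfl⟩, hf⟩, fun k => ?_, i, i0, congrArg Prod.fst (ac_ap inj hf rfl fd)⟩, ?_, f', ⟨_, mem_sup_left (mem_zpowers _), hp⟩, ?_⟩
  · have := conj_mem_of_mem_nz k (cv.mm.2 (show xv 1 (map_one σ) ∈ Z σ from ⟨rfl, rfl, rfl⟩))
    rw [z, (cjr (y := dg ![1, 1, 0, 1, 0])).2 (by decide +kernel)] at this
    have := mem_cz'.1 (cv.cS1.symm.cz this) _ (cv.mS (xt 1))
    rw [a, ← rh.map_mul, ← rh.map_mul, re] at this
    revert this; decide +kernel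
  · have := k 1
    rw [show f (0, 1) = _ from ac_ap inj hf rfl fc] at this
    exact one_ne_zero (α := K) (by simp only [mul_t, xt_t] at this; linear_combination h.1 - this)
  · rintro _ ⟨g, rfl⟩
    by_contra! k
    exact noinv g fun e => k _ (J e)
  · have k1 : f' (1, 0) = _ := ac_ap inj hp rfl pa
    have k2 : f' (i, 0) = _ := ac_ap inj hp rfl pb
    have k3 : f' (0, 1) = _ := ac_ap inj hp rfl pc
    have k4 : f' (0, i) = _ := ac_ap inj hp rfl pd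
    have k : ∀ v : K × K, f' v = (v.1, -v.2) := fun ⟨t, s⟩ => by
      obtain ⟨a, b, rfl⟩ := hx t
      obtain ⟨c, d, rfl⟩ := hx s
      rw [show ((a + b * i, c + d * i) : K × K) = a • (1, 0) + b • (i, 0) + c • (0, 1) + d • (0, i) by simp]
      simp only [map_add, map_zsmul, k1, k2, k3, k4]
      simp; ring
    exact ⟨fun v => by rw [k], fun s => k _⟩

end H11.PV
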