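import Cfsg.Agent.H11.PrD1
import Cfsg.Agent.H11.SpinGrp
import Cfsg.Agent.H11.OmegaOrder

/-! # Bounded presentations of the split even orthogonal groups -/

set_option autoImplicit false
set_option linter.unusedSectionVars false
set_option maxHeartbeats 800000

namespace H11.C2

open H14 H14.RootSys H14.PreSt Subgroup H13.SL2 H11.Md H11.PSL
open Matrix hiding transvection
open Matrix.SpecialLinearGroup
open scoped MatrixGroups commutatorElement Monoid.Coprod

section gen
variable {ι κ : Type*} [Fintype κ] [DecidableEq κ] [Fintype ι] [DecidableEq ι] {R : RootSys ι κ}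
  {C : Chev R} {K G : Type*} [Field K] [Group G] {S : St C K G} {J : Type*} [Group J]

theorem gph_range {A : Type*} [Group A] {f : A →* G} (hf : Function.Injective f) (ν : A →* J) :
    Gph (f.prod ν).range := by
  rintro g ⟨u, hu⟩
  obtain rfl : u = 1 := hf ((congrArg Prod.fst hu).trans (map_one f).symm)
  exact (congrArg Prod.snd hu).symm.trans (map_one ν)

theorem orth_graph' {fa fb : SL(2, K) →* G} (ia : Function.Injective fa) (ib : Function.Injective fb)
    (hc : ∀ z z', Commute (fa z) (fb z')) {α β : SL(2, K) →* J} (hc' : ∀ z z', Commute (α z) (β z'))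
    (hk : ∀ s t : K, s ≠ 0 → t ≠ 0 → fa (dd s) * fb (dd t) = 1 → α (dd s) * β (dd t) = 1) :
    ∃ M : Subgroup (G × J), Gph M ∧ ∀ z, (fa z, α z) ∈ M ∧ (fb z, β z) ∈ M := by
  have hcc : ∀ z z', Commute ((fa.prod α) z) ((fb.prod β) z') := fun z z' => Prod.ext (hc z z').eq (hc' z z').eq
  refine ⟨((fa.prod α).noncommCoprod (fb.prod β) hcc).range, ?_,
    fun z => ⟨⟨(z, 1), by rw [MonoidHom.noncommCoprod_apply, map_one, mul_one]; rfl⟩,
      ⟨(1, z), by rw [MonoidHom.noncommCoprod_apply, map_one, one_mul]; rfl⟩⟩⟩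
  rintro g ⟨⟨z, z'⟩, e⟩
  have e1 : fa z * fb z' = 1 := congrArg Prod.fst e
  have e2 : α z * β z' = g := congrArg Prod.snd e
  obtain ⟨s, hs, rfl⟩ := center_sl2 (g := z) fun u => ia (by
    simpa [eq_inv_of_mul_eq_one_left e1] using (hc u z').symm.inv_left.eq)
  obtain ⟨t, ht, rfl⟩ := center_sl2 (g := z') fun u => ib (by
    simpa [eq_inv_of_mul_eq_one_right e1] using (hc _ u).inv_left.eq)
  exact e2.symm.trans (hk s t hs ht e1)

theorem amalgam' [Finite K] [Nontrivial κ] (hC : COk C.toPreChev) (hR : R.Conn) (hS : S.Sep)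
    (hG : S.U Set.univ = ⊤) {f : κ → SL(2, K) →* G}
    (hf : ∀ i, Nd S (MonoidHom.id G) (R.simple i) (f i)) (α : κ → SL(2, K) →* J)
    (hk : ∀ c, (hmul_of_finite S).tor c = 1 → ∃ (i j : κ) (s t : Kˣ), c = Pi.mulSingle i s * Pi.mulSingle j t ∧
      α i (dd s) * α j (dd t) = 1)
    (h : ∀ i j, ∃ M : Subgroup (G × J), Gph M ∧ ∀ z, (f i z, α i z) ∈ M ∧ (f j z, α j z) ∈ M) :
    ∃ φ : G →* J, ∀ i, φ.comp (f i) = α i := by
  obtain ⟨S', hS'⟩ := exists_preSt_of_graph hC hR S (fun i t => α i (x t)) (fun i t => α i (y t)) fun i j => by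
    obtain ⟨M, h1, h2⟩ := h i j
    refine ⟨M, h1, fun k hk t => ?_⟩
    rw [← (hf k).hx, ← (hf k).hy]
    rcases Finset.mem_insert.1 hk with rfl | hk
    · exact ⟨(h2 _).1, (h2 _).1⟩
    · obtain rfl := Finset.mem_singleton.1 hk; exact ⟨(h2 _).2, (h2 _).2⟩
  obtain ⟨φ, hφ⟩ := St.exists_isHom_of_H (S' := S'.toSt hR) hS hG fun p hp h1 => by
    have hh := hmul_of_finite (S.prod (S'.toSt hR))
    obtain ⟨c, rfl⟩ := hh.range_tor.ge hp
    obtain ⟨i, j, s, t, rfl, e⟩ := hk c ((hh.map (hmul_of_finite S) (S.isHom_fst _) c).symm.trans h1)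
    have k : ∀ i (s : K), S'.h (R.simple i) s = α i (dd s) := fun i s => by
      simp only [PreSt.h, PreSt.n, (hS' i).1, (hS' i).2, dd, w, map_mul, ← x_neg, ← y_neg, _root_.mul_inv_rev, mul_assoc,
        inv_neg, inv_one]
    rw [map_mul, St.HMul.tor_single, St.HMul.tor_single, ← e, ← k, ← k]; rfl
  exact ⟨φ, fun i => sl2_ext (fun t => (congrArg φ ((hf i).hx t)).trans ((hφ _ t).trans (congrFun (hS' i).1 t)))
    (fun t => (congrArg φ ((hf i).hy t)).trans ((hφ _ t).trans (congrFun (hS' i).2 t)))⟩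

theorem sl2_commute {φ : SL(2, K) →* G} {g : G} (h1 : ∀ t, Commute (φ (x t)) g) (h2 : ∀ t, Commute (φ (y t)) g)
    (z : SL(2, K)) : Commute (φ z) g :=
  mem_centralizer_singleton_iff.1 (sl2_mem (H := centralizer {g}) (fun t => mem_centralizer_singleton_iff.2 (h1 t))
    (fun t => mem_centralizer_singleton_iff.2 (h2 t)) z)

end gen

theorem hasPr_free : HasPr (FreeGroup PUnit) 1 0 :=
  ⟨fun _ => .of .unit, Pr.of_hom (top_le_iff.1 ((FreeGroup.closure_range_of _).ge.trans (closure_mono (by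
    rintro _ ⟨_, rfl⟩; exact ⟨0, rfl⟩)))) [] (by simp)
    ⟨FreeGroup.lift fun _ => PresentedGroup.of 0, fun i => by simp [Subsingleton.elim i 0]⟩⟩

section rels
variable {A B J J' : Type*} [Group A] [Group B] [Group J] [Group J']

/-- the conjugated node -/
def cjN (e : B →* A) (ν : A →* J) (ω : J) : B →* J := (MulAut.conj ω).toMonoidHom.comp (ν.comp e)

theorem cjN_apply (e : B →* A) (ν : A →* J) (ω : J) (z : B) : cjN e ν ω z = ω * ν (e z) * ω⁻¹ := rfl

theorem comp_cjN (e : B →* A) (ν : A →* J) (ω : J) (φ : J →* J') :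
    φ.comp (cjN e ν ω) = cjN e (φ.comp ν) (φ ω) := by ext; simp [cjN_apply]

open Classical in
/-- the additional relators -/
noncomputable def relsD (bs : List B) (cs : List A) (e : B →* A) (u v g : A) (g' : B) (wd : A ∗ B) (P : Prop)
    (ν : A →* J) (ω : J) : List J :=
  (bs.flatMap fun b => cs.map fun c => ⁅cjN e ν ω b, ν c⁆) ++ [⁅ω, ν u⁆, ⁅ω, ν v⁆,
    ω * (Monoid.Coprod.lift ν (cjN e ν ω) wd)⁻¹, if P then ν g * cjN e ν ω g' else 1]

theorem relsD_iff {bs : List B} {cs : List A} {e : B →* A} {u v g : A} {g' : B} {wd : A ∗ B} {P : Prop}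
    {ν : A →* J} {ω : J} (φ : J →* J') {ν' : A →* J'} {ω' : J'} (h1 : φ.comp ν = ν') (h2 : φ ω = ω') :
    (∀ r ∈ relsD bs cs e u v g g' wd P ν ω, φ r = 1) ↔ (∀ b ∈ bs, ∀ c ∈ cs, Commute (cjN e ν' ω' b) (ν' c)) ∧
      Commute ω' (ν' u) ∧ Commute ω' (ν' v) ∧ ω' = Monoid.Coprod.lift ν' (cjN e ν' ω') wd ∧
      (P → ν' g * cjN e ν' ω' g' = 1) := by
  subst h1 h2
  simp only [relsD, List.forall_mem_append, List.forall_mem_flatMap, List.forall_mem_map, List.forall_mem_cons,
    map_commutatorElement, commutatorElement_eq_one_iff_commute, List.not_mem_nil, IsEmpty.forall_iff, implies_true,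
    and_true, map_mul, map_inv, mul_inv_eq_one, ← comp_cjN, ← Monoid.Coprod.comp_lift, MonoidHom.comp_apply]
  split_ifs with h <;> simp [h]

end rels

variable {K : Type*} [Field K] {m : ℕ}

/-- the root elements of the two end nodes. -/
def G0 (m : ℕ) (K : Type*) [Field K] : Set SL(m + 4, K) := {g | ∃ (a b : Fin (m + 4)) (h : a ≠ b) (t : K),
  ((a : ℕ) + b = 1 ∨ (a : ℕ) + b = 2 * m + 5) ∧ g = transvection h t}

/-- `cs` generates the end nodes together with the inner nodes. -/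
def CG (cs : List SL(m + 4, K)) : Prop := (∀ c ∈ cs, c ∈ closure (G0 m K)) ∧ ∀ D : Subgroup SL(m + 4, K),
  (∀ (a b : Fin (m + 4)) (h : a ≠ b) t, 0 < (a : ℕ) → (a : ℕ) < m + 2 → 0 < (b : ℕ) → (b : ℕ) < m + 2 →
    transvection h t ∈ D) → (∀ c ∈ cs, c ∈ D) → G0 m K ⊆ D

theorem ne_p0 : (⟨m + 2, by omega⟩ : Fin (m + 4)) ≠ 0 := by simp [Fin.ext_iff]

universe u in
theorem fork_glue {K : Type u} [Field K] [Finite K] {m : ℕ} {ι G : Type*} [Fintype ι] [DecidableEq ι] [Group G]
    {R : RootSys ι (Fin (m + 4))} {C : Chev R} {S : St C K G} (hC : COk C.toPreChev) (hR : R.Conn) (hS : S.Sep)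
    (hG : S.U Set.univ = ⊤) (hk : ∀ c, (hmul_of_finite S).tor c = 1 → c = 1 ∨
      c = Pi.mulSingle (Fin.last _).castSucc (-1) * Pi.mulSingle (Fin.last _) (-1))
    (hA : ∀ i : Fin (m + 3), (i : ℕ) ≠ m + 1 → R.A i.castSucc (Fin.last _) = 0)
    (f : SL(m + 4, K) →* G) (hf : Function.Injective f)
    (hx : ∀ (i : Fin (m + 3)) t, f (transvection (Fin.castSucc_lt_succ (i := i)).ne t) = S.x (R.simple i.castSucc) t)
    (hy : ∀ (i : Fin (m + 3)) t, f (transvection (Fin.castSucc_lt_succ (i := i)).ne' t) =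
      S.x (R.neg (R.simple i.castSucc)) t) (W : G)
    (hW : ∀ (a b : Fin (m + 2)) (h : a ≠ b) t,
      Commute W (f (transvection ((Fin.castSucc_injective _).ne ((Fin.succ_injective _).ne h)) t)))
    (hW1 : ∀ t, W * f (transvection ne_p0 t) * W⁻¹ = S.x (R.simple (Fin.last _)) t)
    (hW2 : ∀ t, W * f (transvection ne_p0.symm t) * W⁻¹ = S.x (R.neg (R.simple (Fin.last _))) t)
    {bs : List SL(2, K)} {cs : List SL(m + 4, K)} (hb : BG SL(m + 4, K) bs) (hc : CG cs)
    {k b : ℕ} (h : HasPr SL(m + 4, K) k b) : HasPr G (k + 1) (b + (bs.length * cs.length + 4)) := by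
  classical
  choose E iE ex ey using fun i : Fin (m + 3) => exists_e2 (K := K) (Fin.castSucc_lt_succ (i := i)).ne
  obtain ⟨e, ie, e1, e2⟩ := exists_e2 (K := K) (ne_p0 (m := m))
  obtain ⟨j, -, hj⟩ := exists_emb (K := K) ((Fin.succEmb (m + 2)).trans Fin.castSuccEmb)
  obtain ⟨a, c, hac⟩ := sl_two_gen' (K := K) (m + 1)
  have na : ∀ i, Nd S (MonoidHom.id G) (R.simple i.castSucc) (f.comp (E i)) := fun i =>
    ⟨fun t => (congrArg f (ex i t)).trans (hx i t), fun t => (congrArg f (ey i t)).trans (hy i t),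
      fun z z' h => iE i (hf h)⟩
  let fb := cjN e f W
  have ib : Function.Injective fb := (MulAut.conj W).injective.comp (hf.comp ie)
  have nb : Nd S (MonoidHom.id G) (R.simple (Fin.last _)) fb :=
    ⟨fun t => (hW1 t) ▸ e1 t ▸ rfl, fun t => (hW2 t) ▸ e2 t ▸ rfl, fun z z' h => ib h⟩
  have hc1 : ∀ i : Fin (m + 3), (i : ℕ) ≠ m + 1 → ∀ z z', Commute (f (E i z)) (fb z') := fun i hi =>
    Nd.commute (Fin.castSucc_lt_last _).ne (hA i hi) (na _) nb
  have hG0 : ∀ g ∈ G0 m K, ∃ i : Fin (m + 3), ((i : ℕ) = 0 ∨ (i : ℕ) = m + 2) ∧ g ∈ (E i).range := by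
    rintro _ ⟨a, b, h, t, h1, rfl⟩
    have := Fin.val_ne_iff.2 h
    rcases lt_or_gt_of_ne h with h2 | h2 <;> rw [Fin.lt_def] at h2
    · refine ⟨⟨a, by omega⟩, by simp only; omega, x t, (ex _ t).trans ?_⟩
      congr 1; simp only [Fin.ext_iff, Fin.val_succ]; omega
    · refine ⟨⟨b, by omega⟩, by simp only; omega, y t, (ey _ t).trans ?_⟩
      congr 1; simp only [Fin.ext_iff, Fin.val_succ]; omega
  have hgen : f.range ⊔ fb.range = ⊤ := top_of_simple hG fun i t => by
    induction i using Fin.lastCases with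
    | last => exact ⟨mem_sup_right ⟨_, nb.hx t⟩, mem_sup_right ⟨_, nb.hy t⟩⟩
    | cast i => exact ⟨mem_sup_left ⟨_, hx i t⟩, mem_sup_left ⟨_, hy i t⟩⟩
  obtain ⟨wd, hwd⟩ : W ∈ (Monoid.Coprod.lift f fb).range := by rw [Monoid.Coprod.range_lift, hgen]; trivial
  refine (h.glue hasPr_free f (FreeGroup.lift fun _ => W) (top_le_iff.1 (hgen.ge.trans (sup_le le_sup_left ?_)))
    (relsD bs cs e (j a) (j c) (E (Fin.last _) (dd (-1))) (dd (-1)) wd
      (f (E (Fin.last _) (dd (-1))) * fb (dd (-1)) = 1) Monoid.Coprod.inl (Monoid.Coprod.inr (.of .unit))) ?_ ?_).mono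
    (by simp [relsD, List.length_flatMap])
  · rintro _ ⟨z, rfl⟩
    have : W ∈ f.range ⊔ (FreeGroup.lift fun _ : PUnit => W).range := mem_sup_right ⟨.of .unit, by simp⟩
    exact mul_mem (mul_mem this (mem_sup_left ⟨_, rfl⟩)) (inv_mem this)
  · have k : ∀ z, Commute W (f (j z)) := fun z => (mem_centralizer_singleton_iff.1 ((sl_subgroup_eq_top
      ((centralizer {W}).comap (f.comp j)) fun a b h t => mem_centralizer_singleton_iff.2 (by
        rw [MonoidHom.comp_apply, hj]; exact (hW a b h t).symm)).ge (mem_top z))).symm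
    refine (relsD_iff _ (ν' := f) (ω' := W) rfl (by simp)).2 ⟨fun b _ c hc' => ?_, k a, k c, hwd.symm, id⟩
    refine (mem_centralizer_singleton_iff.1 ((closure_le ((centralizer {fb b}).comap f)).2 (fun g hg => ?_)
      (hc.1 c hc'))).symm
    obtain ⟨i, hi, z, rfl⟩ := hG0 g hg
    exact mem_centralizer_singleton_iff.2 (hc1 i (by omega) z b)
  intro J _ ν ν₂ hL
  obtain ⟨ω, hω⟩ : ∃ ω, ν₂ (.of .unit) = ω := ⟨_, rfl⟩
  obtain ⟨r1, r2, r3, r4, r5⟩ := (relsD_iff (Monoid.Coprod.lift ν ν₂) (ν' := ν) (ω' := ω) rfl hω).1 hL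
  set β := cjN e ν ω
  have m1 : ∀ (a b : Fin (m + 4)) (h : a ≠ b) t, 0 < (a : ℕ) → (a : ℕ) < m + 3 → 0 < (b : ℕ) → (b : ℕ) < m + 3 →
      Commute ω (ν (transvection h t)) := fun a' b' h t h1 h2 h3 h4 => by
    have := commute_gen1 (g := ν.comp j) hac r2 r3 (transvection (i := ⟨a' - 1, by omega⟩) (j := ⟨b' - 1, by omega⟩)
      (by have := Fin.val_ne_iff.2 h; simp only [ne_eq, Fin.ext_iff]; omega) t)
    rw [MonoidHom.comp_apply, hj] at this
    convert this using 3 <;> simp [Fin.ext_iff] <;> omega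
  have m2 : ∀ (a b : Fin (m + 4)) (h : a ≠ b) t, 0 < (a : ℕ) → (a : ℕ) < m + 2 → 0 < (b : ℕ) → (b : ℕ) < m + 2 →
      ∀ z, Commute (ν (transvection h t)) (β z) := fun a b h t h1 h2 h3 h4 z => by
    have c1 := m1 a b h t h1 (by omega) h3 (by omega)
    refine (c1.symm.mul_right (Commute.map (Commute.symm ?_) ν)).mul_right c1.symm.inv_right
    refine sl2_commute (fun s => ?_) (fun s => ?_) z <;> [rw [e1]; rw [e2]] <;> apply tv_comm <;>
      simp only [ne_eq, Fin.ext_iff, Fin.val_zero] <;> omega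
  have m3 : ∀ z, ∀ g ∈ G0 m K, Commute (ν g) (β z) := fun z g hg => by
    have hp : (⟨m + 2, by omega⟩ : Fin (m + 4)) ≠ 1 := by simp [Fin.ext_iff]
    refine (mem_centralizer_iff.1 (hb e ((centralizer (ν '' G0 m K)).comap
      ((MulAut.conj ω).toMonoidHom.comp ν)) (fun s hs => ⟨diag2n hp s hs, fun t => ?_, fun t => ?_, fun u hu => ?_⟩)
      (fun b hb' => ?_) z) _ ⟨g, hg, rfl⟩)
    · rw [e1, e1, diag_tv']; simp [Fin.ext_iff]
    · rw [e2, e2, diag_tv']; simp [Fin.ext_iff]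
    · have c1 : Commute ω (ν (diag2n hp s hs)) := by
        have k := fun t => m1 _ _ hp t (by simp) (by simp) (by simp) (by simp)
        have k' := fun t => m1 _ _ hp.symm t (by simp) (by simp) (by simp) (by simp)
        simp only [diag2n_eq_prod, map_mul]
        exact (((k _).mul_right (k' _)).mul_right (k _)).mul_right (((k _).mul_right (k' _)).mul_right (k _))
      rintro _ ⟨_, ⟨a, b, h, t, h1, rfl⟩, rfl⟩
      have c2 := hu _ ⟨_, ⟨a, b, h, _, h1, diag_tv' h hp.symm hs t⟩, rfl⟩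
      rw [PSL.diag_inv hp] at c2
      simp only [map_mul, map_inv, MonoidHom.comp_apply, MulEquiv.coe_toMonoidHom, MulAut.conj_apply, inv_inv,
        c1.eq, mul_inv_cancel_right] at c2 ⊢
      refine (mul_left_cancel_iff (a := (ν (diag2n hp s hs))⁻¹)).1 ((mul_right_cancel_iff (a := ν (diag2n hp s hs))).1 ?_)
      simpa only [mul_assoc, inv_mul_cancel, mul_one, inv_mul_cancel_left] using c2
    · rintro _ ⟨g, hg, rfl⟩
      exact mem_centralizer_singleton_iff.1 (hc.2 ((centralizer {β b}).comap ν) (fun a b h t h1 h2 h3 h4 =>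
        mem_centralizer_singleton_iff.2 (m2 a b h t h1 h2 h3 h4 _)) (fun c hc =>
          mem_centralizer_singleton_iff.2 (r1 b hb' c hc).symm) hg)
  have g1 : ∀ i : Fin (m + 3), ∃ M : Subgroup (G × J), Gph M ∧
      ∀ z, (f (E i z), ν (E i z)) ∈ M ∧ (fb z, β z) ∈ M := fun i => by
    have := i.2
    by_cases hi : (i : ℕ) = m + 1
    · refine ⟨_, gph_range (f := cjN (MonoidHom.id _) f W) ((MulAut.conj W).injective.comp hf)
        (cjN (MonoidHom.id _) ν ω), fun z => ⟨⟨E i z, Prod.ext (mul_inv_eq_iff_eq_mul.2 ?_) (mul_inv_eq_iff_eq_mul.2 ?_)⟩,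
          ⟨e z, rfl⟩⟩⟩
      · refine (sl2_commute (φ := f.comp (E i)) (fun t => ?_) (fun t => ?_) z).symm.eq
        · have := hW ⟨m, by omega⟩ ⟨m + 1, by omega⟩ (by simp) t
          rw [MonoidHom.comp_apply, ex]
          convert this.symm using 3 <;> simp [Fin.ext_iff, hi]
        · have := hW ⟨m + 1, by omega⟩ ⟨m, by omega⟩ (by simp) t
          rw [MonoidHom.comp_apply, ey]
          convert this.symm using 3 <;> simp [Fin.ext_iff, hi]
      · refine (sl2_commute (φ := ν.comp (E i)) (fun t => ?_) (fun t => ?_) z).symm.eq <;>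
          [rw [MonoidHom.comp_apply, ex]; rw [MonoidHom.comp_apply, ey]] <;> refine (m1 _ _ _ _ ?_ ?_ ?_ ?_).symm <;>
          simp [hi]
    refine orth_graph' (fa := f.comp (E i)) (hf.comp (iE i)) ib (hc1 i hi) (α := ν.comp (E i)) (fun z z' => ?_)
      fun s t hs ht h1 => ?_
    · refine sl2_commute (fun t => ?_) (fun t => ?_) z <;>
        [rw [MonoidHom.comp_apply, ex]; rw [MonoidHom.comp_apply, ey]] <;>
        by_cases h0 : (i : ℕ) = 0 ∨ (i : ℕ) = m + 2
      · exact m3 _ _ ⟨_, _, _, _, by simp only [Fin.val_castSucc, Fin.val_succ]; omega, rfl⟩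
      · apply m2 <;> simp only [Fin.val_castSucc, Fin.val_succ] <;> omega
      · exact m3 _ _ ⟨_, _, _, _, by simp only [Fin.val_castSucc, Fin.val_succ]; omega, rfl⟩
      · apply m2 <;> simp only [Fin.val_castSucc, Fin.val_succ] <;> omega
    have h2 := hk (Pi.mulSingle i.castSucc (Units.mk0 s hs) * Pi.mulSingle (Fin.last _) (Units.mk0 t ht)) (by
      rw [map_mul, St.HMul.tor_single, St.HMul.tor_single, ← h1]
      exact congrArg₂ _ ((na i).hd s).symm (nb.hd t).symm)
    have n1 := (Fin.castSucc_lt_last i).ne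
    have n2 := (Fin.castSucc_lt_last (Fin.last (m + 2))).ne
    have d1 : dd (1 : K) = 1 := mul_inv_cancel _
    rcases h2 with h2 | h2
    · have a1 := congrArg Units.val (congrFun h2 i.castSucc)
      have a2 := congrArg Units.val (congrFun h2 (Fin.last _))
      simp [n1, n1.symm] at a1 a2
      simp [a1, a2, d1]
    · have a1 := congrArg Units.val (congrFun h2 i.castSucc)
      have a2 := congrArg Units.val (congrFun h2 (Fin.last _))
      have a3 := congrArg Units.val (congrFun h2 (Fin.last _).castSucc)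
      by_cases h3 : i = Fin.last _
      · subst h3
        simp [n1, n1.symm] at a1 a2
        subst a1 a2
        exact r5 h1
      · simp [n1, n1.symm, n2, n2.symm, h3, Ne.symm h3] at a1 a2 a3
        simp [a1, a2, ← a3, d1]
  obtain ⟨φ, hφ⟩ := amalgam' hC hR hS hG (f := Fin.lastCases fb fun i => f.comp (E i)) (fun i => by
      induction i using Fin.lastCases <;> simp only [Fin.lastCases_last, Fin.lastCases_castSucc, na, nb])
    (Fin.lastCases β fun i => ν.comp (E i)) (fun c hc => by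
      rcases hk c hc with rfl | rfl
      · exact ⟨0, 0, 1, 1, by simp, by simp [dd]⟩
      refine ⟨_, _, _, _, rfl, ?_⟩
      simp only [Fin.lastCases_last, Fin.lastCases_castSucc]
      refine r5 ?_
      rw [map_mul, St.HMul.tor_single, St.HMul.tor_single] at hc
      exact (congrArg₂ _ ((na _).hd _) (nb.hd _)).trans hc) (fun i i' => by
      induction i using Fin.lastCases with
      | last =>
        induction i' using Fin.lastCases with
        | last => simpa using (g1 0).imp fun M h => ⟨h.1, fun z => (h.2 z).2⟩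
        | cast i' => simpa using (g1 i').imp fun M h => ⟨h.1, fun z => (h.2 z).symm⟩
      | cast i =>
        induction i' using Fin.lastCases with
        | last => simpa using g1 i
        | cast i' =>
          simp only [Fin.lastCases_castSucc]
          exact ⟨_, gph_range hf ν, fun z => ⟨⟨_, rfl⟩, ⟨_, rfl⟩⟩⟩)
  have f1 : φ.comp f = ν := MonoidHom.eq_of_eqOn_dense (s := ((φ.comp f).eqLocus ν : Set _)) (by
    rw [closure_eq]
    refine sl_top fun i t => ?_
    have := hφ i.castSucc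
    simp only [Fin.lastCases_castSucc] at this
    exact ⟨ex i t ▸ DFunLike.congr_fun this (x t), ey i t ▸ DFunLike.congr_fun this (y t)⟩) fun _ h => h
  have f2 : φ.comp fb = β := by simpa using hφ (Fin.last _)
  refine ⟨φ, f1, FreeGroup.ext_hom _ _ fun _ => ?_⟩
  rw [MonoidHom.comp_apply, FreeGroup.lift_apply_of, ← hwd, ← MonoidHom.comp_apply, Monoid.Coprod.comp_lift, f1, f2, ← r4,
    hω]

theorem mem_G0 {a b : Fin (m + 4)} (h : a ≠ b) (h1 : (a : ℕ) + b = 1 ∨ (a : ℕ) + b = 2 * m + 5)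
    {e : SL(2, K) →* SL(m + 4, K)} (e1 : ∀ t, e (x t) = transvection h t) (e2 : ∀ t, e (y t) = transvection h.symm t)
    (z : SL(2, K)) : e z ∈ closure (G0 m K) :=
  sl2_mem (fun t => Subgroup.subset_closure (by exact ⟨_, _, _, _, h1, e1 t⟩))
    (fun t => Subgroup.subset_closure (by exact ⟨_, _, _, _, by omega, e2 t⟩)) z

theorem G0_sub {D : Subgroup SL(m + 4, K)} (h1 : ∀ t, transvection (i := 0) (j := 1) (by simp) t ∈ D)
    (h2 : ∀ t, transvection (i := 1) (j := 0) (by simp) t ∈ D)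
    (h3 : ∀ t, transvection (Fin.castSucc_lt_last (Fin.last _)).ne t ∈ D)
    (h4 : ∀ t, transvection (Fin.castSucc_lt_last (Fin.last _)).ne' t ∈ D) : G0 m K ⊆ D := by
  rintro _ ⟨a, b, h, t, h0, rfl⟩
  have := Fin.val_ne_iff.2 h
  obtain h5 | h5 | h5 | h5 : ((a : ℕ) = 0 ∧ (b : ℕ) = 1) ∨ ((a : ℕ) = 1 ∧ (b : ℕ) = 0) ∨
    ((a : ℕ) = m + 2 ∧ (b : ℕ) = m + 3) ∨ ((a : ℕ) = m + 3 ∧ (b : ℕ) = m + 2) := by omega
  · obtain ⟨rfl, rfl⟩ : a = 0 ∧ b = 1 := by simp [Fin.ext_iff, h5]
    exact h1 t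
  · obtain ⟨rfl, rfl⟩ : a = 1 ∧ b = 0 := by simp [Fin.ext_iff, h5]
    exact h2 t
  · obtain ⟨rfl, rfl⟩ : a = (Fin.last _).castSucc ∧ b = Fin.last _ := by simp [Fin.ext_iff, h5]
    exact h3 t
  · obtain ⟨rfl, rfl⟩ : a = Fin.last _ ∧ b = (Fin.last _).castSucc := by simp [Fin.ext_iff, h5]
    exact h4 t

theorem exists_cg [Finite K] (m : ℕ) : ∃ cs : List SL(m + 4, K), cs.length = (if m = 0 then 3 else 2) ∧ CG cs := by
  obtain ⟨a, c, hac⟩ := sl_two_gen' (K := K) 1
  obtain ⟨e, -, e1, e2⟩ := exists_e2 (K := K) (show (0 : Fin (m + 4)) ≠ 1 by simp)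
  obtain ⟨f, -, f1, f2⟩ := exists_e2 (K := K) (Fin.castSucc_lt_last (Fin.last (m + 2))).ne
  have he := mem_G0 _ (by simp) e1 e2
  have hf := mem_G0 _ (by simp; omega) f1 f2
  have c1 : ∀ (a b : Fin (m + 4)) (h : a ≠ b) t, (a : ℕ) < m + 2 → (b : ℕ) < m + 2 → ∀ z,
      Commute (f z) (transvection h t) := fun a b h t h1 h2 => sl2_commute (fun s => by
    rw [f1]; apply tv_comm <;> simp [Fin.ext_iff] <;> omega) fun s => by
    rw [f2]; apply tv_comm <;> simp [Fin.ext_iff] <;> omega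
  have gen : ∀ {φ : SL(2, K) →* SL(m + 4, K)} {D : Subgroup SL(m + 4, K)}, φ a ∈ D → φ c ∈ D → ∀ z, φ z ∈ D :=
    fun {φ D} h1 h2 z => (closure_le (D.comap φ)).2 (by rintro _ (rfl | rfl); exacts [h1, h2]) (hac ▸ mem_top z)
  by_cases hm : m = 0
  · have c2 : ∀ z z', Commute (e z) (f z') := fun z z' => sl2_commute
      (fun t => e1 t ▸ (c1 _ _ _ _ (by simp) (by simp) z').symm) (fun t => e2 t ▸ (c1 _ _ _ _ (by simp) (by simp) z').symm) z
    let g := (e.noncommCoprod f c2).comp ((MonoidHom.id _).prod (MonoidHom.id _))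
    refine ⟨[g a, g c, f (x 1)], by simp [hm], by
      simpa using ⟨mul_mem (he _) (hf _), mul_mem (he _) (hf _), hf _⟩, fun D _ h => ?_⟩
    simp only [List.forall_mem_cons] at h
    have k := gen h.1 h.2.1
    haveI : (D.comap f).Normal := ⟨fun n hn z => by
      have := mul_mem (mul_mem (k z) hn) (inv_mem (k z))
      change e z * f z * f n * (e z * f z)⁻¹ ∈ D at this
      rwa [mul_assoc (e z), ← map_mul, (c2 z z).eq, _root_.mul_inv_rev, ← mul_assoc, (c2 _ _).eq, mul_inv_cancel_right,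
        ← map_inv, ← map_mul] at this⟩
    have k1 : ∀ z, f z ∈ D := ncl_x (N := D.comap f) h.2.2.1
    have k2 : ∀ z, e z ∈ D := fun z => (mul_mem_cancel_right (k1 z)).1 (k z)
    exact G0_sub (fun t => e1 t ▸ k2 _) (fun t => e2 t ▸ k2 _) (fun t => f1 t ▸ k1 _) fun t => f2 t ▸ k1 _
  refine ⟨[f a * e (x 1), f c * e (y 1)], by simp [hm], by
    simpa using ⟨mul_mem (hf _) (he _), mul_mem (hf _) (he _)⟩, fun D h0 h => ?_⟩
  simp only [List.forall_mem_cons, e1, e2] at h
  let o : Fin (m + 4) := ⟨2, by omega⟩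
  have n1 : (1 : Fin (m + 4)) ≠ o := by simp [o, Fin.ext_iff]
  have n0 : (0 : Fin (m + 4)) ≠ o := by simp [o, Fin.ext_iff]
  have b1 := fun t => h0 _ _ n1 t (by simp) (by simp) (by simp [o]) (by simp [o]; omega)
  have b2 := fun t => h0 _ _ n1.symm t (by simp [o]) (by simp [o]; omega) (by simp) (by simp)
  have cm : ∀ {u v : SL(m + 4, K)}, u ∈ D → v ∈ D → ⁅u, v⁆ ∈ D := fun hu hv =>
    mul_mem (mul_mem (mul_mem hu hv) (inv_mem hu)) (inv_mem hv)
  have cl : ∀ {g u v : SL(m + 4, K)}, Commute g u → Commute g v → ⁅g * u, v⁆ = ⁅u, v⁆ := fun {g u v} h1 h2 => by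
    have := ((h1.mul_right h2).mul_right h1.inv_right).eq
    simp only [commutatorElement_def, _root_.mul_inv_rev, ← mul_assoc] at this ⊢
    rw [this, mul_inv_cancel_right]
  have k1 : ∀ t, transvection (i := 0) (j := 1) (by simp) t ∈ D := fun t => by
    have := cm (cm h.1 (b1 t)) (b2 1)
    rwa [cl (c1 _ _ _ _ (by simp) (by simp) _) (c1 _ _ _ _ (by simp) (by simp [o]; omega) _),
      commutator_transvection n0, commutator_transvection, one_mul, mul_one] at this
  have k2 : ∀ t, transvection (i := 1) (j := 0) (by simp) t ∈ D := fun t => by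
    have := cm (b1 1) (inv_mem (cm h.2.1 (b2 t)))
    rwa [cl (c1 _ _ _ _ (by simp) (by simp) _) (c1 _ _ _ _ (by simp [o]; omega) (by simp) _), commutatorElement_inv,
      commutator_transvection n0.symm, commutator_transvection, one_mul, mul_one] at this
  have k3 := gen ((mul_mem_cancel_right (k1 1)).1 h.1) ((mul_mem_cancel_right (k2 1)).1 h.2.1)
  exact G0_sub k1 k2 (fun t => f1 t ▸ k3 _) fun t => f2 t ▸ k3 _

theorem orthD {n : ℕ} (hn : 2 ≤ n) {r s : (wbD n hn).wd.Rt} (h : r.1 ⬝ᵥ s.1 = 0) :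
    s ≠ (wbD n hn).R.neg r ∧ ¬ (wbD n hn).R.IsSum r s := by
  have h1 : 1 * (r.1 ⬝ᵥ r.1) / 2 = 1 := hdD hn r
  have h2 : 1 * (s.1 ⬝ᵥ s.1) / 2 = 1 := hdD hn s
  refine ⟨fun e => ?_, fun e => ?_⟩
  · rw [e, Wd.neg_val, dotProduct_neg] at h; omega
  · have : _ ≤ (2 : ℤ) := (Wb.isSum_iff.1 e).2.2
    rw [add_dotProduct, dotProduct_add, dotProduct_add, dotProduct_comm s.1 r.1] at this
    omega

theorem spE_tvD {n : ℕ} (hn : 2 ≤ n) {a b : Fin n} (h : a ≠ b)
    (h' : IsRt (wbD n hn).μ (wbD n hn).N (μ2 (.inl a) - μ2 (.inl b))) (t : K) :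
    spToGL (spE (transvection h t)) = ((wbD n hn).nat.st K).x ((wbD n hn).rt h') t := by
  apply Units.ext
  refine Matrix.ext_of_mulVec_single fun c => ?_
  refine Eq.trans ?_ ((wbD n hn).X_mulVec (a := .inl a) (b := .inl b) h' (μ2_ne _) t _).symm
  change fromBlocks (transvection h t).1 0 0 ((transvection h t)⁻¹).1ᵀ *ᵥ _ = _
  rw [transvection_inv]
  ext (i | i) <;> rcases c with c | c <;>
    simp [transvection_coe, wbD, barD, sD, μ2_ne, Pi.single_apply, Matrix.one_apply, Matrix.single_apply] <;>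
    split_ifs <;> simp_all

open Cfsg in
theorem om_glue [Finite K] {bs : List SL(2, K)} {cs : List SL(m + 4, K)} (hb : BG SL(m + 4, K) bs) (hc : CG cs)
    {k b : ℕ} (h : HasPr SL(m + 4, K) k b) :
    HasPr (Omega K (quadFormPlus (m + 4) K)) (k + 1) (b + (bs.length * cs.length + 4)) := by
  have hn : 2 ≤ m + 4 := by omega
  have hU := range_omD (m + 4) K hn (.inr (by simp; omega))
  have hI := stPull_isHom _ (omToGL_injective K _) hU
  set S := stPull _ (omToGL_injective K _) hU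
  have rt : ∀ {a b : Fin (m + 4)}, a ≠ b → ∀ s : Fin (m + 4) → Fin (m + 4) ⊕ Fin (m + 4), s = .inl ∨ s = .inr →
      IsRt (wbD _ hn).μ (wbD _ hn).N (μ2 (.inl a) - μ2 (s b)) := fun h s hs =>
    (barD _).rt_two (μ2_ne _) (μ2_ne _) (by rcases hs with rfl | rfl <;> simp [h.symm])
      (by rcases hs with rfl | rfl <;> simp [barD, h.symm])
  have hr : ∀ g, (spToGL.comp spE) g ∈ (omToGL K (quadFormPlus (m + 4) K)).range := fun g =>
    (sl_subgroup_eq_top ((omToGL K (quadFormPlus (m + 4) K)).range.comap (spToGL.comp spE)) fun a b h t =>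
      ⟨_, (hI _ t).trans (spE_tvD hn h (rt h _ (.inl rfl)) t).symm⟩).ge (mem_top g)
  let f := (MonoidHom.ofInjective (omToGL_injective K _)).symm.toMonoidHom.comp ((spToGL.comp spE).codRestrict _ hr)
  have hf : ∀ g, omToGL K _ (f g) = spToGL (spE g) := fun g =>
    MonoidHom.apply_ofInjective_symm (omToGL_injective K _) _
  have ft : ∀ {a b} (h : a ≠ b) t, f (transvection h t) = S.x ((wbD _ hn).rt (rt h _ (.inl rfl))) t := fun h t =>
    omToGL_injective K _ (by rw [hf, hI, spE_tvD])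
  have e : ∀ i : Fin (m + 3), (wbD _ hn).q i.castSucc = .inl i.succ := fun i => dif_pos (by simpa using i.2)
  have e' : (wbD _ hn).q (Fin.last _) = .inr ⟨m + 2, by omega⟩ := dif_neg (by simp)
  let ρ := (wbD _ hn).rt (rt (Fin.last_pos.ne) _ (.inr rfl))
  let r := (wbD _ hn).rt (rt ne_p0 _ (.inl rfl))
  have hρ : ∀ s, (wbD _ hn).R.pair ρ s = s.1 0 + s.1 (Fin.last _) := fun s => by
    rw [Wd.pair_two (norm_μ2 (by simp [Fin.ext_iff])), dotProduct_comm]; simp [ρ, dot_μ2]
  have p1 : (wbD _ hn).R.pair ρ r = -1 := by rw [hρ]; simp [r, μ2_apply]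
  have p2 : (wbD _ hn).R.refl ρ r = (wbD _ hn).R.simple (Fin.last _) := Subtype.ext (by
    rw [Wd.refl_val, p1, Wd.simple_val]
    change _ = μ2 (.inl _) - μ2 ((wbD _ hn).q _)
    rw [e']
    simp only [r, ρ, Wb.rt_val, show ∀ i, μ2 (n := m + 4) (.inr i) = _ from fun i => μ2_swap (.inl i)]
    abel)
  have h0 := St.eta_ne (wbD _ hn).C K ρ r
  refine fork_glue (S := S) (wbD _ hn).mb.cok (connD (by omega)) (stPull_sep _ _ _ ((wbD _ _).nat_sep K)) (stPull_top _ _ _)
    (fun c hc => ?_) (fun i hi => ?_) f (fun a b h => spE_inj (spToGL_injective (by rw [← hf, h, hf])))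
    (fun i t => ?_) (fun i t => ?_) (S.n ρ ((wbD _ hn).C.eta ρ r)) (fun a b h t => ?_) (fun t => ?_) (fun t => ?_) hb hc h
  · have h1 : ∀ i, chi c ((wbD _ hn).wd.φ (Pi.single i 1)) = 0 := fun i => chi_wt_of_tor _ _ hI hc (.inl i)
    have h2 := map_eq_zero_of_single (f := (chi c).comp (wbD _ hn).wd.φ) h1
    have h3 := h2 1
    rw [AddMonoidHom.comp_apply, φD_one, map_zsmul, chi_single] at h3
    have h4 : c (lst (by omega)) * c (lst (by omega)) = 1 := (zpow_two _).symm.trans (congrArg Additive.toMul h3)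
    rcases mul_self_eq_one_iff.1 (congrArg Units.val h4) with h5 | h5
    · exact .inl (eq_one_D hn h1 (Units.ext h5))
    have h6 : c (lst (by omega)) = -1 := Units.ext h5
    refine .inr (funext fun j => ?_)
    obtain h7 | rfl | rfl := fin_casesD hn j
    · rw [Pi.mul_apply, Pi.mulSingle_eq_of_ne (by simp [Fin.ext_iff]; omega),
        Pi.mulSingle_eq_of_ne (by simp [Fin.ext_iff]; omega)]
      simpa [φD_om hn h7, chi_single] using h2 (om j)
    · have := h1 (lst (by omega))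
      rw [φD_lst, map_sub, chi_single, chi_single, sub_eq_zero, h6] at this
      rw [Pi.mul_apply, Pi.mulSingle_eq_of_ne (i' := lst2 hn) (i := Fin.last _) (by simp [Fin.ext_iff, lst2]), mul_one]
      exact (Additive.ofMul.injective this).symm.trans (Pi.mulSingle_eq_same (M := fun _ => Kˣ) _ _).symm
    · rw [Pi.mul_apply, Pi.mulSingle_eq_of_ne (by simp [Fin.ext_iff, lst]), one_mul, h6]
      exact (Pi.mulSingle_eq_same (M := fun _ => Kˣ) _ _).symm
  · have := i.2
    change (wbD _ hn).wd.φ (μ2 (.inl _) - μ2 ((wbD _ hn).q _)) _ = 0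
    rw [e', φD, dif_pos (by simp)]
    simp only [Pi.sub_apply, μ2_apply, ix_inl, ix_inr, Fin.val_castSucc, Fin.val_last, sg_inl, sg_inr]
    split_ifs <;> omega
  · rw [ft]
    exact congrArg (S.x · t) (Subtype.ext (congrArg (fun a => μ2 (.inl i.castSucc) - μ2 a) (e i)).symm)
  · rw [ft]
    refine congrArg (S.x · t) (Subtype.ext ?_)
    rw [Wd.neg_val, Wb.rt_val, ← neg_sub]
    exact congrArg (fun a => -(μ2 (.inl i.castSucc) - μ2 a)) (e i).symm
  · rw [ft]
    have : (μ2 (.inl 0) - μ2 (.inr (Fin.last _))) ⬝ᵥ (μ2 (.inl a.succ.castSucc) - μ2 (.inl b.succ.castSucc)) = 0 := by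
      have := a.2; have := b.2
      simp only [dotProduct_sub, dot_μ2, Pi.sub_apply, μ2_apply, ix_inl, ix_inr, Fin.val_castSucc, Fin.val_succ,
        Fin.val_last, Fin.val_zero, sg_inl, sg_inr]
      split_ifs <;> omega
    exact commute_n_x _ (orthD hn this) (orthD hn (by rw [Wd.neg_val, neg_dotProduct, neg_eq_zero]; exact this)) _ _
  · rw [ft, mul_inv_eq_iff_eq_mul, S.nconj ρ r _ h0, p1, p2]
    simp [St.eta_sq]
  · rw [ft, mul_inv_eq_iff_eq_mul, show (wbD _ hn).rt _ = (wbD _ hn).R.neg r from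
      Subtype.ext (by rw [Wd.neg_val]; exact (neg_sub _ _).symm), S.nconj ρ _ _ h0, refl_neg, p2, pair_neg_right, p1,
      Chev.eta_neg_right]
    simp [h0]

theorem om_all [Finite K] (m : ℕ) : HasPr (Cfsg.Omega K (Cfsg.quadFormPlus (m + 4) K)) 8 (if m ≤ 1 then 29 else 31) := by
  obtain ⟨cs, h1, h2⟩ := exists_cg (K := K) m
  by_cases h : ∀ s : K, s ≠ 0 → s = 1
  · by_cases hm : m ≤ 1
    · refine (om_glue bg_two h2 (sl_hasPr2 h (by omega) (Alt.alt_small _ (by omega) (by omega)))).pad' (by omega) ?_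
      simp only [h1, List.length_cons, List.length_nil]; split_ifs <;> omega
    · refine (om_glue bg_two h2 (sl_hasPr2 h (by omega) (Alt.alt_three _ (by omega)))).pad' (by omega) ?_
      simp only [h1, List.length_cons, List.length_nil]; split_ifs <;> omega
  push Not at h
  obtain ⟨s, h0, h3⟩ := h
  rcases m with _ | _ | m
  · exact (om_glue (bg_one h0 h3) h2 sl_four).pad' (by omega) (by simp [h1])
  · exact (om_glue (bg_one h0 h3) h2 sl_five).pad' (by omega) (by simp [h1])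
  · exact (om_glue (bg_one h0 h3) h2 (sl_ge_four _ (by omega))).pad' (by omega) (by simp [h1])

theorem pom_all [Fintype K] (m : ℕ) :
    HasPr (Cfsg.POmega K (Cfsg.quadFormPlus (m + 4) K)) 8 ((if m ≤ 1 then 29 else 31) + 1) := by
  haveI : IsCyclic (center (Cfsg.Omega K (Cfsg.quadFormPlus (m + 4) K))) := Alt.cyclic_of_le_two (by
    rw [card_center_omegaPlus (by omega) (.inr (by omega))]; split_ifs <;> omega)
  exact (om_all m).quot_cyclic _

end H11.C2
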