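import Cfsg.Agent.H11.PrSp

/-! # Short presentations of `SL_n(2)`; generation lemmas -/

set_option autoImplicit false
set_option linter.unusedSectionVars false
set_option maxHeartbeats 800000

namespace H11.PSL

open Subgroup Equiv Equiv.Perm H11.Alt H11.Md Polynomial
open scoped commutatorElement

variable {γ : Type*} [DecidableEq γ] [Fintype γ] {J J' : Type*} [Group J] [Group J']

local notation "AA" => alternatingGroup (γ ⊕ Bool)

/-- the relators over the field with two elements. -/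
noncomputable def rels2 (S2 : List (Perm γ)) (G1 : List γ) (a0 b0 : γ) (W : FreeGroup (GI γ)) (ν : AA → J) (u : J) :
    List J :=
  S2.map (fun π => ⁅ν (tw π), u⁆) ++
  G1.map (fun c => ⁅cv ν u pu pv, cv ν u pv (.inl c)⁆ * (cv ν u pu (.inl c))⁻¹) ++
  [⁅cv ν u pu pv, cv ν u (.inl a0) pv⁆, ⁅cv ν u pu pv, cv ν u (.inl b0) (.inl a0)⁆,
   ⁅cv ν u pu pv, cv ν u pu (.inl a0)⁆, ⁅cv ν u pu pv, cv ν u (.inl a0) (.inl b0)⁆,
   u ^ 2, FreeGroup.lift (gf ν 1 u a0) W * (ν (cc a0))⁻¹]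

theorem map_rels2 (φ : J →* J') (S2 : List (Perm γ)) (G1 : List γ) (a0 b0 : γ) (W : FreeGroup (GI γ)) (ν : AA → J)
    (u : J) : (rels2 S2 G1 a0 b0 W ν u).map φ = rels2 S2 G1 a0 b0 W (fun g => φ (ν g)) (φ u) := by
  simp [rels2, map_cv, map_commutatorElement, Function.comp_def, map_lift, map_gf]

open Matrix Matrix.SpecialLinearGroup

variable {K : Type*} [Field K] [Nontrivial γ]

theorem sl_pr2 [Finite K] (h2 : ∀ s : K, s ≠ 0 → s = 1) {ι : Type} {x : ι → AA} {b : ℕ} (hx : Pr x b)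
    (S2 : List (Perm γ)) (G1 : List γ) (hS2 : alternatingGroup γ = closure {π | π ∈ S2})
    (hG : ∀ c, ∃ π : Perm γ, Perm.sign π = 1 ∧ ∃ c0 ∈ G1, π c0 = c) :
    ∃ y : ι ⊕ Fin 1 → SpecialLinearGroup (γ ⊕ Bool) K, Pr y (b + (S2.length + G1.length + 6)) := by
  obtain ⟨ζ, h0, h1, h3⟩ := exists_gen K
  obtain rfl := h2 ζ h0
  have c2 : (1 : K) + 1 = 0 := by_contra fun e => by simpa using h2 _ e
  obtain ⟨p, hp⟩ := CharP.exists K
  haveI := Fact.mk (CharP.char_is_prime K p)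
  obtain rfl : p = 2 := (Nat.prime_dvd_prime_iff_eq Fact.out Nat.prime_two).1
    ((CharP.cast_eq_zero_iff K p 2).1 (by rw [← c2]; norm_num))
  obtain ⟨M, hM⟩ := exists_minP 2 (surj_of_gen h1)
  obtain ⟨a0, b0, hab⟩ := exists_pair_ne γ
  obtain ⟨W, hW⟩ := lift_surj (gf_top h0 h1 a0) (pm K (cc a0))
  have d1 : diag2n (uv (γ := γ)) (1 : K) h0 = 1 := by
    apply sl_ext_smul; intro v; ext i; simp [diag_smul]
  let L : List (FreeGroup (AA ⊕ Fin 1)) := rels2 S2 G1 a0 b0 W (fun g => .of (.inl g)) (.of (.inr 0))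
  have key : ∀ {J : Type _} [Group J] (ν : AA → J) (y : Fin 1 → J),
      L.map (FreeGroup.lift (Sum.elim ν y)) = rels2 S2 G1 a0 b0 W ν (y 0) :=
    fun ν y => by simp [L, map_rels2]
  have key' : ∀ {J : Type} [Group J] (ν : AA → J) (y : Fin 1 → J),
      L.map (FreeGroup.lift (Sum.elim ν y)) = rels2 S2 G1 a0 b0 W ν (y 0) :=
    fun ν y => by simp [L, map_rels2]
  have R := rt_sl h0 a0
  refine ⟨_, (hx.ext (pm K) ![transvection uv 1] ?_ L ?_ ?_).mono ?_⟩
  · exact gen_sl h0 h1 a0 (fun g => subset_closure (Or.inl ⟨g, rfl⟩)) (d1 ▸ one_mem _)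
      (subset_closure (Or.inr ⟨0, rfl⟩))
  · rw [← List.forall_mem_map (P := fun r => r = 1), key]
    simp only [rels2, List.forall_mem_append, List.forall_mem_map, List.forall_mem_cons,
      mul_inv_eq_one, commutatorElement_eq_one_iff_commute, cons_val_zero,
      List.not_mem_nil, IsEmpty.forall_iff, implies_true, and_true]
    refine ⟨⟨fun π hπ => ?_, fun c _ => R.chain c⟩, R.col, R.orth _ _ hab.symm, R.row, R.orth _ _ hab, ?_, d1 ▸ hW⟩
    · rw [commute_iff_eq, ← mul_inv_eq_iff_eq_mul]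
      exact R.hpt π (mem_alternatingGroup.1 (hS2 ▸ subset_closure hπ))
    · rw [sq, ← transvection_add, c2, transvection_coeff_zero]
  · intro J _ ν y hy
    classical
    rw [← List.forall_mem_map (P := fun r => r = 1), key'] at hy
    simp only [rels2, List.forall_mem_append, List.forall_mem_map, List.forall_mem_cons,
      mul_inv_eq_one, commutatorElement_eq_one_iff_commute,
      List.not_mem_nil, IsEmpty.forall_iff, implies_true, and_true] at hy
    obtain ⟨⟨r2, r3⟩, r4, r5, r10, r11, r12, r14⟩ := hy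
    have T' : Tor ν 1 a0 := ⟨by simp, by simp [cv_one], by simp [cv_one]⟩
    have hu : Fix ν (y 0) := fix_of hS2.le r2
    have R' : Rt ν 1 (y 0) a0 := ⟨hu, by simp [cv_one], by simp [cv_one], r10, r4,
      chain_of hu hG r3, fun c d h => by
        rw [hu.base] at r11 r5 ⊢; exact pair_of hu hu hab r11 r5 c d h⟩
    have hX : Add' fun s : K => if s = 0 then 1 else y 0 := fun s t => by
      by_cases e : s = 0
      · simp [e]
      by_cases e' : t = 0
      · simp [e']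
      rw [h2 s e, h2 t e', c2]; simpa [sq] using r12.symm
    obtain ⟨V, S⟩ := R'.exists_V T' h0 h1 h3 hM r12 (by
      simpa [cv_one, hM.root] using hX.thw (g := 1) (η := 1) (by simp) 1 M)
    obtain ⟨φ, -, e1, -, e3⟩ := S.exists_hom h0 T' hu hW r14
    exact ⟨φ, e1, fun k => by fin_cases k; exact e3⟩
  · simp [L, rels2]; omega

theorem sl_hasPr2 [Finite K] (h0 : ∀ s : K, s ≠ 0 → s = 1) {m k b : ℕ} (hm : 2 ≤ m)
    (hx : HasPr (alternatingGroup (Fin (m + 2))) k b) :
    HasPr (SpecialLinearGroup (Fin (m + 2)) K) (k + 1) (b + 10) := by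
  haveI : Nontrivial (Fin m) := Fin.nontrivial_iff_two_le.2 hm
  let e : Fin m ⊕ Bool ≃ Fin (m + 2) := Fintype.equivFinOfCardEq (by simp)
  obtain ⟨x, hx⟩ := hx.congr e.altCongrHom.symm
  obtain ⟨S2, l2, g2⟩ := (alt_two m).gens'
  obtain ⟨y, hy⟩ := sl_pr2 h0 hx S2 [⟨0, by omega⟩, ⟨1, by omega⟩] g2 (fun c => by
      by_cases h : m = 2
      · subst h; exact ⟨1, by simp, c, by fin_cases c <;> simp, rfl⟩
      · obtain ⟨π, a, b⟩ := even_trans (γ := Fin m) (by simp; omega) ⟨0, by omega⟩ c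
        exact ⟨π, a, _, by simp, b⟩)
  exact ((hy.hasPr (by simp)).congr (slCongr e (RingEquiv.refl K))).mono (by simp [l2])

end H11.PSL

namespace H11.C2

open Subgroup H13.SL2 H11.Md H11.PSL
open Matrix hiding transvection
open Matrix.SpecialLinearGroup
open scoped MatrixGroups commutatorElement Monoid.Coprod

variable {K Γ : Type*} [Field K] [Group Γ]

section emb
variable {ι κ : Type*} [Fintype ι] [DecidableEq ι] [Fintype κ] [DecidableEq κ]

theorem exists_emb (φ : ι ↪ κ) : ∃ j : SpecialLinearGroup ι K →* SpecialLinearGroup κ K, Function.Injective j ∧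
    ∀ a b (h : a ≠ b) t, j (transvection h t) = transvection (φ.injective.ne h) t := by
  classical
  let E : ι ⊕ {x // x ∉ Set.range φ} ≃ κ :=
    (Equiv.sumCongr φ.toEquivRange (Equiv.refl _)).trans (Equiv.sumCompl (· ∈ Set.range φ))
  refine ⟨(slCongr E (RingEquiv.refl K)).toMonoidHom.comp (blk _), (slCongr E _).injective.comp fun a b h =>
    Subtype.ext (fromBlocks_inj.1 (congrArg Subtype.val h)).1, fun a b h t => ?_⟩
  change slCongr _ _ (blk _ _) = _
  rw [blk_tv, slCongr_tv]; rfl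

theorem exists_e2 {a b : κ} (h : a ≠ b) : ∃ e : SL(2, K) →* SpecialLinearGroup κ K, Function.Injective e ∧
    (∀ t, e (x t) = transvection h t) ∧ ∀ t, e (y t) = transvection h.symm t := by
  obtain ⟨j, h1, h2⟩ := exists_emb (K := K) (ι := Fin 2) ⟨![a, b], fun i j e => by
    fin_cases i <;> fin_cases j <;> simp_all⟩
  refine ⟨j, h1, fun t => Eq.trans (congrArg j ?_) (h2 0 1 zero_ne_one t),
    fun t => Eq.trans (congrArg j ?_) (h2 1 0 one_ne_zero t)⟩ <;> apply ext' <;> simp [transvection_coe]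

theorem diag_tv' {a b c d : κ} (h : a ≠ b) (h' : c ≠ d) {ζ : K} (h0 : ζ ≠ 0) (s : K) :
    diag2n h' ζ h0 * transvection h s * (diag2n h' ζ h0)⁻¹ = transvection h
      ((if a = c then ζ else if a = d then ζ⁻¹ else 1) * (if b = c then ζ else if b = d then ζ⁻¹ else 1)⁻¹ * s) := by
  rw [mul_inv_eq_iff_eq_mul]
  apply sl_ext_smul
  intro v
  ext i
  simp only [mul_smul, transvection_smul, PSL.diag_smul, Pi.add_apply, Pi.single_apply]
  by_cases e : i = a
  · subst e
    rw [if_pos rfl, if_pos rfl]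
    split_ifs <;> field_simp
  · simp [e]

end emb

/-- `bs` generates `SL₂` together with the diagonal automorphisms. -/
def BG (Γ : Type*) [Group Γ] (bs : List SL(2, K)) : Prop := ∀ (e : SL(2, K) →* Γ) (N : Subgroup Γ),
  (∀ s : K, s ≠ 0 → ∃ g, (∀ t, g * e (x t) * g⁻¹ = e (x (s * t))) ∧ (∀ t, g * e (y t) * g⁻¹ = e (y (s⁻¹ * t))) ∧
    ∀ z ∈ N, g * z * g⁻¹ ∈ N) → (∀ b ∈ bs, e b ∈ N) → ∀ z, e z ∈ N

theorem bg_two : BG Γ [x (1 : K), y 1] := fun e N h hb => by
  simp only [List.forall_mem_cons] at hb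
  refine sl2_mem (fun t => ?_) fun t => ?_ <;> by_cases h0 : t = 0 <;> try simp [h0]
  · obtain ⟨g, h1, -, h3⟩ := h t h0
    simpa [h1] using h3 _ hb.1
  · obtain ⟨g, -, h2, h3⟩ := h t⁻¹ (inv_ne_zero h0)
    simpa [h2] using h3 _ hb.2.1

theorem bg_one {s : K} (h0 : s ≠ 0) (h1 : s ≠ 1) : BG Γ [x (1 : K) * w 1] := fun e N h hb => by
  simp only [List.forall_mem_cons] at hb
  have k : ∀ r, r ≠ 0 → e (x r * w r) ∈ N := fun r hr => by
    obtain ⟨g, a1, a2, a3⟩ := h r hr
    have := a3 _ hb.1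
    simp only [w, map_mul, ← conj_mul, a1, a2] at this
    simpa [w] using this
  have k1 : e (x ((s - 1) * (s - s ^ 2))) ∈ N := by
    have : x ((s - 1) * (s - s ^ 2)) * (x s * w s * (x 1 * w 1) * (x 1 * w 1) * (x s * w s)) =
        x (s * s) * w (s * s) := by
      apply ext' <;> simp [H13.SL2.mul_apply', coe_w, h0] <;> field_simp <;> ring
    rw [eq_mul_inv_of_mul_eq this, map_mul, map_inv, map_mul e _ (x s * w s), map_mul e _ (x 1 * w 1),
      map_mul e _ (x 1 * w 1)]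
    exact mul_mem (k _ (mul_ne_zero h0 h0)) (inv_mem (mul_mem (mul_mem (mul_mem (k s h0) hb.1) hb.1) (k s h0)))
  have k2 : ∀ t, e (x t) ∈ N := fun t => by
    by_cases ht : t = 0
    · simp [ht]
    have h2 : (s - 1) * (s - s ^ 2) ≠ 0 := mul_ne_zero (sub_ne_zero.2 h1) fun e => h1 (by
      apply mul_left_cancel₀ h0; linear_combination -e)
    obtain ⟨g, a1, -, a3⟩ := h _ (div_ne_zero ht h2)
    simpa [a1, h2] using a3 _ k1
  exact H13.SL2.induction (p := fun z => e z ∈ N) k2 (by simpa [x_neg] using mul_mem (k2 (-1)) hb.1)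
    fun a b ha hb => by rw [map_mul]; exact mul_mem ha hb

theorem ncl_x [Finite K] {N : Subgroup SL(2, K)} [hN : N.Normal] (h : x 1 ∈ N) (z : SL(2, K)) : z ∈ N := by
  obtain ⟨ζ, h0, h1, h2⟩ := exists_gen K
  have k : ∀ s, x s ∈ N → y (-s) ∈ N := fun s hs => by
    simpa [w_x one_ne_zero] using hN.conj_mem _ hs (w 1)
  have k1 : ∀ s, x s ∈ N := span_of_surj (surj_sq h0 h2) (by simp) (fun s hs => x_neg s ▸ inv_mem hs)
    (fun s t hs ht => x_add s t ▸ mul_mem hs ht) fun n => by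
      simpa [w_y (pow_ne_zero n h0), ← pow_mul, mul_comm] using hN.conj_mem _ (k _ h) (w (ζ ^ n))
  exact sl2_mem (φ := MonoidHom.id _) k1 (fun t => by simpa using k _ (k1 (-t))) z

end H11.C2
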