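import Cfsg.Agent.H22.Cyc1
import Cfsg.Agent.H11.SL

/-! # Cyclic endomorphisms with split characteristic polynomial -/

set_option autoImplicit false
set_option linter.unusedSectionVars false

namespace H11.Th

open Module Submodule LinearMap Polynomial H22.CY

universe u

variable {K : Type u} [Field K] {V V' W : Type u} [AddCommGroup V] [Module K V] [AddCommGroup V'] [Module K V']
  [AddCommGroup W] [Module K W]

/-- the split polynomial with given roots -/
noncomputable def pol (s : Multiset K) : K[X] := (s.map fun a => X - C a).prod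

theorem pol_cons (a : K) (s : Multiset K) : pol (a ::ₘ s) = (X - C a) * pol s := by simp [pol]

theorem pol_monic (s : Multiset K) : (pol s).Monic := monic_multiset_prod_of_monic _ _ fun a _ => monic_X_sub_C a

theorem pol_natDegree (s : Multiset K) : (pol s).natDegree = s.card := natDegree_multiset_prod_X_sub_C_eq_card s

theorem pol_eval_ne {s : Multiset K} {μ : K} (h : μ ∉ s) : (pol s).eval μ ≠ 0 := by
  rw [pol, eval_multiset_prod]
  refine Multiset.prod_ne_zero fun e => ?_
  simp only [Multiset.map_map, Multiset.mem_map, Function.comp, eval_sub, eval_X, eval_C, sub_eq_zero] at e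
  obtain ⟨a, ha, rfl⟩ := e
  exact h ha

theorem semi {X' : End K V} {Y : End K V'} (f : V →ₗ[K] V') (h : ∀ u, f (X' u) = Y (f u)) (p : K[X]) (u : V) :
    f (aeval X' p u) = aeval Y p (f u) := by
  induction p using Polynomial.induction_on generalizing u with
  | C a => simp [Module.algebraMap_end_apply]
  | add p q hp hq => simp [hp, hq]
  | monomial n a ih =>
    rw [pow_succ, ← mul_assoc, map_mul _ _ X, map_mul _ _ X, aeval_X, aeval_X, End.mul_apply, End.mul_apply, ih, h]

/-- cyclic with characteristic roots `s` -/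
structure CP (A : End K V) (s : Multiset K) : Prop where
  rank : finrank K V = s.card
  kill : aeval A (pol s) = 0
  cyc : ∃ v, Cyc A v

/-- evaluation at a vector -/
noncomputable def evl (A : End K V) (v : V) : K[X] →ₗ[K] V := LinearMap.applyₗ v ∘ₗ (aeval A).toLinearMap

theorem evl_apply (A : End K V) (v : V) (p : K[X]) : evl A v p = aeval A p v := rfl

theorem evl_X_mul (A : End K V) (v : V) (p : K[X]) : evl A v (X * p) = A (evl A v p) := by simp [evl_apply]

theorem evl_surj {A : End K V} {v : V} (h : Cyc A v) : Function.Surjective (evl A v) :=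
  range_eq_top.1 (h _ ⟨1, by simp [evl_apply]⟩ (by rintro _ ⟨p, rfl⟩; exact ⟨_, evl_X_mul A v p⟩))

theorem evl_mod {A : End K V} {s : Multiset K} (h : aeval A (pol s) = 0) (v : V) (p : K[X]) :
    evl A v (p %ₘ pol s) = evl A v p := by rw [evl_apply, evl_apply, aeval_modByMonic_eq_self_of_root h]

theorem mod_mem (s : Multiset K) (p : K[X]) : p %ₘ pol s ∈ degreeLT K s.card := by
  rw [mem_degreeLT, ← pol_natDegree, ← degree_eq_natDegree (pol_monic s).ne_zero]
  exact degree_modByMonic_lt _ (pol_monic s)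

theorem CP.exists_equiv [FiniteDimensional K V] {A : End K V} {s : Multiset K} (h : CP A s) :
    ∃ v, ∃ e : degreeLT K s.card ≃ₗ[K] V, Function.Surjective (evl A v) ∧ ∀ p, e ⟨_, mod_mem s p⟩ = evl A v p := by
  obtain ⟨v, hv⟩ := h.cyc
  have h1 : Function.Surjective (evl A v ∘ₗ (degreeLT K s.card).subtype) := fun u => by
    obtain ⟨p, rfl⟩ := evl_surj hv u
    exact ⟨⟨_, mod_mem s p⟩, evl_mod h.kill v p⟩
  have : FiniteDimensional K (degreeLT K s.card) := (degreeLTEquiv K s.card).symm.finiteDimensional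
  have h2 : finrank K (degreeLT K s.card) = finrank K V := by
    rw [(degreeLTEquiv K s.card).finrank_eq, h.rank]; simp
  exact ⟨v, .ofBijective _ ⟨(injective_iff_surjective_of_finrank_eq_finrank h2).2 h1, h1⟩, evl_surj hv,
    fun p => evl_mod h.kill v p⟩

theorem CP.sim [FiniteDimensional K V] [FiniteDimensional K V'] {A : End K V} {B : End K V'} {s : Multiset K}
    (h : CP A s) (h' : CP B s) : ∃ e : V' ≃ₗ[K] V, ∀ u, A (e u) = e (B u) := by
  obtain ⟨v, e, -, h1⟩ := h.exists_equiv
  obtain ⟨v', e', h2, h3⟩ := h'.exists_equiv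
  have h4 : ∀ p, e (e'.symm (evl B v' p)) = evl A v p := fun p => by rw [← h3, e'.symm_apply_apply, h1]
  refine ⟨e'.symm.trans e, fun u => ?_⟩
  obtain ⟨p, rfl⟩ := h2 u
  simp only [LinearEquiv.trans_apply, ← evl_X_mul, h4]

theorem bij_of_kill [FiniteDimensional K V] {A : End K V} {s : Multiset K} (h : aeval A (pol s) = 0) {μ : K}
    (hμ : μ ∉ s) : Function.Bijective (A - μ • 1 : End K V) := by
  have : Function.Injective (A - μ • 1 : End K V) := (injective_iff_map_eq_zero _).2 fun u hu => by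
    have := End.aeval_apply_of_mem_apply_eq_smul (p := pol s) (f := A) (μ := μ) (x := u) (by simpa [sub_eq_zero] using hu)
    rw [h] at this
    exact (smul_eq_zero.1 this.symm).resolve_left (pol_eval_ne hμ)
  exact ⟨this, injective_iff_surjective.1 this⟩

theorem CP.blk [FiniteDimensional K W] {Y : End K W} {s : Multiset K} (h : CP Y s) {μ : K} (hμ : μ ∉ s) :
    CP (blk Y μ) (μ ::ₘ s) := by
  obtain ⟨y, hy⟩ := h.cyc
  refine ⟨by simp [h.rank], LinearMap.ext fun u => Prod.ext ?_ ?_, _, hy.blk (bij_of_kill h.kill hμ)⟩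
  · have := semi (X' := H22.CY.blk Y μ) (Y := Y) (fst K W K) (fun _ => rfl) (pol (μ ::ₘ s)) u
    rw [pol_cons] at this ⊢
    simpa [h.kill] using this
  · have := semi (X' := H22.CY.blk Y μ) (Y := μ • 1) (snd K W K) (fun _ => rfl) (pol (μ ::ₘ s)) u
    rw [End.aeval_apply_of_mem_apply_eq_smul (f := μ • 1) (μ := μ) (by simp), pol_cons] at this
    rw [pol_cons]
    simpa using this

theorem cp_model (s : Multiset K) : CP (Algebra.lmul K _ (AdjoinRoot.root (pol s))) s := by
  refine ⟨by rw [(AdjoinRoot.powerBasis (pol_monic s).ne_zero).finrank]; simp [pol_natDegree], ?_, 1,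
    fun p h1 h2 => eq_top_iff.2 fun u _ => ?_⟩
  · rw [aeval_algHom_apply]; simp
  · obtain ⟨g, rfl⟩ := AdjoinRoot.mk_surjective u
    induction g using Polynomial.induction_on with
    | C a => simpa [Algebra.smul_def] using p.smul_mem a h1
    | add _ _ a b => exact map_add (AdjoinRoot.mk (pol s)) _ _ ▸ p.add_mem (a trivial) (b trivial)
    | monomial k a ih =>
      rw [pow_succ, ← mul_assoc, mul_comm, map_mul, AdjoinRoot.mk_X]; exact h2 _ (ih trivial)

theorem adj [FiniteDimensional K W] {Y : End K W} {μ : K} {A : End K V} (e h : (W × K) ≃ₗ[K] V)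
    (he : ∀ u, A (e u) = e (blk Y μ u)) :
    ∃ T : V ≃ₗ[K] V, T.toLinearMap.det = 1 ∧ ∀ u, T (A (T.symm u)) = h (blk Y μ (h.symm u)) := by
  have : FiniteDimensional K V := e.finiteDimensional
  let d := LinearMap.det (h.toLinearMap ∘ₗ e.symm.toLinearMap)
  have hd : d ≠ 0 := (e.symm.trans h).isUnit_det'.ne_zero
  let D : (W × K) ≃ₗ[K] (W × K) := (LinearEquiv.refl K W).prodCongr (LinearEquiv.smulOfNeZero K K d⁻¹ (inv_ne_zero hd))
  refine ⟨e.symm.trans (D.trans h), ?_, fun u => ?_⟩
  · have : (e.symm.trans (D.trans h)).toLinearMap = h.toLinearMap ∘ₗ e.symm.toLinearMap * e.conj (blk 1 d⁻¹) :=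
      LinearMap.ext fun u => by simp [D, blk_apply]
    rw [this, map_mul, det_eq_of e (X := e.conj _) (Y := blk 1 d⁻¹) (by simp), det_blk, map_one, one_mul]
    exact mul_inv_cancel₀ hd
  · obtain ⟨x, rfl⟩ := (D.trans h).surjective u
    simp only [LinearEquiv.trans_apply, LinearEquiv.trans_symm, LinearEquiv.symm_symm, LinearEquiv.symm_apply_apply, he]
    congr 1
    ext <;> simp [D, blk_apply, mul_left_comm]

theorem CP.conj [FiniteDimensional K V] {A B : End K V} {s : Multiset K} {μ : K} (hμ : μ ∉ s) (h : CP A (μ ::ₘ s))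
    (h' : CP B (μ ::ₘ s)) : ∃ T : V ≃ₗ[K] V, T.toLinearMap.det = 1 ∧ ∀ u, T (A u) = B (T u) := by
  have := (AdjoinRoot.powerBasis (pol_monic s).ne_zero).finite
  obtain ⟨e, he⟩ := h.sim ((cp_model s).blk hμ)
  obtain ⟨e', he'⟩ := h'.sim ((cp_model s).blk hμ)
  obtain ⟨T, h1, h2⟩ := adj e e' he
  exact ⟨T, h1, fun u => by
    have := h2 (T u)
    rwa [← he', T.symm_apply_apply, e'.apply_symm_apply] at this⟩

theorem CP.fac [Finite K] [FiniteDimensional K V] {A P : End K V} {s : Multiset K} {μ : K} (hμ : μ ∉ s)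
    (h : CP A (μ ::ₘ s)) (h0 : A.det ≠ 0) (hP : ∀ c : K, P ≠ c • 1) (h1 : P.det = 1) :
    ∃ T T' : V ≃ₗ[K] V, T.toLinearMap.det = 1 ∧ T'.toLinearMap.det = 1 ∧
      ∀ u, P (T (A (T.symm u))) = T' (A (T'.symm u)) := by
  have := (AdjoinRoot.powerBasis (pol_monic s).ne_zero).finite
  obtain ⟨e, he⟩ := h.sim ((cp_model s).blk hμ)
  obtain ⟨y, hy⟩ := (cp_model s).cyc
  obtain ⟨z, hz⟩ := ((cp_model s).blk hμ).cyc
  obtain ⟨h₁, h₂, h2⟩ := H22.CY.fac (n := s.card) (by simpa using h.rank) (by simp [(cp_model s).rank])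
    (cp_model s).rank hP hy (bij_of_kill (cp_model s).kill hμ) hz (by rw [h1, one_mul, det_blk])
    (det_eq_of e he ▸ h0)
  obtain ⟨T, h3, h4⟩ := adj e h₁ he
  obtain ⟨T', h5, h6⟩ := adj e h₂ he
  exact ⟨T, T', h3, h5, fun u => by rw [h4, h6, ← h2, h₂.apply_symm_apply]⟩

theorem CP.inv [FiniteDimensional K V] {A B : End K V} {s : Multiset K} (h : CP A s) (h0 : 0 ∉ s) (e : A * B = 1) :
    CP B (s.map Inv.inv) := by
  have e' : B * A = 1 := mul_eq_one_comm.1 e
  refine ⟨by simp [h.rank], ?_, h.cyc.imp fun v hv p h1 h2 => hv p h1 fun u hu => ?_⟩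
  · have key : ∀ t : Multiset K, 0 ∉ t → ∃ c : K,
        aeval B (pol (t.map Inv.inv)) = c • (aeval A (pol t) * B ^ t.card) := by
      intro t ht
      induction t using Multiset.induction_on with
      | empty => exact ⟨1, by simp [pol]⟩
      | cons a t ih =>
        rw [Multiset.mem_cons, not_or] at ht
        obtain ⟨c, hc⟩ := ih ht.2
        refine ⟨-a⁻¹ * c, ?_⟩
        have h1 : B - algebraMap K _ a⁻¹ = (-a⁻¹) • ((A - algebraMap K _ a) * B) := by
          simp only [sub_mul, e, Algebra.algebraMap_eq_smul_one, smul_mul_assoc, one_mul, smul_sub, smul_smul]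
          rw [neg_mul, inv_mul_cancel₀ (Ne.symm ht.1)]; module
        have h2 : B * aeval A (pol t) = aeval A (pol t) * B :=
          LinearMap.ext fun u => semi B (fun u => by rw [← End.mul_apply, e', ← End.mul_apply, e]) _ u
        rw [Multiset.map_cons, pol_cons, pol_cons, map_mul, map_mul, hc, map_sub, map_sub, aeval_X, aeval_X, aeval_C,
          aeval_C, h1, Multiset.card_cons, smul_mul_smul_comm, mul_assoc, ← mul_assoc B, h2, pow_succ']
        simp only [mul_assoc]
    obtain ⟨c, hc⟩ := key s h0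
    rw [hc, h.kill, zero_mul, smul_zero]
  · have h3 : Function.Injective (B.restrict h2) := fun x y e1 => Subtype.ext (by
      simpa [← End.mul_apply, e] using congrArg (fun z : p => A z) e1)
    obtain ⟨w, hw⟩ := injective_iff_surjective.1 h3 ⟨u, hu⟩
    have : A u = w := by simpa [← End.mul_apply, e] using (congrArg (fun z : p => A z) hw).symm
    exact this ▸ w.2

theorem cyc_of_eig (s : Multiset K) : ∀ {V : Type u} [AddCommGroup V] [Module K V] [FiniteDimensional K V]
    {A : End K V}, aeval A (pol s) = 0 → (∀ a : K, finrank K (ker (A - a • 1)) ≤ 1) → ∃ v, Cyc A v := by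
  induction s using Multiset.induction_on with
  | empty =>
    intro V _ _ _ A h _
    exact ⟨0, fun p _ _ => eq_top_iff.2 fun u _ => by
      have : u = 0 := by simpa [pol] using congr($h u)
      simp [this]⟩
  | cons a s ih =>
    intro V _ _ _ A h h1
    let N : End K V := A - a • 1
    have hN : ∀ u, N (A u) = A (N u) := fun u => by simp [N]
    have h2 : ∀ u ∈ range N, A u ∈ range N := by rintro _ ⟨u, rfl⟩; exact ⟨_, hN u⟩
    obtain ⟨⟨_, v, rfl⟩, hw⟩ := ih (A := A.restrict h2) (LinearMap.ext fun ⟨_, u, rfl⟩ => Subtype.ext (by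
      have := semi (X' := A.restrict h2) (Y := A) (range N).subtype (fun _ => rfl) (pol s) ⟨_, u, rfl⟩
      refine this.trans ?_
      rw [pol_cons, mul_comm] at h
      simpa [N, Algebra.algebraMap_eq_smul_one] using congr($h u))) fun b => by
        refine le_trans ?_ (h1 b)
        refine finrank_le_finrank_of_injective (f := ((range N).subtype ∘ₗ (ker _).subtype).codRestrict _
          fun x => congrArg Subtype.val (show (A.restrict h2 - b • 1 : End K _) x.1 = 0 from x.2)) fun x y e => ?_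
        have := congrArg Subtype.val e
        exact Subtype.ext (Subtype.ext this)
    have h3 : ∀ p : Submodule K V, N v ∈ p → (∀ u ∈ p, A u ∈ p) → range N ≤ p := fun p h4 h5 u hu =>
      (hw (p.comap (range N).subtype) h4 fun u hu => h5 _ hu).ge (mem_top (x := ⟨u, hu⟩))
    by_cases h4 : ∃ v', N v' = N v ∧ v' ∉ range N
    · obtain ⟨v', h4, h5⟩ := h4
      refine ⟨v', fun p h6 h7 => eq_top_of_finrank_eq (le_antisymm (finrank_le _) ?_)⟩
      have h8 := finrank_lt_finrank_of_lt (lt_of_le_of_ne (h3 p (h4 ▸ p.sub_mem (h7 _ h6) (p.smul_mem a h6)) h7)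
        fun e => h5 (e ▸ h6))
      have := N.finrank_range_add_finrank_ker
      have : finrank K (ker N) ≤ 1 := h1 a
      omega
    · push Not at h4
      have h5 : range N ≤ (range N).map N := h3 _ ⟨v, h4 v rfl, rfl⟩ (by
        rintro _ ⟨u, hu, rfl⟩; exact ⟨_, h2 u hu, hN u⟩)
      have h6 : ∀ u ∈ range N, N u ∈ range N := fun u _ => ⟨u, rfl⟩
      have h7 : Function.Injective (N.restrict h6) := injective_iff_surjective.2 fun ⟨u, hu⟩ => by
        obtain ⟨w, hw, e⟩ := h5 hu
        exact ⟨⟨w, hw⟩, Subtype.ext e⟩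
      have h8 : Function.Injective N := (injective_iff_map_eq_zero _).2 fun k hk => by
        have : k ∈ range N := by simpa using sub_mem (h4 (v + k) (by simp [hk])) (h4 v rfl)
        exact congrArg Subtype.val ((injective_iff_map_eq_zero _).1 h7 ⟨k, this⟩ (Subtype.ext hk))
      exact ⟨N v, fun p h9 h10 => top_le_iff.1 ((range_eq_top.2 (injective_iff_surjective.1 h8)).ge.trans (h3 p h9 h10))⟩

section Mat

open Matrix

variable {ι : Type} [Fintype ι] [DecidableEq ι]

theorem cp_tri {A : Matrix ι ι K} (ρ : ι → ℤ) (hρ : Function.Injective ρ) (h1 : ∀ i j, A i j ≠ 0 → ρ i ≤ ρ j)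
    (h2 : ∀ i j, ρ i < ρ j → A i i = A j j → ∃ k, ρ k + 1 = ρ j ∧ A k k = A j j ∧ A k j ≠ 0) :
    CP (toLin' A) (Finset.univ.val.map fun i => A i i) := by
  classical
  have h3 : aeval (toLin' A) (pol (Finset.univ.val.map fun i => A i i)) = 0 := by
    letI := LinearOrder.lift' ρ hρ
    have := charpoly_of_isUpperTriangular A fun i j h => by_contra fun e => not_lt.2 (h1 i j e) h
    rw [pol, Multiset.map_map, ← LinearMap.aeval_self_charpoly (toLin' A), charpoly_toLin', this]
    rfl
  refine ⟨by simp, h3, cyc_of_eig _ h3 fun a => ?_⟩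
  have key : ∀ v : ι → K, A *ᵥ v = a • v → v ≠ 0 → ∃ j, v j ≠ 0 ∧ A j j = a ∧ ∀ i, ρ i < ρ j → A i i ≠ a := by
    intro v hv h0
    obtain ⟨j, hj, h4⟩ := (Finset.univ.filter fun i => v i ≠ 0).exists_max_image ρ (by
      obtain ⟨i, hi⟩ := Function.ne_iff.1 h0; exact ⟨i, by simpa using hi⟩)
    simp only [Finset.mem_filter, Finset.mem_univ, true_and] at hj h4
    have h5 : A j j = a := by
      have := congrFun hv j
      rw [mulVec, dotProduct, Finset.sum_eq_single j (fun l _ hl => by_contra fun e =>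
        hl (hρ (le_antisymm (h4 l (right_ne_zero_of_mul e)) (h1 _ _ (left_ne_zero_of_mul e))))) (by simp)] at this
      exact mul_right_cancel₀ hj this
    refine ⟨j, hj, h5, fun i hi e => ?_⟩
    obtain ⟨k, h6, h7, h8⟩ := h2 i j hi (e.trans h5.symm)
    have := congrFun hv k
    rw [mulVec, dotProduct, Finset.sum_eq_add k j (by rintro rfl; omega) (fun l _ hl => by_contra fun e => by
      have := h4 l (right_ne_zero_of_mul e)
      have := h1 _ _ (left_ne_zero_of_mul e)
      have := hρ.ne hl.1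
      have := hρ.ne hl.2
      omega) (by simp) (by simp), h7, h5] at this
    exact mul_ne_zero h8 hj (by simpa using this)
  have k2 : ∀ v : ker (toLin' A - a • 1), A *ᵥ v.1 = a • v.1 := fun v => sub_eq_zero.1 (mem_ker.1 v.2)
  by_cases h4 : ∃ v : ker (toLin' A - a • 1), v.1 ≠ 0
  · obtain ⟨v, hv⟩ := h4
    obtain ⟨j, -, h5, h6⟩ := key _ (k2 v) hv
    refine (finrank_le_finrank_of_injective (f := proj j ∘ₗ (ker (toLin' A - a • 1)).subtype)
      ((injective_iff_map_eq_zero _).2 fun w hw => Subtype.ext (by_contra fun e => ?_))).trans (by simp)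
    obtain ⟨i, h7, h8, h9⟩ := key _ (k2 w) e
    rcases lt_trichotomy (ρ i) (ρ j) with h | h | h
    exacts [h6 i h h8, h7 (hρ h ▸ hw), h9 j h h5]
  · push Not at h4
    rw [finrank_zero_iff_forall_zero.2 fun v => Subtype.ext (h4 v)]; omega

/-- products of elementary matrices -/
def tp {α : Type*} {a b : α → ι} (hab : ∀ i, a i ≠ b i) (t : α → K) (L : List α) : SpecialLinearGroup ι K :=
  (L.map fun i => SpecialLinearGroup.transvection (hab i) (t i)).prod

theorem tp_spec {α : Type*} {a b : α → ι} (hab : ∀ i, a i ≠ b i) (t : α → K) (ρ : ι → ℤ) (hρ : Function.Injective ρ)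
    (h : ∀ i, ρ (a i) + 1 = ρ (b i)) (L : List α) : (∀ i j, (tp hab t L).1 i j ≠ 0 → ρ i ≤ ρ j) ∧
      (∀ i, (tp hab t L).1 i i = 1) ∧
      ∀ k j, ρ k + 1 = ρ j → (tp hab t L).1 k j = (L.map fun i => if a i = k then t i else 0).sum := by
  induction L with
  | nil =>
    refine ⟨fun i j e => ?_, fun i => one_apply_eq i, fun k j e => one_apply_ne (by rintro rfl; omega)⟩
    obtain rfl : i = j := by_contra fun h => e (one_apply_ne h)
    rfl
  | cons x L ih =>
    obtain ⟨h1, h2, h3⟩ := ih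
    have e : ∀ i j, (tp hab t (x :: L)).1 i j = (tp hab t L).1 i j + if a x = i then t x * (tp hab t L).1 (b x) j else 0 :=
      fun i j => by
        change (Matrix.transvection (a x) (b x) (t x) * (tp hab t L).1) i j = _
        split_ifs with e
        · subst e; exact transvection_mul_apply_same _ _ _ _ _
        · rw [transvection_mul_apply_of_ne _ _ _ _ (Ne.symm e), add_zero]
    have := h x
    have h0 : ∀ i j, ρ j < ρ i → (tp hab t L).1 i j = 0 := fun i j e => by_contra fun e' => not_le.2 e (h1 i j e')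
    refine ⟨fun i j => ?_, fun i => ?_, fun k j hk => ?_⟩ <;> rw [e]
    · intro e
      by_contra h4
      refine e (by rw [h0 i j (by omega), zero_add, ite_eq_right_iff]; rintro rfl; rw [h0 _ j (by omega), mul_zero])
    · rw [h2, add_eq_left, ite_eq_right_iff]
      rintro rfl
      rw [h0 _ _ (by omega), mul_zero]
    · rw [h3 k j hk, List.map_cons, List.sum_cons, add_comm]
      congr 1
      split_ifs with e
      · rw [hρ (show ρ (b x) = ρ j by rw [← this, e, hk]), h2, mul_one]
      · rfl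

theorem cp_tp {α : Type*} {a b : α → ι} (hab : ∀ i, a i ≠ b i) {t : α → K} (ρ : ι → ℤ) (hρ : Function.Injective ρ)
    (h : ∀ i, ρ (a i) + 1 = ρ (b i)) {L : List α} (hL : L.Nodup) (ha : Function.Injective a) (ht : ∀ i, t i ≠ 0)
    {d : ι → K} (h0 : ∀ i, d i ≠ 0) (hd : ∀ i j, ρ i < ρ j → d i = d j → ∃ x ∈ L, b x = j ∧ d (a x) = d j) :
    CP (toLin' (diagonal d * (tp hab t L).1)) (Finset.univ.val.map d) ∧
      CP (toLin' ((tp hab t L).1 * diagonal d)) (Finset.univ.val.map d) := by
  classical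
  obtain ⟨h1, h2, h3⟩ := tp_spec hab t ρ hρ h L
  have h4 : ∀ x ∈ L, (tp hab t L).1 (a x) (b x) ≠ 0 := fun x hx => by
    rw [h3 _ _ (h x), ← List.sum_toFinset _ hL]
    simp [ha.eq_iff, hx, ht]
  constructor
  · have := cp_tri (A := diagonal d * (tp hab t L).1) ρ hρ (fun i j e => h1 i j (by simp at e; exact e.2))
      fun i j e1 e2 => by
        simp only [diagonal_mul, h2, mul_one] at e2 ⊢
        obtain ⟨x, hx, rfl, e3⟩ := hd i j e1 e2
        exact ⟨a x, h x, e3, mul_ne_zero (h0 _) (h4 x hx)⟩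
    simpa only [diagonal_mul, h2, mul_one] using this
  · have := cp_tri (A := (tp hab t L).1 * diagonal d) ρ hρ (fun i j e => h1 i j (by simp at e; exact e.1))
      fun i j e1 e2 => by
        simp only [mul_diagonal, h2, one_mul] at e2 ⊢
        obtain ⟨x, hx, rfl, e3⟩ := hd i j e1 e2
        exact ⟨a x, h x, e3, mul_ne_zero (h4 x hx) (h0 _)⟩
    simpa only [mul_diagonal, h2, one_mul] using this

theorem exists_sl (T : (ι → K) ≃ₗ[K] (ι → K)) (h : T.toLinearMap.det = 1) :
    ∃ τ : SpecialLinearGroup ι K, (∀ u, τ.1 *ᵥ u = T u) ∧ ∀ u, (τ⁻¹).1 *ᵥ u = T.symm u := by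
  let τ : SpecialLinearGroup ι K := ⟨toMatrix' T.toLinearMap, by simpa⟩
  have h1 : ∀ u, τ.1 *ᵥ u = T u := fun u => by simp [τ, ← toLin'_apply]
  refine ⟨τ, h1, fun u => ?_⟩
  rw [eq_comm, T.symm_apply_eq, ← h1, mulVec_mulVec, ← Matrix.SpecialLinearGroup.coe_mul]; simp

theorem mat_conj {A B : Matrix ι ι K} {s : Multiset K} {μ : K} (hμ : μ ∉ s) (h : CP (toLin' A) (μ ::ₘ s))
    (h' : CP (toLin' B) (μ ::ₘ s)) : ∃ τ : SpecialLinearGroup ι K, τ.1 * A = B * τ.1 := by
  obtain ⟨T, h1, h2⟩ := h.conj hμ h'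
  obtain ⟨τ, h3, -⟩ := exists_sl T h1
  exact ⟨τ, toLin'.injective (LinearMap.ext fun u => by simpa [← mulVec_mulVec, h3] using h2 u)⟩

theorem mat_fac [Finite K] {A : Matrix ι ι K} {s : Multiset K} {μ : K} (hμ : μ ∉ s) (h : CP (toLin' A) (μ ::ₘ s))
    (h0 : A.det ≠ 0) {P : SpecialLinearGroup ι K} (hP : P ∉ Subgroup.center _) :
    ∃ τ τ' : SpecialLinearGroup ι K, (P * τ).1 * A * (τ⁻¹).1 = τ'.1 * A * (τ'⁻¹).1 := by
  obtain ⟨T, T', h1, h2, h3⟩ := h.fac (P := toLin' P.1) hμ (by simpa) (fun c e => hP (Subgroup.mem_center_iff.2 fun g =>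
    Subtype.ext (by
      have : P.1 = c • 1 := toLin'.injective (by rw [e, map_smul, toLin'_one]; rfl)
      simp [this]))) (by simp)
  obtain ⟨τ, h4, h5⟩ := exists_sl T h1
  obtain ⟨τ', h6, h7⟩ := exists_sl T' h2
  refine ⟨τ, τ', toLin'.injective (LinearMap.ext fun u => ?_)⟩
  simpa only [toLin'_apply, Matrix.SpecialLinearGroup.coe_mul, ← mulVec_mulVec, h4, h5, h6, h7] using h3 u

theorem univ_eq_cons {d : ι → K} {i : ι} (h : ∀ j, d j = d i → j = i) :
    ∃ s, d i ∉ s ∧ Finset.univ.val.map d = d i ::ₘ s :=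
  ⟨(Finset.univ.erase i).val.map d, fun e => by
    obtain ⟨j, hj, e⟩ := Multiset.mem_map.1 e
    exact (Finset.mem_erase.1 hj).1 (h j e), by
    rw [← Multiset.map_cons, ← Finset.cons_val (Finset.notMem_erase i _), Finset.cons_eq_insert,
      Finset.insert_erase (Finset.mem_univ i)]⟩

end Mat

end H11.Th
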