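import Cfsg.Agent.H11.LS3

/-!
# The Weil representation of a finite symplectic group
-/

set_option autoImplicit false
set_option linter.unusedSectionVars false

namespace H11.LS

open Module Finset Matrix

variable {F ι : Type*} [Field F] [Fintype F] [DecidableEq F] [Fintype ι] [DecidableEq ι]
  (ψ : AddChar F ℂ)

/-- Heisenberg operators. -/
def hz (v : ι ⊕ ι → F) : End ℂ ((ι → F) → ℂ) where
  toFun f x := ψ (2 * (v ∘ Sum.inl ⬝ᵥ x) + v ∘ Sum.inl ⬝ᵥ v ∘ Sum.inr) * f (x + v ∘ Sum.inr)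
  map_add' f g := by ext; simp [mul_add]
  map_smul' c f := by ext; simp [mul_left_comm]

theorem hz_apply (v : ι ⊕ ι → F) (f : (ι → F) → ℂ) (x : ι → F) : hz ψ v f x =
  ψ (2 * (v ∘ Sum.inl ⬝ᵥ x) + v ∘ Sum.inl ⬝ᵥ v ∘ Sum.inr) * f (x + v ∘ Sum.inr) := rfl

theorem spB (u v : ι ⊕ ι → F) : (spForm ι F).B u v =
    v ∘ Sum.inl ⬝ᵥ u ∘ Sum.inr - u ∘ Sum.inl ⬝ᵥ v ∘ Sum.inr := by
  rw [spForm_B, J_form_apply]; simp [dotProduct, mul_comm]

theorem hz_mul (u v : ι ⊕ ι → F) :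
    hz ψ u * hz ψ v = ψ ((spForm ι F).B u v) • hz ψ (u + v) := by
  refine LinearMap.ext fun f => funext fun x => ?_
  have h1 : (u + v) ∘ Sum.inl = u ∘ Sum.inl + v ∘ Sum.inl := rfl
  have h2 : (u + v) ∘ Sum.inr = u ∘ Sum.inr + v ∘ Sum.inr := rfl
  simp only [End.mul_apply, hz_apply, LinearMap.smul_apply, Pi.smul_apply, smul_eq_mul, ← mul_assoc,
    ← AddChar.map_add_eq_mul, h1, h2, add_assoc, spB, dotProduct_add, add_dotProduct]
  congr 2
  ring

theorem hz_zero : hz ψ (0 : ι ⊕ ι → F) = 1 := by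
  refine LinearMap.ext fun f => funext fun x => ?_
  simp [hz_apply]

theorem hz_ne_zero (v : ι ⊕ ι → F) : hz ψ v ≠ 0 := fun h => by
  simpa [hz_apply, (ψ.val_isUnit _).ne_zero] using congrFun (LinearMap.congr_fun h 1) 0

variable {ψ} (hψ : ψ ≠ 1) (h2 : (2 : F) ≠ 0)
include hψ h2

theorem hz_li : LinearIndependent ℂ (hz ψ : (ι ⊕ ι → F) → _) := by
  let L : (ι ⊕ ι → F) → End ℂ (End ℂ ((ι → F) → ℂ)) := fun u =>
    LinearMap.mulLeftRight ℂ (hz ψ u, hz ψ (-u))
  have hL : ∀ u v, L u (hz ψ v) = ψ (2 * (spForm ι F).B u v) • hz ψ v := fun u v => by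
    simp only [L, LinearMap.mulLeftRight_apply, hz_mul, smul_mul_assoc, smul_smul,
      ← AddChar.map_add_eq_mul, add_neg_cancel_comm, map_add, map_neg, LinearMap.add_apply,
      alt_B_self, alt_B_swap u v]
    congr 2; ring
  have hc : ∀ u v, Commute (L u) (L v) := fun u v => LinearMap.ext fun T => by
    simp only [L, End.mul_apply, LinearMap.mulLeftRight_apply, ← mul_assoc]
    rw [mul_assoc _ (hz ψ (-v)), mul_assoc _ (hz ψ (-u))]
    simp only [hz_mul, smul_mul_assoc, mul_smul_comm, smul_smul, ← AddChar.map_add_eq_mul, map_neg,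
      LinearMap.neg_apply, neg_neg, add_comm u, add_comm (-u), add_comm ((spForm ι F).B u v)]
  refine linearIndependent_wt hc (χ := fun v u => ψ (2 * (spForm ι F).B u v)) (fun v v' h => ?_)
    (fun v => mem_wt.2 fun u => hL u v) (hz_ne_zero ψ)
  refine sub_eq_zero.1 (spForm_nondeg _ fun u => ?_)
  rw [alt_B_swap, map_sub, neg_eq_zero, sub_eq_zero]
  refine mul_left_cancel₀ h2 (eq_of_psi ψ hψ fun t => ?_)
  have := congrFun h (t • u)
  simp only [alt_B_smul_left] at this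
  simpa [mul_left_comm] using this

/-- The Heisenberg operators form a basis of the endomorphism algebra. -/
noncomputable def hzBasis : Basis (ι ⊕ ι → F) ℂ (End ℂ ((ι → F) → ℂ)) :=
  basisOfLinearIndependentOfCardEqFinrank (hz_li hψ h2) (by
    simp [finrank_linearMap, pow_add])

theorem hzBasis_apply (v : ι ⊕ ι → F) : hzBasis hψ h2 v = hz ψ v := by simp [hzBasis]

omit hψ h2 in
variable (ψ) in
/-- Intertwiners. -/
def Int (g : Matrix (ι ⊕ ι) (ι ⊕ ι) F) (T : End ℂ ((ι → F) → ℂ)) : Prop :=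
  ∀ v, T * hz ψ v = hz ψ (g *ᵥ v) * T

omit hψ h2 in
theorem Int.mul {g h : Matrix (ι ⊕ ι) (ι ⊕ ι) F} {T T' : End ℂ ((ι → F) → ℂ)} (a : Int ψ g T)
    (b : Int ψ h T') : Int ψ (g * h) (T * T') := fun v => by
  rw [mul_assoc, b, ← mul_assoc, a, mulVec_mulVec, mul_assoc]

theorem exists_int (g : symplecticGroup ι F) : ∃ T, IsUnit T ∧ Int ψ g.1 T := by
  let e : (ι ⊕ ι → F) ≃ (ι ⊕ ι → F) := (spEquivIsom g).1.toEquiv
  have he : ∀ v, e v = g.1 *ᵥ v := fun _ => rfl
  let b := hzBasis (ι := ι) hψ h2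
  let α := b.equiv b e
  have hα : ∀ v, α (hz ψ v) = hz ψ (g.1 *ᵥ v) := fun v => by
    rw [← hzBasis_apply hψ h2, ← hzBasis_apply hψ h2]; exact b.equiv_apply _ _ _
  obtain ⟨T, hT⟩ := (AlgEquiv.ofLinearEquiv α (by rw [← hz_zero ψ, hα, mulVec_zero]) (by
    refine (LinearMap.map_mul_iff α.toLinearMap).2 (b.ext fun u => b.ext fun v => ?_)
    simp [b, hzBasis_apply, hz_mul, hα, mulVec_add, (mem_symplecticGroup_iff _).1 g.2])
    ).eq_linearEquivConjAlgEquiv
  refine ⟨T, (End.isUnit_iff _).2 T.bijective, fun v => LinearMap.ext fun f => ?_⟩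
  have := LinearMap.congr_fun ((hα v).symm.trans (DFunLike.congr_fun hT (hz ψ v))) (T f)
  simpa [LinearEquiv.conjAlgEquiv_apply] using this.symm

theorem Int.unique {g : Matrix (ι ⊕ ι) (ι ⊕ ι) F} {T T' : End ℂ ((ι → F) → ℂ)} (a : Int ψ g T)
    (b : Int ψ g T') (hu : IsUnit T') : ∃ c : ℂ, T = c • T' := by
  obtain ⟨u, rfl⟩ := hu
  have h1 : ∀ v, hz ψ v * (u⁻¹.1 * T) = u⁻¹.1 * T * hz ψ v := fun v => by
    rw [mul_assoc, a, ← mul_assoc, ← mul_assoc, (Units.eq_inv_mul_iff_mul_eq u).2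
      (show u.1 * (hz ψ v * u⁻¹.1) = hz ψ (g *ᵥ v) by rw [← mul_assoc, b]; simp)]
  have h3 : u⁻¹.1 * T ∈ Subalgebra.center ℂ (End ℂ ((ι → F) → ℂ)) :=
    Subalgebra.mem_center_iff.2 fun X => LinearMap.congr_fun ((hzBasis hψ h2).ext
      (f₁ := LinearMap.mulRight ℂ _) (f₂ := LinearMap.mulLeft ℂ _) fun v => by
        simpa [hzBasis_apply, mul_assoc] using h1 v) X
  obtain ⟨c, hc⟩ := Algebra.mem_bot.1 (Algebra.IsCentral.out h3)
  exact ⟨c, by rw [← Units.mul_inv_cancel_left u T, ← hc, Algebra.algebraMap_eq_smul_one]; simp⟩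

omit hψ h2 in
variable (F ι) in
/-- The parity operator. -/
def par : End ℂ ((ι → F) → ℂ) := LinearMap.funLeft ℂ ℂ Neg.neg

omit hψ h2 in
theorem par_int : Int ψ (-1) (par F ι) := fun v => LinearMap.ext fun f => funext fun x => by
  have h1 : (-v) ∘ Sum.inl = -(v ∘ Sum.inl) := rfl
  have h2 : (-v) ∘ Sum.inr = -(v ∘ Sum.inr) := rfl
  simp [par, hz_apply, neg_mulVec, h1, h2, add_comm, LinearMap.funLeft_apply]

omit hψ h2 in
theorem par_par : par F ι * par F ι = 1 := LinearMap.ext fun f => funext fun x => by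
  simp [par, LinearMap.funLeft_apply]

omit hψ in
theorem trace_par : LinearMap.trace ℂ _ (par F ι) = 1 := by
  rw [LinearMap.trace_eq_matrix_trace ℂ (Pi.basisFun ℂ _), Matrix.trace, sum_eq_single 0]
  · simp [par, LinearMap.funLeft_apply]
  · intro x _ hx
    have : -x ≠ x := fun h => hx ((smul_eq_zero.1 (show (2 : F) • x = 0 by
      rw [two_smul]; exact neg_eq_iff_add_eq_zero.1 h)).resolve_left h2)
    simp [par, LinearMap.funLeft_apply, this]
  · simp

theorem Int.comm_par {g : Matrix (ι ⊕ ι) (ι ⊕ ι) F} {T : End ℂ ((ι → F) → ℂ)} (a : Int ψ g T)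
    (hu : IsUnit T) : T * par F ι = par F ι * T := by
  obtain ⟨c, hc⟩ := (a.mul par_int).unique hψ h2 (by simpa using par_int.mul a)
    ((IsUnit.of_mul_eq_one _ par_par).mul hu)
  obtain ⟨u, rfl⟩ := hu
  have h1 := congrArg (fun X => LinearMap.trace ℂ _ (X * ↑u⁻¹)) hc
  simp only [smul_mul_assoc, Units.mul_inv_cancel_right, map_smul] at h1
  rw [LinearMap.trace_mul_comm, Units.inv_mul_cancel_left, trace_par h2] at h1
  rw [hc, show c = 1 by simpa using h1.symm, one_smul]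

omit hψ h2 in
variable (F ι) in
/-- Even and odd functions. -/
def pm (c : ℂ) : Submodule ℂ ((ι → F) → ℂ) := (par F ι).eigenspace c

omit hψ in
theorem finrank_pm {c : ℂ} (hc : c * c = 1) :
    (2 * finrank ℂ (pm F ι c) : ℂ) = Fintype.card F ^ Fintype.card ι + c := by
  have h : LinearMap.IsProj (pm F ι c) ((2 : ℂ)⁻¹ • (1 + c • par F ι)) :=
    ⟨fun f => End.mem_eigenspace_iff.2 (by
      rw [← End.mul_apply, mul_smul_comm, mul_add, mul_smul_comm, par_par]
      simp [smul_smul, ← mul_assoc, mul_comm c, mul_assoc _ c, hc, add_comm]), fun f hf => by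
      simp [End.mem_eigenspace_iff.1 hf, smul_smul, hc, ← add_smul, mul_assoc]; norm_num⟩
  rw [← h.trace]
  simp [trace_par h2]; ring

omit hψ h2 in
/-- Restriction to even or odd functions. -/
noncomputable def res (c : ℂ) :
    Submonoid.centralizer {par F ι} →* End ℂ (pm F ι c) where
  toFun T := T.1.restrict (p := pm F ι c) (q := pm F ι c) fun f hf => End.mem_eigenspace_iff.2 (by
    rw [← End.mul_apply, T.2 _ rfl, End.mul_apply, End.mem_eigenspace_iff.1 hf, map_smul])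
  map_one' := rfl
  map_mul' _ _ := rfl

theorem exists_weil : ∃ ω : symplecticGroup ι F →* Submonoid.centralizer {par F ι},
    ∀ g, Int ψ g.1 (ω g).1 := by
  have hd : finrank ℂ (pm F ι 1) = finrank ℂ (pm F ι (-1)) + 1 := by
    have h1 := finrank_pm (ι := ι) h2 (c := 1) (by simp)
    have h3 := finrank_pm (ι := ι) h2 (c := -1) (by simp)
    exact_mod_cast (show (finrank ℂ (pm F ι 1) : ℂ) = finrank ℂ (pm F ι (-1)) + 1 by
      linear_combination (h1 - h3) / 2)
  have hdet : ∀ (c : ℂ) (T : Submonoid.centralizer {par F ι}), IsUnit T.1 →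
      LinearMap.det (res c T) ≠ 0 := fun c T hT =>
    (LinearMap.isUnit_det _ ((LinearMap.isUnit_iff_ker_eq_bot _).2 (LinearMap.ker_eq_bot.2
      fun a b h => Subtype.ext (((End.isUnit_iff _).1 hT).1 (congrArg Subtype.val h))))).ne_zero
  have hsm : ∀ (a c : ℂ) (T T' : Submonoid.centralizer {par F ι}), T.1 = a • T'.1 →
      LinearMap.det (res c T) = a ^ finrank ℂ (pm F ι c) * LinearMap.det (res c T') :=
    fun a c T T' h => by
      rw [← LinearMap.det_smul]
      exact congrArg _ (LinearMap.ext fun f => Subtype.ext (LinearMap.congr_fun h f))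
  let G : symplecticGroup ι F → Submonoid.centralizer {par F ι} → Prop := fun g T =>
    IsUnit T.1 ∧ Int ψ g.1 T.1 ∧ LinearMap.det (res 1 T) = LinearMap.det (res (-1) T)
  have ex : ∀ g, ∃ T, G g T := fun g => by
    obtain ⟨T, hT, hg⟩ := exists_int hψ h2 g
    let T' : Submonoid.centralizer {par F ι} := ⟨T, by
      rintro _ rfl; exact (hg.comm_par hψ h2 hT).symm⟩
    let a := LinearMap.det (res (-1) T') / LinearMap.det (res 1 T')
    have ha : a ≠ 0 := div_ne_zero (hdet _ _ hT) (hdet _ _ hT)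
    refine ⟨⟨a • T, by rintro _ rfl; simp [hg.comm_par hψ h2 hT]⟩, ?_, fun v => by simp [hg v], ?_⟩
    · simpa [Algebra.smul_def] using ((Ne.isUnit ha).map (algebraMap ℂ _)).mul hT
    · rw [hsm a 1 _ T' rfl, hsm a (-1) _ T' rfl, hd, pow_succ, mul_assoc,
        div_mul_cancel₀ _ (hdet _ _ hT)]
  have un : ∀ g T T', G g T → G g T' → T = T' := fun g T T' h h' => by
    obtain ⟨a, ha⟩ := h.2.1.unique hψ h2 h'.2.1 h'.1
    have h1 := h.2.2
    have h3 := hdet (-1) T h.1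
    rw [hsm a 1 _ _ ha, hd, h'.2.2, pow_succ', mul_assoc, ← hsm a (-1) _ _ ha] at h1
    rw [mul_left_eq_self₀.1 h1 |>.resolve_right h3, one_smul] at ha
    exact Subtype.ext ha
  choose T hT using ex
  refine ⟨⟨⟨T, un _ _ _ (hT _) ⟨isUnit_one, fun v => by simp, by simp⟩⟩,
    fun a b => un _ _ _ (hT _) ⟨(hT a).1.mul (hT b).1,
    (hT a).2.1.mul (hT b).2.1, ?_⟩⟩, fun g => (hT g).2.1⟩
  simp only [map_mul, (hT a).2.2, (hT b).2.2]

omit hψ h2 in
theorem int_spX (S : Matrix ι ι F) (hS : Sᵀ = S) :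
    Int ψ (spX S hS).1 (LinearMap.mulLeft ℂ fun x => ψ (-(x ⬝ᵥ S *ᵥ x))) := fun v =>
  LinearMap.ext fun f => funext fun x => by
    have h1 : (S *ᵥ (v ∘ Sum.inr)) ⬝ᵥ x = (v ∘ Sum.inr) ⬝ᵥ S *ᵥ x := by
      rw [dotProduct_mulVec, ← vecMul_transpose, hS]
    simp only [spX, End.mul_apply, LinearMap.mulLeft_apply, Pi.mul_apply, hz_apply,
      fromBlocks_mulVec, Sum.elim_comp_inl, Sum.elim_comp_inr, one_mulVec, zero_mulVec, zero_add,
      ← mul_assoc, ← AddChar.map_add_eq_mul, add_dotProduct, dotProduct_add, mulVec_add, h1,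
      dotProduct_comm x (S *ᵥ (v ∘ Sum.inr)), dotProduct_comm (S *ᵥ (v ∘ Sum.inr)) (v ∘ Sum.inr)]
    congr 2; ring

omit hψ h2 in
theorem int_spL (h g : Matrix ι ι F) (hg : h * g = 1) :
    Int ψ (spL h g hg).1 (LinearMap.funLeft ℂ ℂ fun x => hᵀ *ᵥ x) := fun v =>
  LinearMap.ext fun f => funext fun x => by
    have h1 : ∀ a y, (h *ᵥ a) ⬝ᵥ y = a ⬝ᵥ hᵀ *ᵥ y := fun a y => by
      rw [dotProduct_mulVec, vecMul_transpose]
    simp [spL, hz_apply, LinearMap.funLeft_apply, fromBlocks_mulVec, h1, mulVec_add,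
      ← transpose_mul, mul_eq_one_comm.1 hg]

theorem weil_nontriv {ω : symplecticGroup ι F →* Submonoid.centralizer {par F ι}}
    (hω : ∀ g, Int ψ g.1 (ω g).1) (hι : 2 ≤ Fintype.card ι) (Y : Submodule ℂ (pm F ι (-1)))
    (hY : Y ≠ ⊥) (hinv : ∀ g, ∀ f ∈ Y, res (-1) (ω g) f ∈ Y) :
    ∃ (e : ι → F) (t : F), ∃ f ∈ Y, res (-1) (ω ((spSieg F ι).x e (t • e))) f ≠ f := by
  by_contra! hcon
  obtain ⟨f, hf, hf0⟩ := Submodule.exists_mem_ne_zero_of_ne_bot hY
  obtain ⟨y, hy⟩ : ∃ y, f.1 y ≠ 0 := by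
    by_contra! h; exact hf0 (Subtype.ext (funext h))
  have hy0 : y ≠ 0 := by
    rintro rfl
    have := congrFun (End.mem_eigenspace_iff.1 f.2) 0
    simp [par, LinearMap.funLeft_apply, CharZero.eq_neg_self_iff, hy] at this
  have key : ∀ w : ι → F, w ≠ 0 → ∃ f ∈ Y, f.1 w ≠ 0 := fun w hw => by
    obtain ⟨g, hg, hg'⟩ := trans_of_tv (by simpa using hι)
      (P := fun g : End F (ι → F) => ∀ y, (∃ f ∈ Y, f.1 (g y) ≠ 0) → ∃ f ∈ Y, f.1 y ≠ 0)
      (fun g h hg hh y hy => hh y (hg _ hy)) (fun a φ hφ y ⟨f, hf, hy⟩ => by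
        obtain ⟨m, hm, hm'⟩ := exists_mat_tv a φ hφ
        have h1 : mᵀ * mᵀ⁻¹ = 1 := mul_nonsing_inv _ (by simp [hm])
        have hu : IsUnit (ω (spL _ _ h1)).1 := ((Group.isUnit _).map ω).map (Submonoid.subtype _)
        obtain ⟨c, hc⟩ := (int_spL _ _ h1).unique hψ h2 (hω _) hu
        refine ⟨_, hinv (spL _ _ h1) f hf, fun h => hy ?_⟩
        have := congrFun (LinearMap.congr_fun hc f.1) y
        rw [LinearMap.funLeft_apply, transpose_transpose, hm'] at this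
        rw [this]
        exact mul_eq_zero_of_right c h) hw hy0
    exact hg' w ⟨f, hf, by rwa [hg]⟩
  obtain ⟨i, j, hij⟩ := Fintype.exists_pair_of_one_lt_card hι
  obtain ⟨f₁, h₁, hf₁⟩ := key (Pi.single i 1) (by simp)
  obtain ⟨f₂, h₂, hf₂⟩ := key (Pi.single j 1) (by simp)
  refine h2 (neg_eq_zero.1 (eq_of_psi ψ hψ fun t => ?_))
  have hu : IsUnit (ω ((spSieg F ι).x (Pi.single i 1) (t • Pi.single i 1))).1 :=
    ((Group.isUnit _).map ω).map (Submonoid.subtype _)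
  obtain ⟨c, hc⟩ := Int.unique hψ h2 (int_spX (vecMulVec (Pi.single i 1) (t • Pi.single i 1) +
    vecMulVec (t • Pi.single i 1) (Pi.single i 1)) (by simp [add_comm]))
    (hω ((spSieg F ι).x (Pi.single i 1) (t • Pi.single i 1))) hu
  have e₁ := congrFun (LinearMap.congr_fun hc f₁.1) (Pi.single i 1)
  have e₂ := congrFun (LinearMap.congr_fun hc f₂.1) (Pi.single j 1)
  have g₁ : (ω _).1 f₁.1 = f₁.1 := congrArg Subtype.val (hcon (Pi.single i 1) t f₁ h₁)
  have g₂ : (ω _).1 f₂.1 = f₂.1 := congrArg Subtype.val (hcon (Pi.single i 1) t f₂ h₂)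
  rw [LinearMap.smul_apply, g₁] at e₁
  rw [LinearMap.smul_apply, g₂] at e₂
  simp [vecMulVec_apply, hf₁, hf₂, hij, hij.symm] at e₁ e₂
  rw [mul_zero, AddChar.map_zero_eq_one, ← e₂, ← e₁]
  congr 1; ring

theorem exists_weil_irred (hι : 2 ≤ Fintype.card ι) :
    ∃ ρ : Representation ℂ (symplecticGroup ι F)
      (Fin ((Fintype.card F ^ Fintype.card ι - 1) / 2) → ℂ), ρ.IsIrreducible := by
  obtain ⟨ω, hω⟩ := exists_weil (ι := ι) hψ h2
  have hd : 2 * finrank ℂ (pm F ι (-1)) + 1 = Fintype.card F ^ Fintype.card ι := by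
    have h3 := finrank_pm (ι := ι) h2 (c := -1) (by simp)
    exact_mod_cast (show (2 * finrank ℂ (pm F ι (-1)) + 1 : ℂ) = Fintype.card F ^ Fintype.card ι by
      linear_combination h3)
  have hd' : (Fintype.card F ^ Fintype.card ι - 1) / 2 = finrank ℂ (pm F ι (-1)) := by omega
  rw [hd']
  let e := (Module.finBasis ℂ (pm F ι (-1))).equivFun
  let ρ : Representation ℂ (symplecticGroup ι F) (Fin (finrank ℂ (pm F ι (-1))) → ℂ) :=
    ((e.conjAlgEquiv ℂ).toMonoidHom.comp (res (-1))).comp ω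
  have hρ : ∀ g f, ρ g (e f) = e (res (-1) (ω g) f) := fun g f => by
    simp [ρ, LinearEquiv.conjAlgEquiv_apply]
  have h1 : 1 < Fintype.card F ^ Fintype.card ι :=
    Nat.one_lt_pow (by omega) Fintype.one_lt_card
  have : Nontrivial (Fin (finrank ℂ (pm F ι (-1))) → ℂ) :=
    Module.nontrivial_of_finrank_pos (R := ℂ) (by simp; omega)
  have : Nontrivial (Subrepresentation ρ) :=
    ⟨⊥, ⊤, fun h => bot_ne_top (congrArg Subrepresentation.toSubmodule h)⟩
  refine ⟨ρ, ⟨fun X => or_iff_not_imp_left.2 fun hX => ?_⟩⟩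
  obtain ⟨a, t, f, hf, hf'⟩ := weil_nontriv hψ h2 hω hι (X.toSubmodule.comap e.toLinearMap)
    (fun h => hX (Subrepresentation.toSubmodule_injective (by
      rwa [Submodule.comap_equiv_eq_map_symm, Submodule.map_eq_bot_iff] at h)))
    fun g f hf => by simpa [← hρ] using X.apply_mem_toSubmodule g hf
  have h3 := sp_bound X.toRepresentation
    (Nat.cast_ne_zero.2 (CharP.char_is_prime F (ringChar F)).ne_zero) hι (e := a) (t := t)
    fun h => hf' (e.injective (by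
      rw [← hρ]; exact congrArg Subtype.val (LinearMap.congr_fun h ⟨e f, hf⟩)))
  refine Subrepresentation.toSubmodule_injective (Submodule.eq_top_of_finrank_eq
    (le_antisymm (Submodule.finrank_le _) ?_))
  rw [finrank_fintype_fun_eq_card, Fintype.card_fin]
  omega

end H11.LS
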